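import Cfsg.Agent.StdRank2.L3W.GoodIn
import Cfsg.Agent.StdRank2.L3Data

/-!
# S1778, type `L₃(q)`, wreath case, (W1): no conjugate of `t` normalises `G₁` and `G₂`

`CtFacts A t q`: facts on `C_G(t)`.  `no_fix`: if `G₁`, `G₂` commute and are of type `L₃(q)` (frames `fr₁`, `fr₂`), no
`d` with `CtFacts A' d q` normalises both.
-/

set_option autoImplicit false
set_option linter.unusedSectionVars false

namespace Cfsg.Agent.StdRank2.L3W.NoFix

open Subgroup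
open scoped commutatorElement
open Cfsg.Agent.StdEven.Syl
open Cfsg.Agent.StdRank2.OutL3Rel Cfsg.Agent.StdRank2.OutField Cfsg.Agent.StdRank2.OutL3Inv
open Cfsg.Agent.StdRank2.OutL3Je Cfsg.Agent.StdRank2.OutL3Outer
open Cfsg.Agent.StdRank2.L3W.GoodIn

variable {G : Type*} [Group G]

/-- Facts on `C_G(t)`, `q = |F|`. -/
structure CtFacts (A : Subgroup G) (t : G) (q : ℕ) : Prop where
  tt : t * t = 1
  t_ne : t ≠ 1
  perf : ∀ X : Subgroup G, ⁅X, X⁆ = X → (∀ x ∈ X, x * t = t * x) →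
    X ≤ closure {x | x ∈ X ∧ ∃ k : ℕ, x ^ 2 ^ k = 1} → X ≤ A
  rank : ∀ V : Subgroup G, (∀ x ∈ V, x * x = 1) → (∀ x ∈ V, x * t = t * x) → Nat.card V ≤ 2 * q ^ 2
  inv : ∀ X : Subgroup G, ⁅X, X⁆ = X → X ≤ A → ∀ w ∈ A, w * w = 1 → w ≠ 1 → (∀ x ∈ X, x * w = w * x) → X = ⊥
  sq : q = 4 → ∀ x : G, (∃ k : ℕ, x ^ 2 ^ k = 1) → x * t = t * x → x * x ∈ A ∨ t * (x * x) ∈ A
  q8 : q = 4 → ∀ P : Subgroup G, IsPGroup 2 P → (∀ x ∈ P, x * t = t * x) → t ∉ P → 64 ≤ Nat.card P →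
    {x | x ∈ P ∧ x * x = 1}.ncard ≤ 4 → (∀ x ∈ P, ∀ z ∈ P, z * z = 1 → x * z = z * x) → False

theorem conj_pow' (g x : G) (n : ℕ) : (g * x * g⁻¹) ^ n = g * x ^ n * g⁻¹ := conj_pow

theorem CtFacts.conj [Finite G] {A : Subgroup G} {t : G} {q : ℕ} (h : CtFacts A t q) (g : G) :
    CtFacts (A.map (MulAut.conj g).toMonoidHom) (g * t * g⁻¹) q := by
  have hcom : ∀ {x : G}, x * (g * t * g⁻¹) = (g * t * g⁻¹) * x → (g⁻¹ * x * g) * t = t * (g⁻¹ * x * g) := by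
    intro x hx
    calc g⁻¹ * x * g * t = g⁻¹ * (x * (g * t * g⁻¹)) * g := by group
      _ = g⁻¹ * ((g * t * g⁻¹) * x) * g := by rw [hx]
      _ = _ := by group
  -- the conjugate of a subgroup
  have hmem : ∀ {X : Subgroup G} {x : G}, x ∈ X.map (MulAut.conj g⁻¹).toMonoidHom ↔ g * x * g⁻¹ ∈ X := by
    intro X x
    rw [mem_map_conj, inv_inv]
  have hback : ∀ {X : Subgroup G} {x : G}, x ∈ X → g⁻¹ * x * g ∈ X.map (MulAut.conj g⁻¹).toMonoidHom := by
    intro X x hx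
    rw [hmem]
    have : g * (g⁻¹ * x * g) * g⁻¹ = x := by group
    rwa [this]
  have hcard : ∀ X : Subgroup G, Nat.card (X.map (MulAut.conj g⁻¹).toMonoidHom : Subgroup G) = Nat.card X :=
    fun X => (Nat.card_congr (X.equivMapOfInjective (MulAut.conj g⁻¹).toMonoidHom (MulAut.conj g⁻¹).injective).toEquiv).symm
  have hper : ∀ X : Subgroup G, ⁅X, X⁆ = X →
      ⁅(X.map (MulAut.conj g⁻¹).toMonoidHom : Subgroup G), (X.map (MulAut.conj g⁻¹).toMonoidHom : Subgroup G)⁆ =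
        X.map (MulAut.conj g⁻¹).toMonoidHom := by
    intro X hX
    rw [← map_commutator, hX]
  refine ⟨?_, ?_, ?_, ?_, ?_, ?_, ?_⟩
  · calc g * t * g⁻¹ * (g * t * g⁻¹) = g * (t * t) * g⁻¹ := by group
      _ = 1 := by rw [h.tt]; group
  · intro e
    exact h.t_ne (conj_eq_one_iff.1 e)
  · intro X hX hXt hX2
    have h1 := h.perf (X.map (MulAut.conj g⁻¹).toMonoidHom) (hper X hX) (by
      rintro _ ⟨x, hx, rfl⟩
      show g⁻¹ * x * g⁻¹⁻¹ * t = t * (g⁻¹ * x * g⁻¹⁻¹)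
      rw [inv_inv]
      exact hcom (hXt x hx)) (by
      rw [Subgroup.map_le_iff_le_comap]
      refine hX2.trans ?_
      rw [closure_le]
      rintro x ⟨hx, k, hk⟩
      refine subset_closure ⟨⟨x, hx, rfl⟩, k, ?_⟩
      show (g⁻¹ * x * g⁻¹⁻¹) ^ 2 ^ k = 1
      rw [conj_pow', hk]
      group)
    intro x hx
    rw [mem_map_conj]
    exact h1 (hback hx)
  · intro V hV hVt
    rw [← hcard V]
    refine h.rank _ ?_ ?_
    · intro x hx
      rw [hmem] at hx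
      have h1 := hV _ hx
      have h2 : g * x * g⁻¹ * (g * x * g⁻¹) = g * (x * x) * g⁻¹ := by group
      rw [h2] at h1
      exact conj_eq_one_iff.1 h1
    · intro x hx
      rw [hmem] at hx
      have h1 := hcom (hVt _ hx)
      have h2 : g⁻¹ * (g * x * g⁻¹) * g = x := by group
      rwa [h2] at h1
  · intro X hX hXA w hw hww hw1 hc
    rw [mem_map_conj] at hw
    have h1 := h.inv (X.map (MulAut.conj g⁻¹).toMonoidHom) (hper X hX) (by
      intro x hx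
      rw [hmem] at hx
      have h2 := mem_map_conj.1 (hXA hx)
      have h3 : g⁻¹ * (g * x * g⁻¹) * g = x := by group
      rwa [h3] at h2) _ hw (by
        calc g⁻¹ * w * g * (g⁻¹ * w * g) = g⁻¹ * (w * w) * g := by group
          _ = 1 := by rw [hww]; group) (by
        intro e
        apply hw1
        have h3 : w = g * (g⁻¹ * w * g) * g⁻¹ := by group
        rw [h3, e]; group) (by
      intro x hx
      rw [hmem] at hx
      have h2 := hc _ hx
      calc x * (g⁻¹ * w * g) = g⁻¹ * ((g * x * g⁻¹) * w) * g := by group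
        _ = g⁻¹ * (w * (g * x * g⁻¹)) * g := by rw [h2]
        _ = _ := by group)
    exact (Subgroup.map_eq_bot_iff_of_injective _ (MulAut.conj g⁻¹).injective).1 h1
  · intro hq x hx2 hxt
    obtain ⟨k, hk⟩ := hx2
    have h1 := h.sq hq (g⁻¹ * x * g) ⟨k, by
      have := conj_pow' g⁻¹ x (2 ^ k)
      rw [inv_inv] at this
      rw [this, hk]; group⟩ (hcom hxt)
    rw [mem_map_conj, mem_map_conj]
    have e1 : g⁻¹ * x * g * (g⁻¹ * x * g) = g⁻¹ * (x * x) * g := by group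
    have e2 : t * (g⁻¹ * x * g * (g⁻¹ * x * g)) = g⁻¹ * (g * t * g⁻¹ * (x * x)) * g := by group
    rw [e2, e1] at h1
    exact h1
  · intro hq P hP hPt htP h64 hinv hcen
    refine h.q8 hq (P.map (MulAut.conj g⁻¹).toMonoidHom) (hP.map _) ?_ ?_ ?_ ?_ ?_
    · intro x hx
      rw [hmem] at hx
      have h1 := hcom (hPt _ hx)
      have h2 : g⁻¹ * (g * x * g⁻¹) * g = x := by group
      rwa [h2] at h1
    · intro ht
      rw [hmem] at ht
      exact htP ht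
    · rw [hcard]; exact h64
    · refine le_trans ?_ hinv
      have h1 : {x | x ∈ P.map (MulAut.conj g⁻¹).toMonoidHom ∧ x * x = 1} ⊆
          (fun x => g⁻¹ * x * g) '' {x | x ∈ P ∧ x * x = 1} := by
        rintro x ⟨hx, hxx⟩
        rw [hmem] at hx
        refine ⟨g * x * g⁻¹, ⟨hx, ?_⟩, by group⟩
        calc g * x * g⁻¹ * (g * x * g⁻¹) = g * (x * x) * g⁻¹ := by group
          _ = 1 := by rw [hxx]; group
      exact (Set.ncard_le_ncard h1 (Set.toFinite _)).trans (Set.ncard_image_le (Set.toFinite _))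
    · intro x hx z hz hzz
      rw [hmem] at hx hz
      have h1 := hcen _ hx _ hz (by
        calc g * z * g⁻¹ * (g * z * g⁻¹) = g * (z * z) * g⁻¹ := by group
          _ = 1 := by rw [hzz]; group)
      calc x * z = g⁻¹ * ((g * x * g⁻¹) * (g * z * g⁻¹)) * g := by group
        _ = g⁻¹ * ((g * z * g⁻¹) * (g * x * g⁻¹)) * g := by rw [h1]
        _ = z * x := by group

/-! ### Lemmas on elementary abelian subgroups -/

section elem

/-- join of two commuting elementary abelian subgroups -/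
theorem elem_sup {V W : Subgroup G} (hc : ∀ x ∈ V, ∀ y ∈ W, x * y = y * x) : ∀ x ∈ V ⊔ W, ∃ v ∈ V, ∃ w ∈ W, x = v * w := by
  intro x hx
  have hn : W ≤ normalizer (V : Set G) := by
    intro w hw
    rw [mem_normalizer_iff]
    intro v
    constructor
    · intro hv
      rw [← hc v hv w hw, mul_inv_cancel_right]
      exact hv
    · intro hv
      have h1 := hc _ hv w hw
      have h2 : w * v * w⁻¹ * w = w * (w * v * w⁻¹) := h1
      have h3 : v = w * v * w⁻¹ := by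
        have : w * v = w * (w * v * w⁻¹) := by rw [← h2]; group
        exact mul_left_cancel this
      rw [h3]; exact hv
  have h1 : x ∈ ((V ⊔ W : Subgroup G) : Set G) := hx
  rw [coe_mul_of_right_le_normalizer_left V W hn] at h1
  obtain ⟨v, hv, w, hw, h⟩ := h1
  exact ⟨v, hv, w, hw, h.symm⟩

theorem sup_sq {V W : Subgroup G} (hV : ∀ x ∈ V, x * x = 1) (hW : ∀ x ∈ W, x * x = 1)
    (hc : ∀ x ∈ V, ∀ y ∈ W, x * y = y * x) : ∀ x ∈ V ⊔ W, x * x = 1 := by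
  intro x hx
  obtain ⟨v, hv, w, hw, rfl⟩ := elem_sup hc x hx
  calc v * w * (v * w) = v * (w * v) * w := by group
    _ = v * (v * w) * w := by rw [hc v hv w hw]
    _ = (v * v) * (w * w) := by group
    _ = 1 := by rw [hV v hv, hW w hw, one_mul]

theorem sup_comm {V W : Subgroup G} {d : G} (hV : ∀ x ∈ V, x * d = d * x) (hW : ∀ x ∈ W, x * d = d * x) :
    ∀ x ∈ V ⊔ W, x * d = d * x := by
  have h1 : V ⊔ W ≤ centralizer {d} := sup_le
    (fun x hx => mem_centralizer_singleton_iff.2 (hV x hx)) (fun x hx => mem_centralizer_singleton_iff.2 (hW x hx))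
  exact fun x hx => mem_centralizer_singleton_iff.1 (h1 hx)

theorem card_sup_ge [Finite G] {V W : Subgroup G} (hd : ∀ x ∈ V, x ∈ W → x = 1) :
    Nat.card V * Nat.card W ≤ Nat.card (V ⊔ W : Subgroup G) := by
  rw [← Nat.card_prod]
  refine Nat.card_le_card_of_injective (fun p : V × W =>
    (⟨p.1 * p.2, mul_mem (mem_sup_left p.1.2) (mem_sup_right p.2.2)⟩ : (V ⊔ W : Subgroup G))) ?_
  rintro ⟨⟨v, hv⟩, ⟨w, hw⟩⟩ ⟨⟨v', hv'⟩, ⟨w', hw'⟩⟩ h
  have h1 : v * w = v' * w' := congrArg Subtype.val h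
  have h2 : v'⁻¹ * v = w' * w⁻¹ := by
    rw [inv_mul_eq_iff_eq_mul, ← mul_assoc, ← h1, mul_inv_cancel_right]
  have h3 : v'⁻¹ * v = 1 := hd _ (mul_mem (inv_mem hv') hv) (by rw [h2]; exact mul_mem hw' (inv_mem hw))
  have h4 : v = v' := (inv_mul_eq_one.1 h3).symm
  subst h4
  have h5 : w = w' := mul_left_cancel h1
  subst h5
  rfl

end elem

/-- an involution normalising a nontrivial subgroup of exponent two centralises an involution of it -/
theorem exists_fixed {W : Subgroup G} (hW : ∀ x ∈ W, x * x = 1) {d : G} (hdd : d * d = 1)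
    (hd : ∀ x ∈ W, d * x * d⁻¹ ∈ W) {z : G} (hz : z ∈ W) (hz1 : z ≠ 1) :
    ∃ i ∈ W, i * i = 1 ∧ i ≠ 1 ∧ i * d = d * i := by
  have hdi : d⁻¹ = d := inv_eq_of_mul_eq_one_left hdd
  have hc : ∀ x ∈ W, ∀ y ∈ W, x * y = y * x := fun x hx y hy => FrameL3.comm_of_sq hW hx hy
  by_cases h1 : z * (d * z * d⁻¹) = 1
  · refine ⟨z, hz, hW z hz, hz1, ?_⟩
    have h2 : d * z * d⁻¹ = z := by
      have h3 : d * z * d⁻¹ = z⁻¹ := eq_inv_of_mul_eq_one_right h1
      rw [h3]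
      exact inv_eq_of_mul_eq_one_left (hW z hz)
    rw [mul_inv_eq_iff_eq_mul] at h2
    exact h2.symm
  · refine ⟨z * (d * z * d⁻¹), mul_mem hz (hd z hz), hW _ (mul_mem hz (hd z hz)), h1, ?_⟩
    have h2 : d * (z * (d * z * d⁻¹)) * d⁻¹ = z * (d * z * d⁻¹) := by
      calc d * (z * (d * z * d⁻¹)) * d⁻¹ = (d * z * d⁻¹) * ((d * d) * z * (d⁻¹ * d⁻¹)) := by group
        _ = (d * z * d⁻¹) * z := by rw [hdi, hdd, one_mul, mul_one]
        _ = z * (d * z * d⁻¹) := by rw [hc _ (hd z hz) z hz]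
    rw [mul_inv_eq_iff_eq_mul] at h2
    exact h2.symm

section main

variable [Finite G] {F : Type*} [Field F] [Finite F] [CharP F 2]

/-- common elements of two commuting groups with odd centre, of order 2 -/
theorem eq_one_of_both {G₁ G₂ : Subgroup G} (hZ₁ : Odd (Nat.card (center ↥G₁)))
    (hcomm : ∀ x ∈ G₁, ∀ y ∈ G₂, x * y = y * x) {x : G} (h1 : x ∈ G₁) (h2 : x ∈ G₂) {k : ℕ} (hx : x ^ 2 ^ k = 1) :
    x = 1 := by
  have h3 : (⟨x, h1⟩ : G₁) ∈ center ↥G₁ := by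
    rw [mem_center_iff]
    rintro ⟨y, hy⟩
    exact Subtype.ext (hcomm y hy x h2)
  have h4 : orderOf (⟨⟨x, h1⟩, h3⟩ : center ↥G₁) ∣ Nat.card (center ↥G₁) := orderOf_dvd_natCard _
  have h5 : orderOf (⟨⟨x, h1⟩, h3⟩ : center ↥G₁) ∣ 2 ^ k := by
    rw [orderOf_dvd_iff_pow_eq_one]
    exact Subtype.ext (Subtype.ext hx)
  obtain ⟨j, -, hj⟩ := (Nat.dvd_prime_pow Nat.prime_two).1 h5
  have h6 : j = 0 := by
    by_contra hne
    have h7 : 2 ∣ Nat.card (center ↥G₁) := (dvd_pow_self 2 hne).trans (hj ▸ h4)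
    exact (Nat.not_even_iff_odd.mpr hZ₁) (even_iff_two_dvd.mpr h7)
  rw [h6, pow_zero, orderOf_eq_one_iff] at hj
  exact congrArg (fun z : center ↥G₁ => ((z : G₁) : G)) hj

/-- an elementary abelian subgroup of order `q²` containing a given element with square 1 -/
theorem exists_elem {A : Subgroup G} (fr : FrameL3 A F) (hZ : Odd (Nat.card (center ↥A))) {a : G} (ha : a ∈ A)
    (haa : a * a = 1) : ∃ V : Subgroup G, V ≤ A ∧ (∀ x ∈ V, x * x = 1) ∧ a ∈ V ∧ Nat.card V = Nat.card F ^ 2 := by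
  by_cases ha1 : a = 1
  · exact ⟨fr.Row 0, fr.Row_le 0, fun x hx => fr.Row_sq hZ hx, by rw [ha1]; exact one_mem _, fr.card_Row hZ 0⟩
  · obtain ⟨y, hy, h⟩ := fr.involution_conj hZ ha haa ha1
    refine ⟨(fr.Row 0).map (MulAut.conj y⁻¹).toMonoidHom, ?_, ?_, ?_, ?_⟩
    · rintro _ ⟨x, hx, rfl⟩
      exact mul_mem (mul_mem (inv_mem hy) (fr.Row_le 0 hx)) (inv_mem (inv_mem hy))
    · rintro _ ⟨x, hx, rfl⟩
      rw [← map_mul, fr.Row_sq hZ hx, map_one]
    · rw [mem_map_conj, inv_inv, h]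
      exact fr.x_mem_Row (by decide) 1
    · rw [← fr.card_Row hZ 0]
      exact (Nat.card_congr ((fr.Row 0).equivMapOfInjective (MulAut.conj y⁻¹).toMonoidHom
        (MulAut.conj y⁻¹).injective).toEquiv).symm

/-- an involution inducing an inner automorphism: the inner part can be chosen with square 1. -/
theorem exists_sq_one {A : Subgroup G} (hZ : Odd (Nat.card (center ↥A))) {d : G} (hdd : d * d = 1)
    (h : ∃ a ∈ A, a⁻¹ * d ∈ centralizer (A : Set G)) :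
    ∃ a ∈ A, a * a = 1 ∧ a⁻¹ * d ∈ centralizer (A : Set G) := by
  obtain ⟨a, ha, hc⟩ := h
  have hc' : ∀ x ∈ A, x * (a⁻¹ * d) = (a⁻¹ * d) * x := fun x hx => mem_centralizer_iff.1 hc x hx
  set z := a⁻¹ * d with hz
  have hd : d = a * z := by rw [hz]; group
  have haz : a * z = z * a := hc' a ha
  have h1 : (a * a) * (z * z) = 1 := by
    calc (a * a) * (z * z) = a * (a * z) * z := by group
      _ = a * (z * a) * z := by rw [haz]
      _ = (a * z) * (a * z) := by group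
      _ = 1 := by rw [← hd, hdd]
  have h2 : a * a ∈ centralizer (A : Set G) := by
    rw [eq_inv_of_mul_eq_one_left h1]
    exact inv_mem (mul_mem hc hc)
  have h3 : (⟨a * a, mul_mem ha ha⟩ : A) ∈ center ↥A := by
    rw [mem_center_iff]
    rintro ⟨y, hy⟩
    exact Subtype.ext (mem_centralizer_iff.1 h2 y hy)
  obtain ⟨m, hm⟩ := hZ
  have h4 : (a * a) ^ (2 * m + 1) = 1 := by
    have := pow_card_eq_one' (x := (⟨⟨a * a, mul_mem ha ha⟩, h3⟩ : center ↥A))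
    rw [hm] at this
    exact congrArg (fun z : center ↥A => ((z : A) : G)) this
  refine ⟨a ^ (2 * m + 1), pow_mem ha _, ?_, ?_⟩
  · rw [← (Commute.refl a).mul_pow]; exact h4
  · have h5 : (a ^ (2 * m + 1))⁻¹ * d = ((a * a) ^ m)⁻¹ * z := by
      rw [hd, pow_succ', pow_mul, pow_two]
      group
    rw [h5]
    exact mul_mem (inv_mem (pow_mem h2 m)) hc

/-- **inner case** -/
theorem inner_false {A' : Subgroup G} {d : G} (C : CtFacts A' d (Nat.card F)) {G₁ G₂ : Subgroup G}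
    (fr₁ : FrameL3 G₁ F) (fr₂ : FrameL3 G₂ F) (hZ₁ : Odd (Nat.card (center ↥G₁))) (hZ₂ : Odd (Nat.card (center ↥G₂)))
    (hcomm : ∀ x ∈ G₁, ∀ y ∈ G₂, x * y = y * x) (hq : 4 ≤ Nat.card F)
    (hd₂ : ∀ u ∈ fr₂.U, d * u * d⁻¹ ∈ fr₂.U)
    (hin : ∃ a ∈ G₁, a⁻¹ * d ∈ centralizer (G₁ : Set G)) : False := by
  obtain ⟨a, ha, haa, hc⟩ := exists_sq_one hZ₁ C.tt hin
  have hc' : ∀ x ∈ G₁, x * (a⁻¹ * d) = (a⁻¹ * d) * x := fun x hx => mem_centralizer_iff.1 hc x hx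
  obtain ⟨V, hVG, hV2, haV, hVc⟩ := exists_elem fr₁ hZ₁ ha haa
  have hVcomm : ∀ x ∈ V, ∀ y ∈ V, x * y = y * x := fun x hx y hy => FrameL3.comm_of_sq hV2 hx hy
  -- `d` centralises `V`
  have hVd : ∀ x ∈ V, x * d = d * x := by
    intro x hx
    have h1 := hc' x (hVG hx)
    have h2 := hVcomm x hx a haV
    calc x * d = x * a * (a⁻¹ * d) := by group
      _ = a * (x * (a⁻¹ * d)) := by rw [h2]; group
      _ = a * ((a⁻¹ * d) * x) := by rw [h1]
      _ = d * x := by group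
  -- an involution of `Z(U₂)` centralised by `d`
  set W₂ : Subgroup G := fr₂.U ⊓ centralizer (fr₂.U : Set G) with hW₂
  have hW₂mem : ∀ {x : G}, x ∈ W₂ → ∃ c, x = fr₂.x 0 2 c := by
    rintro x ⟨h1, h2⟩
    exact fr₂.mem_center_U hZ₂ h1 fun v hv => (mem_centralizer_iff.1 h2 v hv).symm
  have hW₂sq : ∀ x ∈ W₂, x * x = 1 := by
    intro x hx
    obtain ⟨c, rfl⟩ := hW₂mem hx
    exact fr₂.two (by decide) c
  have hx02 : fr₂.x 0 2 1 ∈ W₂ := by
    refine ⟨fr₂.x_mem_U (by decide) 1, ?_⟩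
    show fr₂.x 0 2 1 ∈ centralizer _
    rw [mem_centralizer_iff]
    intro v hv
    obtain ⟨r, s, t, rfl⟩ := (mem_U fr₂ hZ₂).1 hv
    rw [← u_t fr₂ hZ₂, u_comm_iff fr₂ hZ₂, mul_zero, zero_mul]
  have hnorm : ∀ x ∈ W₂, d * x * d⁻¹ ∈ W₂ := by
    rintro x ⟨h1, h2⟩
    refine ⟨hd₂ x h1, ?_⟩
    show d * x * d⁻¹ ∈ centralizer _
    rw [mem_centralizer_iff]
    intro v hv
    have h3 : d⁻¹ * v * d ∈ fr₂.U := conj_inv_mem_of_mem_normalizer (mem_normalizer_of_conj_le hd₂) hv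
    have h4 := mem_centralizer_iff.1 h2 _ h3
    calc v * (d * x * d⁻¹) = d * ((d⁻¹ * v * d) * x) * d⁻¹ := by group
      _ = d * (x * (d⁻¹ * v * d)) * d⁻¹ := by rw [h4]
      _ = _ := by group
  obtain ⟨i, hiW, hii, hi1, hid⟩ := exists_fixed hW₂sq C.tt hnorm hx02 (x_ne_one hZ₂ (by decide))
  obtain ⟨c, hic⟩ := hW₂mem hiW
  have hi2 : i ∈ G₂ := fr₂.U_le hiW.1
  -- the elementary abelian group `V₂` of `G₂`
  set V₂ := fr₂.Row 0 with hV₂
  have hiV₂ : i ∈ V₂ := by rw [hic]; exact fr₂.x_mem_Row (by decide) c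
  have hV₂2 : ∀ x ∈ V₂, x * x = 1 := fun x hx => fr₂.Row_sq hZ₂ hx
  have hV₂c : Nat.card V₂ = Nat.card F ^ 2 := fr₂.card_Row hZ₂ 0
  have hdis : ∀ x ∈ V, x ∈ V₂ → x = 1 := fun x hx hx2 =>
    eq_one_of_both hZ₁ hcomm (hVG hx) (fr₂.Row_le 0 hx2) (k := 1) (by rw [pow_one, pow_two, hV2 x hx])
  have hVV₂ : ∀ x ∈ V, ∀ y ∈ V₂, x * y = y * x := fun x hx y hy => hcomm x (hVG hx) y (fr₂.Row_le 0 hy)
  -- `E₁ = V ⟨i⟩`
  have hzi : ∀ x ∈ zpowers i, x = 1 ∨ x = i := by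
    intro x hx
    obtain ⟨n, rfl⟩ := mem_zpowers_iff.1 hx
    rcases Int.even_or_odd n with ⟨m, rfl⟩ | ⟨m, rfl⟩
    · left; rw [zpow_add, ← (Commute.refl i).mul_zpow, hii, one_zpow]
    · right; rw [zpow_add, zpow_one, two_mul, zpow_add, ← (Commute.refl i).mul_zpow, hii, one_zpow, one_mul]
  have hzi2 : ∀ x ∈ zpowers i, x * x = 1 := by
    intro x hx
    rcases hzi x hx with rfl | rfl
    · exact one_mul 1
    · exact hii
  have hVzi : ∀ x ∈ V, ∀ y ∈ zpowers i, x * y = y * x := by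
    intro x hx y hy
    rcases hzi y hy with rfl | rfl
    · rw [mul_one, one_mul]
    · exact hcomm x (hVG hx) _ hi2
  have hzid : ∀ x ∈ zpowers i, x * d = d * x := by
    intro x hx
    rcases hzi x hx with rfl | rfl
    · rw [mul_one, one_mul]
    · exact hid
  have hcardzi : Nat.card (zpowers i) = 2 := by
    rw [Nat.card_zpowers]
    exact orderOf_eq_prime (by rw [pow_two, hii]) hi1
  have hdzi : ∀ x ∈ V, x ∈ zpowers i → x = 1 := by
    intro x hx hxi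
    rcases hzi x hxi with h | h
    · exact h
    · exact hdis x hx (h ▸ hiV₂)
  set E₁ := V ⊔ zpowers i with hE₁
  have hE₁2 := sup_sq hV2 hzi2 hVzi
  have hE₁d := sup_comm hVd hzid
  have hE₁c := card_sup_ge hdzi
  rw [hVc, hcardzi] at hE₁c
  by_cases hdE : d ∈ E₁
  · -- `d ∈ G₁ G₂`
    obtain ⟨v, hv, w, hw, hvw⟩ := elem_sup hVzi d hdE
    have hwV₂ : w ∈ V₂ := by
      rcases hzi w hw with rfl | rfl
      · exact one_mem _
      · exact hiV₂
    have hV₂d : ∀ x ∈ V₂, x * d = d * x := by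
      intro x hx
      rw [hvw, ← mul_assoc, ← hVV₂ v hv x hx, mul_assoc, FrameL3.comm_of_sq hV₂2 hx hwV₂, ← mul_assoc]
    have h1 := C.rank (V ⊔ V₂) (sup_sq hV2 hV₂2 hVV₂) (sup_comm hVd hV₂d)
    have h2 := card_sup_ge hdis
    rw [hVc, hV₂c] at h2
    have h3 : 4 * 4 ≤ Nat.card F ^ 2 := by rw [pow_two]; exact Nat.mul_le_mul hq hq
    nlinarith
  · -- `⟨d⟩ V ⟨i⟩` has order `4 q²`
    have hzd : ∀ x ∈ zpowers d, x * x = 1 := by
      intro x hx
      obtain ⟨n, rfl⟩ := mem_zpowers_iff.1 hx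
      rw [← (Commute.refl d).mul_zpow, C.tt, one_zpow]
    have hE₁zd : ∀ x ∈ E₁, ∀ y ∈ zpowers d, x * y = y * x := by
      intro x hx y hy
      obtain ⟨n, rfl⟩ := mem_zpowers_iff.1 hy
      exact (show Commute x d from hE₁d x hx).zpow_right n
    have hzdd : ∀ x ∈ zpowers d, x * d = d * x := by
      intro x hx
      obtain ⟨n, rfl⟩ := mem_zpowers_iff.1 hx
      exact ((Commute.refl d).zpow_left n)
    have hdis2 : ∀ x ∈ E₁, x ∈ zpowers d → x = 1 := by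
      intro x hx hxd
      obtain ⟨n, rfl⟩ := mem_zpowers_iff.1 hxd
      rcases Int.even_or_odd n with ⟨m, rfl⟩ | ⟨m, rfl⟩
      · rw [zpow_add, ← (Commute.refl d).mul_zpow, C.tt, one_zpow]
      · exfalso
        apply hdE
        have h1 : d ^ (2 * m + 1) = d := by
          rw [zpow_add, zpow_one, two_mul, zpow_add, ← (Commute.refl d).mul_zpow, C.tt, one_zpow, one_mul]
        rwa [h1] at hx
    have h1 := C.rank (E₁ ⊔ zpowers d) (sup_sq hE₁2 hzd hE₁zd) (sup_comm hE₁d hzdd)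
    have h2 := card_sup_ge hdis2
    have h3 : Nat.card (zpowers d) = 2 := by
      rw [Nat.card_zpowers]
      exact orderOf_eq_prime (by rw [pow_two, C.tt]) C.t_ne
    rw [h3] at h2
    have h4 : 4 * 4 ≤ Nat.card F ^ 2 := by rw [pow_two]; exact Nat.mul_le_mul hq hq
    nlinarith

/-- an outer involution normalising `U` -/
theorem side {A : Subgroup G} (fr : FrameL3 A F) (hZ : Odd (Nat.card (center ↥A))) (hA : _root_.commutator ↥A = ⊤)
    (hq : 4 ≤ Nat.card F) {d : G} (hdd : d * d = 1) (hdA : d ∈ normalizer (A : Set G))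
    (hdU : ∀ u ∈ fr.U, d * u * d⁻¹ ∈ fr.U) (hout : ¬ ∃ a ∈ A, a⁻¹ * d ∈ centralizer (A : Set G)) :
    GoodIn A d ∨ ∃ fr' : FrameL3 A F, GF fr' d := by
  set T := fr.U ⊔ zpowers d with hT
  have hdn : d ∈ normalizer (fr.U : Set G) := mem_normalizer_of_conj_le hdU
  have hzn : zpowers d ≤ normalizer (fr.U : Set G) := (zpowers_le).2 hdn
  have hz2 : IsPGroup 2 (zpowers d) := by
    rintro ⟨x, hx⟩
    obtain ⟨n, rfl⟩ := mem_zpowers_iff.1 hx
    refine ⟨1, Subtype.ext ?_⟩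
    show (d ^ n) ^ 2 ^ 1 = 1
    rw [pow_one, pow_two, ← (Commute.refl d).mul_zpow, hdd, one_zpow]
  have hTp : IsPGroup 2 T := by
    have h1 := IsPGroup.to_sup_of_normal_left' (fr.isPGroup_U hZ) hz2 hzn
    exact h1
  have hTA : T ≤ normalizer (A : Set G) := sup_le (fr.U_le.trans le_normalizer) ((zpowers_le).2 hdA)
  have hTU : ∀ y ∈ T, ∀ u ∈ fr.U, y * u * y⁻¹ ∈ fr.U := by
    intro y hy u hu
    have h1 : T ≤ normalizer (fr.U : Set G) := sup_le le_normalizer hzn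
    exact conj_mem_of_mem_normalizer (h1 hy) hu
  obtain ⟨c, hc⟩ := OutL3Je.exists_adapted fr hZ T hTp hTA hTU
  rcases GoodIn.good_or hZ hc hTA hA hq (mem_sup_right (mem_zpowers d)) hdd hout with h | h
  · exact Or.inl h
  · exact Or.inr ⟨_, h⟩

/-- the element of order 4 centralised by a graph-field involution over `F₄` -/
theorem gf_order4 {A : Subgroup G} {fr : FrameL3 A F} (hZ : Odd (Nat.card (center ↥A))) {d : G} (h : GF fr d) :
    ∃ x ∈ A, x * d = d * x ∧ x * x ≠ 1 ∧ (x * x) * (x * x) = 1 := by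
  obtain ⟨w, hw, σ, h1, h2, h4, hfix, hf⟩ := h
  obtain ⟨t, ht⟩ := exists_trace h2 h1 (map_one σ)
  have h5 : (w * d * w⁻¹) * u fr 1 1 t = u fr 1 1 t * (w * d * w⁻¹) := by
    rw [comm_iff_grf hZ hf]
    refine ⟨map_one σ, map_one σ, ?_⟩
    rw [map_add, mul_one, map_one, ← ht]
    have h6 : σ t + (t + σ t) = t + (σ t + σ t) := by ring
    rw [h6, CharTwo.add_self_eq_zero, add_zero]
  have h02 : (0 : Fin 3) ≠ 2 := by decide
  have h6 : u fr 1 1 t * u fr 1 1 t = fr.x 0 2 1 := by rw [u_sq fr hZ, mul_one, u_t fr hZ]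
  have h7 : w⁻¹ * u fr 1 1 t * w * (w⁻¹ * u fr 1 1 t * w) = w⁻¹ * fr.x 0 2 1 * w := by
    rw [← h6]; group
  refine ⟨w⁻¹ * u fr 1 1 t * w, mul_mem (mul_mem (inv_mem (fr.U_le hw)) (fr.U_le (u_mem fr _ _ _))) (fr.U_le hw), ?_,
    ?_, ?_⟩
  · calc w⁻¹ * u fr 1 1 t * w * d = w⁻¹ * (u fr 1 1 t * (w * d * w⁻¹)) * w := by group
      _ = w⁻¹ * ((w * d * w⁻¹) * u fr 1 1 t) * w := by rw [h5]
      _ = _ := by group
  · rw [h7]
    intro h8
    apply x_ne_one hZ (fr := fr) h02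
    have h9 : fr.x 0 2 1 = w * (w⁻¹ * fr.x 0 2 1 * w) * w⁻¹ := by group
    rw [h9, h8]; group
  · rw [h7]
    calc w⁻¹ * fr.x 0 2 1 * w * (w⁻¹ * fr.x 0 2 1 * w) = w⁻¹ * (fr.x 0 2 1 * fr.x 0 2 1) * w := by group
      _ = 1 := by rw [fr.two h02 1]; group

/-- the quaternion group centralised by a graph-field involution over `F₄` -/
theorem gf_q8 {A : Subgroup G} {fr : FrameL3 A F} (hZ : Odd (Nat.card (center ↥A))) {d : G} (h : GF fr d) :
    ∃ Q : Subgroup G, Q ≤ A ∧ IsPGroup 2 Q ∧ (∀ x ∈ Q, x * d = d * x) ∧ 8 ≤ Nat.card Q ∧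
      ∃ z ∈ A, (∀ x ∈ Q, x * x = 1 → x = 1 ∨ x = z) ∧ ∀ x ∈ Q, x * z = z * x := by
  obtain ⟨w, hw, σ, h1, h2, h4, hfix, hf⟩ := h
  have h02 : (0 : Fin 3) ≠ 2 := by decide
  have hσσ : ∀ r, σ (σ r) = r := fun r => by
    have := congrArg (fun τ : F ≃+* F => τ r) h2
    exact this
  have hcen : ∀ v ∈ fr.U, v * fr.x 0 2 1 = fr.x 0 2 1 * v := by
    intro v hv
    obtain ⟨r, s, t, rfl⟩ := (mem_U fr hZ).1 hv
    rw [← u_t fr hZ, u_comm_iff fr hZ, mul_zero, zero_mul]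
  refine ⟨fr.U ⊓ centralizer {d}, inf_le_left.trans fr.U_le, (fr.isPGroup_U hZ).to_le inf_le_left,
    fun x hx => mem_centralizer_singleton_iff.1 hx.2, ?_, fr.x 0 2 1, fr.mem h02 1, ?_, fun x hx => hcen x hx.1⟩
  · -- eight elements
    have htr : ∀ r : F, ∃ t : F, t + σ t = r * σ r := fun r =>
      exists_trace h2 h1 (by rw [map_mul, hσσ, mul_comm])
    choose τ hτ using htr
    have hcard : Nat.card (F × Bool) = 8 := by rw [Nat.card_prod, h4, Nat.card_eq_fintype_card, Fintype.card_bool]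
    rw [← hcard]
    have hmem : ∀ p : F × Bool, w⁻¹ * u fr p.1 (σ p.1) (τ p.1 + if p.2 then 1 else 0) * w ∈ fr.U ⊓ centralizer {d} := by
      rintro ⟨r, b⟩
      have h5 : (w * d * w⁻¹) * u fr r (σ r) (τ r + if b then 1 else 0) =
          u fr r (σ r) (τ r + if b then 1 else 0) * (w * d * w⁻¹) := by
        rw [comm_iff_grf hZ hf]
        refine ⟨hσσ r, rfl, ?_⟩
        have h6 : σ (if b then (1 : F) else 0) = if b then 1 else 0 := by
          cases b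
          · exact map_zero σ
          · exact map_one σ
        rw [map_add, map_add, h6, map_mul, hσσ, mul_comm (σ r), ← hτ r]
        have h7 : σ (τ r) + (if b then (1 : F) else 0) + (τ r + σ (τ r)) =
            τ r + (if b then 1 else 0) + (σ (τ r) + σ (τ r)) := by ring
        rw [h7, CharTwo.add_self_eq_zero, add_zero]
      refine ⟨fr.U.mul_mem (fr.U.mul_mem (fr.U.inv_mem hw) (u_mem fr _ _ _)) hw, ?_⟩
      show _ ∈ centralizer {d}
      rw [mem_centralizer_singleton_iff]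
      show w⁻¹ * u fr r (σ r) (τ r + if b then 1 else 0) * w * d = d * (w⁻¹ * u fr r (σ r) (τ r + if b then 1 else 0) * w)
      generalize u fr r (σ r) (τ r + if b then 1 else 0) = y at h5
      calc w⁻¹ * y * w * d = w⁻¹ * (y * (w * d * w⁻¹)) * w := by group
        _ = w⁻¹ * ((w * d * w⁻¹) * y) * w := by rw [h5]
        _ = _ := by group
    refine Nat.card_le_card_of_injective (fun p : F × Bool =>
      (⟨_, hmem p⟩ : (fr.U ⊓ centralizer {d} : Subgroup G))) ?_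
    rintro ⟨r, b⟩ ⟨r', b'⟩ he
    have h5 : w⁻¹ * u fr r (σ r) (τ r + if b then 1 else 0) * w =
      w⁻¹ * u fr r' (σ r') (τ r' + if b' then 1 else 0) * w := congrArg Subtype.val he
    have h6 := mul_left_cancel (mul_right_cancel h5)
    obtain ⟨rfl, -, h7⟩ := u_inj fr h6
    have h8 := add_left_cancel h7
    have h9 : b = b' := by
      cases b <;> cases b' <;> simp at h8 ⊢
    rw [h9]
  · intro x hx hxx
    have hxU : w * x * w⁻¹ ∈ fr.U := mul_mem (mul_mem hw hx.1) (inv_mem hw)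
    obtain ⟨r, s, t, he⟩ := (mem_U fr hZ).1 hxU
    have h5 : (w * d * w⁻¹) * u fr r s t = u fr r s t * (w * d * w⁻¹) := by
      rw [← he]
      have h6 := mem_centralizer_singleton_iff.1 hx.2
      calc w * d * w⁻¹ * (w * x * w⁻¹) = w * (d * x) * w⁻¹ := by group
        _ = w * (x * d) * w⁻¹ := by rw [h6]
        _ = _ := by group
    rw [comm_iff_grf hZ hf] at h5
    obtain ⟨h6, h7, h8⟩ := h5
    have h9 : u fr r s t * u fr r s t = 1 := by
      rw [← he]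
      calc w * x * w⁻¹ * (w * x * w⁻¹) = w * (x * x) * w⁻¹ := by group
        _ = 1 := by rw [hxx]; group
    rw [u_sq fr hZ, u_t fr hZ, fr.x_eq_one hZ h02] at h9
    have h10 : r = 0 := by
      rcases mul_eq_zero.1 h9 with h | h
      · exact h
      · rw [h, map_zero] at h6; exact h6.symm
    subst h10
    rw [map_zero] at h7
    subst h7
    rw [mul_zero, add_zero] at h8
    have h11 : x = w⁻¹ * (w * x * w⁻¹) * w := by group
    rcases hfix t h8 with rfl | rfl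
    · left
      rw [h11, he, u_zero fr hZ]; group
    · right
      rw [h11, he, u_t fr hZ, mul_assoc, ← hcen w hw]; group

/-- the main case: `d` normalises `U₁` and `U₂`. -/
theorem no_fix_aux {A' : Subgroup G} {d : G} (C : CtFacts A' d (Nat.card F)) {G₁ G₂ : Subgroup G}
    (fr₁ : FrameL3 G₁ F) (fr₂ : FrameL3 G₂ F) (hZ₁ : Odd (Nat.card (center ↥G₁))) (hZ₂ : Odd (Nat.card (center ↥G₂)))
    (hG₁ : _root_.commutator ↥G₁ = ⊤) (hG₂ : _root_.commutator ↥G₂ = ⊤)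
    (hcomm : ∀ x ∈ G₁, ∀ y ∈ G₂, x * y = y * x) (hq : 4 ≤ Nat.card F)
    (hN₁ : d ∈ normalizer (G₁ : Set G)) (hN₂ : d ∈ normalizer (G₂ : Set G))
    (hd₁ : ∀ u ∈ fr₁.U, d * u * d⁻¹ ∈ fr₁.U) (hd₂ : ∀ u ∈ fr₂.U, d * u * d⁻¹ ∈ fr₂.U) : False := by
  have hcomm' : ∀ x ∈ G₂, ∀ y ∈ G₁, x * y = y * x := fun x hx y hy => (hcomm y hy x hx).symm
  by_cases hin₁ : ∃ a ∈ G₁, a⁻¹ * d ∈ centralizer (G₁ : Set G)
  · exact inner_false C fr₁ fr₂ hZ₁ hZ₂ hcomm hq hd₂ hin₁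
  by_cases hin₂ : ∃ a ∈ G₂, a⁻¹ * d ∈ centralizer (G₂ : Set G)
  · exact inner_false C fr₂ fr₁ hZ₂ hZ₁ hcomm' hq hd₁ hin₂
  -- one side good, the other contains an element of order 4
  have mixed : ∀ {K L : Subgroup G}, (∀ x ∈ K, ∀ y ∈ L, x * y = y * x) → GoodIn K d →
      (¬ ∃ a ∈ L, a⁻¹ * d ∈ centralizer (L : Set G)) → ∀ fr : FrameL3 L F, Odd (Nat.card (center ↥L)) → GF fr d →
      False := by
    intro K L hKL hK hL fr hZL hgf
    obtain ⟨B, hBK, hB1, hBd, hB2, w, hwB, hww, hw1⟩ := hK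
    have h4 : Nat.card F = 4 := by obtain ⟨_, _, _, _, _, h4, _⟩ := hgf; exact h4
    obtain ⟨x, hxL, hxd, hxx, hxxx⟩ := gf_order4 hZL hgf
    have hBA := C.perf B hB1 hBd hB2
    have hxc : ∀ y ∈ B, y * (x * x) = (x * x) * y := fun y hy => by
      have := hKL y (hBK hy) x hxL
      rw [← mul_assoc, this, mul_assoc, this, ← mul_assoc]
    have hbot : B ≠ ⊥ := by
      rintro rfl
      exact hw1 (mem_bot.1 hwB)
    rcases C.sq h4 x ⟨2, by rw [show (2 : ℕ) ^ 2 = 2 + 2 by norm_num, pow_add, pow_two]; exact hxxx⟩ hxd with h | h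
    · exact hbot (C.inv B hB1 hBA (x * x) h hxxx hxx hxc)
    · refine hbot (C.inv B hB1 hBA (d * (x * x)) h ?_ ?_ ?_)
      · have h5 : (x * x) * d = d * (x * x) := by rw [mul_assoc, hxd, ← mul_assoc, hxd, mul_assoc]
        calc d * (x * x) * (d * (x * x)) = d * ((x * x) * d) * (x * x) := by group
          _ = (d * d) * ((x * x) * (x * x)) := by rw [h5]; group
          _ = 1 := by rw [C.tt, hxxx, one_mul]
      · intro h5
        apply hL
        refine ⟨x * x, mul_mem hxL hxL, ?_⟩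
        have h6 : d = x * x := by
          have h7 : d = (x * x)⁻¹ := eq_inv_of_mul_eq_one_left h5
          rw [h7]
          exact inv_eq_of_mul_eq_one_left hxxx
        rw [h6, inv_mul_cancel]
        exact one_mem _
      · intro y hy
        rw [← mul_assoc, hBd y hy, mul_assoc, hxc y hy, ← mul_assoc]
  rcases side fr₁ hZ₁ hG₁ hq C.tt hN₁ hd₁ hin₁ with g₁ | ⟨f₁, g₁⟩
  · rcases side fr₂ hZ₂ hG₂ hq C.tt hN₂ hd₂ hin₂ with g₂ | ⟨f₂, g₂⟩
    · -- both good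
      obtain ⟨B, hBK, hB1, hBd, hB2, w, hwB, hww, hw1⟩ := g₁
      obtain ⟨B', hBK', hB1', hBd', hB2', w', hwB', hww', hw1'⟩ := g₂
      have hBA := C.perf B hB1 hBd hB2
      have hBA' := C.perf B' hB1' hBd' hB2'
      have h1 := C.inv B hB1 hBA w' (hBA' hwB') hww' hw1' (fun x hx => hcomm x (hBK hx) w' (hBK' hwB'))
      rw [h1] at hwB
      exact hw1 (mem_bot.1 hwB)
    · exact mixed hcomm g₁ hin₂ f₂ hZ₂ g₂
  · rcases side fr₂ hZ₂ hG₂ hq C.tt hN₂ hd₂ hin₂ with g₂ | ⟨f₂, g₂⟩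
    · exact mixed hcomm' g₂ hin₁ f₁ hZ₁ g₁
    · -- both graph-field
      have h4 : Nat.card F = 4 := by obtain ⟨_, _, _, _, _, h4, _⟩ := g₁; exact h4
      obtain ⟨Q₁, hQA₁, hQp₁, hQd₁, hQ8₁, z₁, hz₁, hQz₁, hQc₁⟩ := gf_q8 hZ₁ g₁
      obtain ⟨Q₂, hQA₂, hQp₂, hQd₂, hQ8₂, z₂, hz₂, hQz₂, hQc₂⟩ := gf_q8 hZ₂ g₂
      have hQQ : ∀ x ∈ Q₁, ∀ y ∈ Q₂, x * y = y * x := fun x hx y hy => hcomm x (hQA₁ hx) y (hQA₂ hy)
      have hdec := elem_sup hQQ
      have hsq : ∀ x₁ ∈ Q₁, ∀ x₂ ∈ Q₂, (x₁ * x₂) * (x₁ * x₂) = 1 → x₁ * x₁ = 1 ∧ x₂ * x₂ = 1 := by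
        intro x₁ hx₁ x₂ hx₂ h5
        have h6 : (x₁ * x₁) * (x₂ * x₂) = 1 := by
          rw [← h5]
          calc (x₁ * x₁) * (x₂ * x₂) = x₁ * (x₁ * x₂) * x₂ := by group
            _ = x₁ * (x₂ * x₁) * x₂ := by rw [hQQ x₁ hx₁ x₂ hx₂]
            _ = _ := by group
        obtain ⟨k, hk⟩ := hQp₁ ⟨x₁ * x₁, mul_mem hx₁ hx₁⟩
        have h7 : x₁ * x₁ = 1 := by
          refine eq_one_of_both hZ₁ hcomm (mul_mem (hQA₁ hx₁) (hQA₁ hx₁)) ?_ (k := k) (congrArg Subtype.val hk)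
          rw [eq_inv_of_mul_eq_one_left h6]
          exact inv_mem (mul_mem (hQA₂ hx₂) (hQA₂ hx₂))
        rw [h7, one_mul] at h6
        exact ⟨h7, h6⟩
      have hinv : ∀ x ∈ Q₁ ⊔ Q₂, x * x = 1 → ∃ a b : G, (a = 1 ∨ a = z₁) ∧ (b = 1 ∨ b = z₂) ∧ x = a * b := by
        intro x hx hxx
        obtain ⟨x₁, hx₁, x₂, hx₂, rfl⟩ := hdec x hx
        obtain ⟨h5, h6⟩ := hsq x₁ hx₁ x₂ hx₂ hxx
        exact ⟨x₁, x₂, hQz₁ x₁ hx₁ h5, hQz₂ x₂ hx₂ h6, rfl⟩
      refine C.q8 h4 (Q₁ ⊔ Q₂) ?_ (sup_comm hQd₁ hQd₂) ?_ ?_ ?_ ?_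
      · rintro ⟨x, hx⟩
        obtain ⟨x₁, hx₁, x₂, hx₂, rfl⟩ := hdec x hx
        obtain ⟨k₁, hk₁⟩ := hQp₁ ⟨x₁, hx₁⟩
        obtain ⟨k₂, hk₂⟩ := hQp₂ ⟨x₂, hx₂⟩
        have e₁ : x₁ ^ 2 ^ k₁ = 1 := congrArg Subtype.val hk₁
        have e₂ : x₂ ^ 2 ^ k₂ = 1 := congrArg Subtype.val hk₂
        refine ⟨k₁ + k₂, Subtype.ext ?_⟩
        show (x₁ * x₂) ^ 2 ^ (k₁ + k₂) = 1
        rw [(show Commute x₁ x₂ from hQQ x₁ hx₁ x₂ hx₂).mul_pow, pow_add, pow_mul, e₁, one_pow, one_mul, mul_comm,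
          pow_mul, e₂, one_pow]
      · intro hd
        obtain ⟨x₁, hx₁, x₂, hx₂, he⟩ := hdec d hd
        apply hin₁
        refine ⟨x₁, hQA₁ hx₁, ?_⟩
        rw [he, inv_mul_cancel_left, mem_centralizer_iff]
        exact fun y hy => hcomm y hy x₂ (hQA₂ hx₂)
      · have h5 : ∀ x ∈ Q₁, x ∈ Q₂ → x = 1 := by
          intro x hx hx'
          obtain ⟨k, hk⟩ := hQp₁ ⟨x, hx⟩
          exact eq_one_of_both hZ₁ hcomm (hQA₁ hx) (hQA₂ hx') (k := k) (congrArg Subtype.val hk)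
        have h6 := card_sup_ge h5
        have h7 := Nat.mul_le_mul hQ8₁ hQ8₂
        omega
      · have h5 : {x | x ∈ Q₁ ⊔ Q₂ ∧ x * x = 1} ⊆ {1, z₂, z₁, z₁ * z₂} := by
          rintro x ⟨hx, hxx⟩
          obtain ⟨a, b, rfl | rfl, rfl | rfl, rfl⟩ := hinv x hx hxx
          · left; rw [one_mul]
          · right; left; rw [one_mul]
          · right; right; left; rw [mul_one]
          · right; right; right; rfl
        refine (Set.ncard_le_ncard h5 (Set.toFinite _)).trans ?_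
        refine (Set.ncard_insert_le _ _).trans ?_
        have h6 := Set.ncard_insert_le z₂ ({z₁, z₁ * z₂} : Set G)
        have h7 := Set.ncard_insert_le z₁ ({z₁ * z₂} : Set G)
        rw [Set.ncard_singleton] at h7
        omega
      · intro x hx z hz hzz
        obtain ⟨x₁, hx₁, x₂, hx₂, rfl⟩ := hdec x hx
        obtain ⟨a, b, ha, hb, rfl⟩ := hinv z hz hzz
        have e1 : x₁ * a = a * x₁ := by
          rcases ha with rfl | rfl
          · rw [mul_one, one_mul]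
          · exact hQc₁ x₁ hx₁
        have e2 : x₂ * b = b * x₂ := by
          rcases hb with rfl | rfl
          · rw [mul_one, one_mul]
          · exact hQc₂ x₂ hx₂
        have e3 : x₂ * a = a * x₂ := by
          rcases ha with rfl | rfl
          · rw [mul_one, one_mul]
          · exact hcomm' x₂ (hQA₂ hx₂) _ hz₁
        have e4 : x₁ * b = b * x₁ := by
          rcases hb with rfl | rfl
          · rw [mul_one, one_mul]
          · exact hcomm x₁ (hQA₁ hx₁) _ hz₂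
        calc x₁ * x₂ * (a * b) = x₁ * (x₂ * a) * b := by group
          _ = (x₁ * a) * (x₂ * b) := by rw [e3]; group
          _ = (a * x₁) * (b * x₂) := by rw [e1, e2]
          _ = a * (x₁ * b) * x₂ := by group
          _ = _ := by rw [e4]; group

/-- an involution normalising `A` normalises a conjugate of `U` -/
theorem exists_norm_U {A : Subgroup G} (fr : FrameL3 A F) (hZ : Odd (Nat.card (center ↥A))) {d : G} (hdd : d * d = 1)
    (hdA : d ∈ normalizer (A : Set G)) :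
    ∃ a ∈ A, ∀ u ∈ fr.U, (a⁻¹ * d * a) * u * (a⁻¹ * d * a)⁻¹ ∈ fr.U := by
  have hz2 : IsPGroup 2 (zpowers d) := by
    rintro ⟨x, hx⟩
    obtain ⟨n, rfl⟩ := mem_zpowers_iff.1 hx
    refine ⟨1, Subtype.ext ?_⟩
    show (d ^ n) ^ 2 ^ 1 = 1
    rw [pow_one, pow_two, ← (Commute.refl d).mul_zpow, hdd, one_zpow]
  have hN : A ⊔ zpowers d ≤ normalizer (A : Set G) := sup_le le_normalizer ((zpowers_le).2 hdA)
  obtain ⟨S, hS, hdS⟩ := exists_isSyl hz2 (le_sup_right : zpowers d ≤ A ⊔ zpowers d)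
  have hSA : IsSyl (S ⊓ A) A := hS.inf_normal le_sup_left hN
  have hU := L3Data.isSyl_U hZ fr
  obtain ⟨n, hn, hc⟩ := hSA.exists_conj hU.two hU.le
  have he : fr.U.map (MulAut.conj n).toMonoidHom = S ⊓ A := by
    apply Subgroup.eq_of_le_of_card_ge
    · rintro _ ⟨x, hx, rfl⟩
      exact hc x hx
    · rw [← Nat.card_congr (fr.U.equivMapOfInjective (MulAut.conj n).toMonoidHom (MulAut.conj n).injective).toEquiv]
      exact hU.card_le hSA.two hSA.le
  refine ⟨n, hn, fun u hu => ?_⟩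
  have h1 : n * u * n⁻¹ ∈ S ⊓ A := hc u hu
  have hdS' : d ∈ S := hdS (mem_zpowers d)
  have h2 : d * (n * u * n⁻¹) * d⁻¹ ∈ S ⊓ A :=
    ⟨S.mul_mem (S.mul_mem hdS' h1.1) (S.inv_mem hdS'), conj_mem_of_mem_normalizer hdA h1.2⟩
  rw [← he, mem_map_conj] at h2
  have h3 : n⁻¹ * (d * (n * u * n⁻¹) * d⁻¹) * n = (n⁻¹ * d * n) * u * (n⁻¹ * d * n)⁻¹ := by group
  rwa [h3] at h2

/-- **(W1)**: no conjugate of `t` normalises both `G₁` and `G₂`. -/
theorem no_fix {A : Subgroup G} {t : G} (C : CtFacts A t (Nat.card F)) {G₁ G₂ : Subgroup G}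
    (fr₁ : FrameL3 G₁ F) (fr₂ : FrameL3 G₂ F) (hZ₁ : Odd (Nat.card (center ↥G₁))) (hZ₂ : Odd (Nat.card (center ↥G₂)))
    (hG₁ : _root_.commutator ↥G₁ = ⊤) (hG₂ : _root_.commutator ↥G₂ = ⊤)
    (hcomm : ∀ x ∈ G₁, ∀ y ∈ G₂, x * y = y * x) (hq : 4 ≤ Nat.card F) (g : G)
    (hN₁ : g * t * g⁻¹ ∈ normalizer (G₁ : Set G)) (hN₂ : g * t * g⁻¹ ∈ normalizer (G₂ : Set G)) : False := by
  have hdd : (g * t * g⁻¹) * (g * t * g⁻¹) = 1 := (C.conj g).tt
  obtain ⟨a₁, ha₁, h₁⟩ := exists_norm_U fr₁ hZ₁ hdd hN₁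
  obtain ⟨a₂, ha₂, h₂⟩ := exists_norm_U fr₂ hZ₂ hdd hN₂
  have hc2 : G₂ ≤ centralizer (G₁ : Set G) := fun y hy => mem_centralizer_iff.2 fun x hx => hcomm x hx y hy
  have hc1 : G₁ ≤ centralizer (G₂ : Set G) := fun x hx => mem_centralizer_iff.2 fun y hy => (hcomm x hx y hy).symm
  have hcn : ∀ K : Subgroup G, centralizer (K : Set G) ≤ normalizer (K : Set G) := by
    intro K x hx
    rw [mem_normalizer_iff]
    intro y
    constructor
    · intro hy
      rw [← mem_centralizer_iff.1 hx y hy, mul_inv_cancel_right]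
      exact hy
    · intro hy
      have h3 := mem_centralizer_iff.1 hx _ hy
      have h4 : y = x * y * x⁻¹ := by
        have h5 : x * y = x * (x * y * x⁻¹) := by rw [← h3]; group
        exact mul_left_cancel h5
      rw [h4]; exact hy
  have hbN₁ : a₁ * a₂ ∈ normalizer (G₁ : Set G) := mul_mem (le_normalizer ha₁) (hcn _ (hc2 ha₂))
  have hbN₂ : a₁ * a₂ ∈ normalizer (G₂ : Set G) := mul_mem (hcn _ (hc1 ha₁)) (le_normalizer ha₂)
  set d := g * t * g⁻¹ with hd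
  have e0 : ((a₁ * a₂)⁻¹ * g) * t * ((a₁ * a₂)⁻¹ * g)⁻¹ = (a₁ * a₂)⁻¹ * d * (a₁ * a₂) := by rw [hd]; group
  have C' := C.conj ((a₁ * a₂)⁻¹ * g)
  rw [e0] at C'
  refine no_fix_aux C' fr₁ fr₂ hZ₁ hZ₂ hG₁ hG₂ hcomm hq (mul_mem (mul_mem (inv_mem hbN₁) hN₁) hbN₁)
    (mul_mem (mul_mem (inv_mem hbN₂) hN₂) hbN₂) ?_ ?_
  · intro u hu
    have h3 := h₁ u hu
    have h4 : a₂ * u * a₂⁻¹ = u := by rw [← hcomm u (fr₁.U_le hu) a₂ ha₂, mul_inv_cancel_right]
    have h5 := hcomm _ (fr₁.U_le h3) a₂ ha₂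
    have e1 : (a₁ * a₂)⁻¹ * d * (a₁ * a₂) * u * ((a₁ * a₂)⁻¹ * d * (a₁ * a₂))⁻¹ =
        a₂⁻¹ * ((a₁⁻¹ * d * a₁) * (a₂ * u * a₂⁻¹) * (a₁⁻¹ * d * a₁)⁻¹) * a₂ := by group
    rw [e1, h4, mul_assoc, h5, inv_mul_cancel_left]
    exact h3
  · intro u hu
    have h3 := h₂ u hu
    have h4 : a₁ * u * a₁⁻¹ = u := by rw [hcomm a₁ ha₁ u (fr₂.U_le hu), mul_inv_cancel_right]
    have h5 := hcomm a₁ ha₁ _ (fr₂.U_le h3)
    have e1 : (a₁ * a₂)⁻¹ * d * (a₁ * a₂) * u * ((a₁ * a₂)⁻¹ * d * (a₁ * a₂))⁻¹ =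
        a₁⁻¹ * ((a₂⁻¹ * d * a₂) * (a₁ * u * a₁⁻¹) * (a₂⁻¹ * d * a₂)⁻¹) * a₁ := by
      rw [hcomm a₁ ha₁ a₂ ha₂]; group
    rw [e1, h4, mul_assoc, ← h5, inv_mul_cancel_left]
    exact h3

end main

end Cfsg.Agent.StdRank2.L3W.NoFix
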