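import Mathlib
import Cfsg.Agent.StdRank2.L3W.NoFix
import Cfsg.Agent.StdEven.Perf
import Cfsg.Agent.Wreath.DOneTransfer

/-!
# S1778, type `L₃(q)`: the facts `CtFacts` on `C_G(t)`
-/

set_option autoImplicit false
set_option linter.unusedSectionVars false
set_option linter.dupNamespace false

namespace Cfsg.Agent.StdRank2.L3W.CtFacts

open Subgroup
open scoped commutatorElement
open Cfsg.Agent.SignalizersComponents Cfsg.Agent.StdEven.Syl Cfsg.Agent.StdEven.Loc
open Cfsg.Agent.StdRank2.OutL3Rel Cfsg.Agent.StdRank2.OutField Cfsg.Agent.StdRank2.OutL3Inv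
open Cfsg.Agent.StdRank2.OutL3Je Cfsg.Agent.StdRank2.L3Data
open Cfsg.Agent.StdRank2.L3W.NoFix

variable {G : Type*} [Group G] [Finite G] {L A : Subgroup G} {t : G} {T : Subgroup G}
  {F : Type*} [Field F] [Finite F] [CharP F 2] {fr : FrameL3 A F}

/-! ### Two counting lemmas -/

omit [Finite G] in
theorem card_le_fib [Finite G] {E : Type*} [Finite E] (R : Subgroup G) (S : Set G) (f : G → E)
    (h : ∀ x ∈ R, ∀ y ∈ R, f x = f y → x⁻¹ * y ∈ S) : Nat.card R ≤ Nat.card E * S.ncard := by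
  classical
  let rep : E → G := fun b => if hb : ∃ y ∈ R, f y = b then hb.choose else 1
  have hrep : ∀ x ∈ R, rep (f x) ∈ R ∧ f (rep (f x)) = f x := by
    intro x hx
    have hb : ∃ y ∈ R, f y = f x := ⟨x, hx, rfl⟩
    have e : rep (f x) = hb.choose := dif_pos hb
    rw [e]
    exact hb.choose_spec
  have h1 : Nat.card (E × ↥S) = Nat.card E * S.ncard := by
    rw [Nat.card_prod]; rfl
  rw [← h1]
  apply Nat.card_le_card_of_injective (fun x : R => ((f x, ⟨(rep (f x))⁻¹ * x,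
    h _ (hrep x x.2).1 x x.2 (hrep x x.2).2⟩) : E × ↥S))
  rintro ⟨x, hx⟩ ⟨y, hy⟩ hxy
  have h2 := congrArg Prod.fst hxy
  have h3 := congrArg (fun p => ((Prod.snd p : ↥S) : G)) hxy
  simp only at h2 h3
  rw [h2] at h3
  exact Subtype.ext (mul_left_cancel h3)

omit [CharP F 2] in
/-- Automorphisms of `F₄` are involutive. -/
theorem aut_sq [CharP F 2] (hq : Nat.card F = 4) (σ : F ≃+* F) : σ * σ = 1 := by
  classical
  ext v
  show σ (σ v) = v
  by_cases h0 : v = 0
  · rw [h0, map_zero, map_zero]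
  by_cases h1 : v = 1
  · rw [h1, map_one, map_one]
  have hs0 : σ v ≠ 0 := fun e => h0 (σ.injective (by rw [e, map_zero]))
  have hs1 : σ v ≠ 1 := fun e => h1 (σ.injective (by rw [e, map_one]))
  have h11 : (1 : F) + 1 = 0 := CharTwo.add_self_eq_zero 1
  have hv1 : v + 1 ≠ 0 := fun e => h1 (by
    calc v = v + (1 + 1) := by rw [h11, add_zero]
      _ = (v + 1) + 1 := by rw [add_assoc]
      _ = 1 := by rw [e, zero_add])
  have hv2 : v + 1 ≠ 1 := fun e => h0 (by
    calc v = (v + 1) + 1 := by rw [add_assoc, h11, add_zero]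
      _ = 0 := by rw [e, h11])
  have hv3 : v ≠ v + 1 := fun e => one_ne_zero (α := F) (by
    have : v + 0 = v + 1 := by rw [add_zero]; exact e
    exact (add_left_cancel this).symm)
  have key : σ v = v ∨ σ v = v + 1 := by
    by_contra hcon
    push Not at hcon
    have hF : Fintype F := Fintype.ofFinite F
    have hcard : ({0, 1, v, v + 1, σ v} : Finset F).card = 5 := by
      rw [Finset.card_insert_of_notMem, Finset.card_insert_of_notMem, Finset.card_insert_of_notMem,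
        Finset.card_insert_of_notMem, Finset.card_singleton]
      · simp only [Finset.mem_singleton]
        exact fun e => hcon.2 e.symm
      · simp only [Finset.mem_singleton, Finset.mem_insert, not_or]
        exact ⟨hv3, fun e => hcon.1 e.symm⟩
      · simp only [Finset.mem_singleton, Finset.mem_insert, not_or]
        exact ⟨fun e => h1 e.symm, fun e => hv2 e.symm, fun e => hs1 e.symm⟩
      · simp only [Finset.mem_singleton, Finset.mem_insert, not_or]
        exact ⟨fun e => one_ne_zero e.symm, fun e => h0 e.symm, fun e => hv1 e.symm, fun e => hs0 e.symm⟩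
    have h2 := Finset.card_le_univ ({0, 1, v, v + 1, σ v} : Finset F)
    rw [hcard, ← Nat.card_eq_fintype_card, hq] at h2
    omega
  rcases key with e | e
  · rw [e, e]
  · rw [e, map_add, map_one, e, add_assoc, h11, add_zero]

/-! ### `T` and `C(t)` -/

/-- 2-subgroups of `C(t)` are conjugate into `T`. -/
theorem exists_conj_T (h : Sit L A t T fr) {P : Subgroup G} (hP : IsPGroup 2 P) (hPt : ∀ x ∈ P, x * t = t * x) :
    ∃ n : G, n * t = t * n ∧ n ∈ normalizer (A : Set G) ∧ ∀ x ∈ P, n * x * n⁻¹ ∈ T := by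
  have hle : centralizer ({t} : Set G) ≤ normalizer (A : Set G) := fun x hx =>
    mem_normalizer_of_comm h.conf.std h.conf.ht h.conf.htA (mem_centralizer_singleton_iff.1 hx)
  have hT : T ≤ centralizer ({t} : Set G) := fun x hx => mem_centralizer_singleton_iff.2 (h.isT.cent x hx)
  have hs : IsSyl T (centralizer ({t} : Set G)) := h.isT.syl.mono hT hle
  obtain ⟨n, hn, hc⟩ := hs.exists_conj hP (fun x hx => mem_centralizer_singleton_iff.2 (hPt x hx))
  exact ⟨n, mem_centralizer_singleton_iff.1 hn, hle hn, hc⟩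

theorem rank (h : Sit L A t T fr) {V : Subgroup G} (hV : ∀ x ∈ V, x * x = 1) (hVt : ∀ x ∈ V, x * t = t * x) :
    Nat.card V ≤ 2 * Nat.card F ^ 2 := by
  have hP : IsPGroup 2 V := fun x => ⟨1, by
    apply Subtype.ext
    rw [pow_one, pow_two]
    exact hV x x.2⟩
  obtain ⟨n, hnt, hnA, hc⟩ := exists_conj_T h hP hVt
  set E := V.map (MulAut.conj n).toMonoidHom with hE
  have hcard : Nat.card E = Nat.card V :=
    (Nat.card_congr (V.equivMapOfInjective (MulAut.conj n).toMonoidHom (MulAut.conj n).injective).toEquiv).symm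
  rw [← hcard]
  by_contra hlt
  push Not at hlt
  have hET : E ≤ T := by
    rintro _ ⟨x, hx, rfl⟩
    exact hc x hx
  have hE2 : ∀ x ∈ E, x * x = 1 := by
    rintro _ ⟨x, hx, rfl⟩
    show n * x * n⁻¹ * (n * x * n⁻¹) = 1
    calc n * x * n⁻¹ * (n * x * n⁻¹) = n * (x * x) * n⁻¹ := by group
      _ = 1 := by rw [hV x hx]; group
  have h0 : (E : Set G).ncard = Nat.card E := rfl
  rcases OutL3JeMain.je h.hZ h.perfect h.isT.syl.le h.had h.U_le h.conf.htA h.isT.uniq h.four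
        h.isT.mem h.t_ne h.tt hET (fun x hx y hy => FrameL3.comm_of_sq hE2 hx hy) hE2 hlt.le with h1 | h1
  · have h2 : (E : Set G).ncard ≤ 2 * (OutL3JeMain.S1 fr).ncard := by
      apply OutField.ncard_le_two t
      intro y hy
      obtain ⟨r, z, h3 | h3⟩ := (h1 y).1 hy
      · exact Or.inl ⟨r, z, h3⟩
      · exact Or.inr ⟨r, z, by rw [h3, inv_mul_cancel_left]⟩
    rw [OutL3JeMain.ncard_S1] at h2
    exact absurd h2 (not_le.2 hlt)
  · have h2 : (E : Set G).ncard ≤ 2 * (OutL3JeMain.S2 fr).ncard := by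
      apply OutField.ncard_le_two t
      intro y hy
      obtain ⟨r, z, h3 | h3⟩ := (h1 y).1 hy
      · exact Or.inl ⟨r, z, h3⟩
      · exact Or.inr ⟨r, z, by rw [h3, inv_mul_cancel_left]⟩
    rw [OutL3JeMain.ncard_S2] at h2
    exact absurd h2 (not_le.2 hlt)

/-! ### The centraliser of an involution of `A` -/

/-- `U Z(A)` -/
def UZ (fr : FrameL3 A F) : Subgroup G where
  carrier := {g | ∃ u ∈ fr.U, ∃ z ∈ A, (∀ a ∈ A, z * a = a * z) ∧ g = u * z}
  mul_mem' := by
    rintro x y ⟨u, hu, z, hz, hc, rfl⟩ ⟨u', hu', z', hz', hc', rfl⟩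
    refine ⟨u * u', mul_mem hu hu', z * z', mul_mem hz hz', fun a ha => ?_, ?_⟩
    · rw [mul_assoc, hc' a ha, ← mul_assoc, hc a ha, mul_assoc]
    · calc u * z * (u' * z') = u * (z * u') * z' := by group
        _ = u * (u' * z) * z' := by rw [hc u' (fr.U_le hu')]
        _ = _ := by group
  one_mem' := ⟨1, one_mem _, 1, one_mem _, fun a _ => by rw [one_mul, mul_one], by rw [one_mul]⟩
  inv_mem' := by
    rintro x ⟨u, hu, z, hz, hc, rfl⟩
    refine ⟨u⁻¹, inv_mem hu, z⁻¹, inv_mem hz, fun a ha => ?_, ?_⟩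
    · have := hc _ (inv_mem ha)
      calc z⁻¹ * a = (a⁻¹ * z)⁻¹ := by group
        _ = (z * a⁻¹)⁻¹ := by rw [this]
        _ = a * z⁻¹ := by group
    · have := hc _ (fr.U_le hu)
      calc (u * z)⁻¹ = (z * u)⁻¹ := by rw [this]
        _ = u⁻¹ * z⁻¹ := by group

/-- the group `x 0 2 F` -/
def X02 (hZ : Odd (Nat.card (center ↥A))) (fr : FrameL3 A F) : Subgroup G where
  carrier := {g | ∃ c, g = u fr 0 0 c}
  mul_mem' := by
    rintro _ _ ⟨c, rfl⟩ ⟨d, rfl⟩
    exact ⟨c + d, by rw [u_mul fr hZ, add_zero, zero_mul, add_zero]⟩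
  one_mem' := ⟨0, (u_zero fr hZ).symm⟩
  inv_mem' := by
    rintro _ ⟨c, rfl⟩
    exact ⟨c, by rw [u_inv fr hZ, zero_mul, add_zero]⟩

theorem inv (hZ : Odd (Nat.card (center ↥A))) (fr : FrameL3 A F) {X : Subgroup G} (hX : ⁅X, X⁆ = X) (hXA : X ≤ A)
    {w : G} (hw : w ∈ A) (hww : w * w = 1) (hw1 : w ≠ 1) (hc : ∀ x ∈ X, x * w = w * x) : X = ⊥ := by
  -- reduce to w = x02 1
  obtain ⟨y, hy, hyw⟩ := fr.involution_conj hZ hw hww hw1
  suffices hmain : ∀ X : Subgroup G, ⁅X, X⁆ = X → X ≤ A → (∀ x ∈ X, x * fr.x 0 2 1 = fr.x 0 2 1 * x) → X = ⊥ by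
    have h1 := hmain (X.map (MulAut.conj y).toMonoidHom) (by rw [← map_commutator, hX]) (by
      rintro _ ⟨x, hx, rfl⟩
      exact mul_mem (mul_mem hy (hXA hx)) (inv_mem hy)) (by
      rintro _ ⟨x, hx, rfl⟩
      show y * x * y⁻¹ * _ = _ * (y * x * y⁻¹)
      rw [← hyw]
      calc y * x * y⁻¹ * (y * w * y⁻¹) = y * (x * w) * y⁻¹ := by group
        _ = y * (w * x) * y⁻¹ := by rw [hc x hx]
        _ = _ := by group)
    exact (Subgroup.map_eq_bot_iff_of_injective _ (MulAut.conj y).injective).1 h1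
  clear hX hXA hw hww hw1 hc hy hyw
  clear w X y
  intro X hX hXA hc
  have h02 : (0 : Fin 3) ≠ 2 := by decide
  have h01 : (0 : Fin 3) ≠ 1 := by decide
  have h12 : (1 : Fin 3) ≠ 2 := by decide
  have hB : ∀ x ∈ X, ∃ v ∈ fr.U, ∃ (c : Fin 3 → F) (y : G), fr.Tor y c ∧ x = v * y := by
    intro x hx
    obtain ⟨a, b, d, c, y, hy, -, he⟩ := fr.borel hZ h02 h01 h12 (hXA hx) one_ne_zero (t := 1) (by
      rw [hc x hx]; group)
    refine ⟨_, ?_, c, y, hy, he⟩
    exact mul_mem (mul_mem (fr.x_mem_U (by decide) d) (fr.x_mem_U (by decide) a))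
      (fr.x_mem_U (by decide) b)
  have h1 : X ≤ UZ fr := by
    rw [← hX, commutator_le]
    intro x hx y hy
    obtain ⟨v, hv, c, k, hk, rfl⟩ := hB x hx
    obtain ⟨v', hv', c', k', hk', rfl⟩ := hB y hy
    have n1 := mem_normalizer_iff.1 (hk.normalizes hZ)
    have n2 := mem_normalizer_iff.1 (hk'.normalizes hZ)
    have hT : fr.Tor (k * k' * k⁻¹ * k'⁻¹) (fun i => c i * c' i * (c i)⁻¹ * (c' i)⁻¹) := ((hk.mul hk').mul hk.inv).mul hk'.inv
    have hone : ∀ i, c i * c' i * (c i)⁻¹ * (c' i)⁻¹ = 1 := by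
      intro i
      have e1 := hk.ne_zero i
      have e2 := hk'.ne_zero i
      field_simp
    have hcen : ∀ a ∈ A, (k * k' * k⁻¹ * k'⁻¹) * a = a * (k * k' * k⁻¹ * k'⁻¹) :=
      hT.central (by rw [hone, hone]) (by rw [hone, hone])
    have e : ⁅v * k, v' * k'⁆ = v * (k * v' * k⁻¹) * (k * k' * k⁻¹ * k'⁻¹) * (k' * v⁻¹ * k'⁻¹) * v'⁻¹ := by
      rw [commutatorElement_def]; group
    have hU : ∀ g ∈ fr.U, g ∈ UZ fr := fun g hg =>
      ⟨g, hg, 1, one_mem _, fun a _ => by rw [one_mul, mul_one], by rw [mul_one]⟩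
    rw [e]
    refine mul_mem (mul_mem (mul_mem (hU _ (mul_mem hv ((n1 _).1 hv'))) ?_) (hU _ ((n2 _).1 (inv_mem hv)))) (hU _ (inv_mem hv'))
    exact ⟨1, one_mem _, _, hT.mem, hcen, by rw [one_mul]⟩
  have h2 : X ≤ X02 hZ fr := by
    conv_lhs => rw [← hX]
    rw [commutator_le]
    intro x hx y hy
    obtain ⟨v, hv, z, hz, hcz, rfl⟩ := h1 hx
    obtain ⟨v', hv', z', hz', hcz', rfl⟩ := h1 hy
    have e : ⁅v * z, v' * z'⁆ = v * v' * v⁻¹ * v'⁻¹ := by
      rw [commutatorElement_def]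
      have e1 := hcz _ (fr.U_le hv')
      have e2 := hcz' _ (fr.U_le hv)
      have e2' := hcz' _ (fr.U_le (inv_mem hv))
      have e3 := hcz _ hz'
      calc v * z * (v' * z') * (v * z)⁻¹ * (v' * z')⁻¹ = v * (z * v') * z' * z⁻¹ * v⁻¹ * z'⁻¹ * v'⁻¹ := by group
        _ = v * (v' * z) * z' * z⁻¹ * v⁻¹ * z'⁻¹ * v'⁻¹ := by rw [e1]
        _ = v * v' * (z * z') * z⁻¹ * v⁻¹ * z'⁻¹ * v'⁻¹ := by group
        _ = v * v' * (z' * z) * z⁻¹ * v⁻¹ * z'⁻¹ * v'⁻¹ := by rw [e3]
        _ = v * v' * (z' * v⁻¹) * z'⁻¹ * v'⁻¹ := by group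
        _ = v * v' * (v⁻¹ * z') * z'⁻¹ * v'⁻¹ := by rw [e2']
        _ = _ := by group
    rw [e]
    obtain ⟨a, b, c, rfl⟩ := (mem_U fr hZ).1 hv
    obtain ⟨a', b', c', rfl⟩ := (mem_U fr hZ).1 hv'
    rw [u_inv fr hZ, u_inv fr hZ, u_mul fr hZ, u_mul fr hZ, u_mul fr hZ]
    have ea : ∀ a a' : F, a + a' + a + a' = 0 := by
      intro a a'
      have := CharTwo.add_self_eq_zero (a + a')
      linear_combination this
    rw [ea, ea]
    exact ⟨_, rfl⟩
  have h3 : ⁅X, X⁆ = ⊥ := by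
    rw [commutator_eq_bot_iff_le_centralizer]
    intro x hx
    rw [mem_centralizer_iff]
    intro y hy
    obtain ⟨c, rfl⟩ := h2 hx
    obtain ⟨d, rfl⟩ := h2 hy
    rw [u_comm_iff fr hZ]
  rw [← hX]
  exact h3

/-! ### Squares, `q = 4` -/

theorem ft_sq (h : Sit L A t T fr) (hq : Nat.card F = 4) {y : G} (hy : y ∈ T) : FT fr (y * y) 1 := by
  rcases h.had.cases hy with ⟨σ, h1⟩ | ⟨σ, h1⟩
  · have := h1.mul h.hZ h1
    rwa [aut_sq hq σ] at this
  · have := h1.mul h.hZ h1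
    rwa [aut_sq hq σ] at this

/-- elements of `T` of type 1 -/
theorem of_ft_one (h : Sit L A t T fr) (hR : ∀ r ∈ T, r ∈ centralizer (A : Set G) → r = 1 ∨ r = t) {y : G}
    (hy : y ∈ T) (h1 : FT fr y 1) : y ∈ fr.U ∨ t * y ∈ fr.U := by
  obtain ⟨v, hv, hc⟩ := FT.exists_of_one h.hZ h.perfect (h.isT.norm hy) h1
  have hT : v⁻¹ * y ∈ T := mul_mem (inv_mem (h.U_le hv)) hy
  rcases hR _ hT hc with e | e
  · left
    have : y = v := (inv_mul_eq_one.1 e).symm
    rwa [this]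
  · right
    have e1 : y = v * t := by rw [← e]; group
    have e2 : t * y = v := by
      rw [e1, ← h.t_comm (fr.U_le hv), ← mul_assoc, h.tt, one_mul]
    rwa [e2]

theorem sq (h : Sit L A t T fr) (hR : ∀ r ∈ T, r ∈ centralizer (A : Set G) → r = 1 ∨ r = t)
    (hq : Nat.card F = 4) {x : G} (hx2 : ∃ k : ℕ, x ^ 2 ^ k = 1) (hxt : x * t = t * x) :
    x * x ∈ A ∨ t * (x * x) ∈ A := by
  obtain ⟨k, hk⟩ := hx2
  have hP : IsPGroup 2 (zpowers x) := by
    rintro ⟨y, hy⟩
    obtain ⟨m, rfl⟩ := mem_zpowers_iff.1 hy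
    refine ⟨k, Subtype.ext ?_⟩
    show (x ^ m) ^ 2 ^ k = 1
    rw [← zpow_natCast, ← zpow_mul, mul_comm, zpow_mul, zpow_natCast, hk, one_zpow]
  have hPt : ∀ y ∈ zpowers x, y * t = t * y := by
    intro y hy
    obtain ⟨m, rfl⟩ := mem_zpowers_iff.1 hy
    exact (Commute.zpow_left hxt m)
  obtain ⟨n, hnt, hnA, hc⟩ := exists_conj_T h hP hPt
  have hy := hc x (mem_zpowers x)
  have h1 := of_ft_one h hR (mul_mem hy hy) (ft_sq h hq hy)
  have e1 : n * x * n⁻¹ * (n * x * n⁻¹) = n * (x * x) * n⁻¹ := by group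
  rw [e1] at h1
  rcases h1 with h1 | h1
  · left
    exact (mem_normalizer_iff.1 hnA _).2 (fr.U_le h1)
  · right
    rw [mem_normalizer_iff.1 hnA]
    have e2 : t * (n * (x * x) * n⁻¹) = n * (t * (x * x)) * n⁻¹ := by
      calc t * (n * (x * x) * n⁻¹) = (t * n) * (x * x) * n⁻¹ := by group
        _ = (n * t) * (x * x) * n⁻¹ := by rw [hnt]
        _ = _ := by group
    rw [← e2]
    exact fr.U_le h1

/-! ### `q = 4`: no group of order 64 with at most three involutions, all central -/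

/-- elements of field type -/
def Kf (h : Sit L A t T fr) : Subgroup G where
  carrier := {y | ∃ σ, FT fr y σ}
  mul_mem' := by
    rintro x y ⟨σ, hx⟩ ⟨τ, hy⟩
    exact ⟨_, hx.mul h.hZ hy⟩
  one_mem' := ⟨1, FT.one⟩
  inv_mem' := by
    rintro x ⟨σ, hx⟩
    exact ⟨_, hx.inv h.hZ⟩

/-- elements of type one -/
def K1 (h : Sit L A t T fr) : Subgroup G where
  carrier := {y | FT fr y 1}
  mul_mem' := by
    intro x y hx hy
    have := FT.mul h.hZ hx hy
    rwa [mul_one] at this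
  one_mem' := FT.one
  inv_mem' := by
    intro x hx
    have := FT.inv h.hZ hx
    rwa [inv_one] at this

/-- the `r`, `s` coordinates -/
noncomputable def rr (fr : FrameL3 A F) (t x : G) : F :=
  open Classical in if hb : ∃ r s z, x = u fr r s z ∨ x = t * u fr r s z then hb.choose else 0

noncomputable def ss (fr : FrameL3 A F) (t x : G) : F :=
  open Classical in if hb : ∃ s r z, x = u fr r s z ∨ x = t * u fr r s z then hb.choose else 0

theorem quot_mem (h : Sit L A t T fr) {x y : G} {r s z r' s' z' : F}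
    (hx : x = u fr r s z ∨ x = t * u fr r s z) (hy : y = u fr r' s' z' ∨ y = t * u fr r' s' z') :
    ∃ c, x⁻¹ * y = u fr (r + r') (s + s') c ∨ x⁻¹ * y = t * u fr (r + r') (s + s') c := by
  have hti : t⁻¹ = t := inv_eq_of_mul_eq_one_left h.tt
  have hcm : ∀ a b c, t * u fr a b c = u fr a b c * t := fun a b c => h.t_comm (fr.U_le (u_mem fr _ _ _))
  have key : ∃ c, (u fr r s z)⁻¹ * u fr r' s' z' = u fr (r + r') (s + s') c := by
    rw [u_inv fr h.hZ, u_mul fr h.hZ]
    exact ⟨_, rfl⟩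
  obtain ⟨c, hc⟩ := key
  refine ⟨c, ?_⟩
  rcases hx with rfl | rfl <;> rcases hy with rfl | rfl
  · exact Or.inl hc
  · right
    rw [← hc, ← mul_assoc, ← mul_assoc]
    congr 1
    have := h.t_comm (inv_mem (fr.U_le (u_mem fr r s z)))
    exact this.symm
  · right
    rw [← hc, mul_inv_rev, hti, ← mul_assoc]
    congr 1
    have := h.t_comm (inv_mem (fr.U_le (u_mem fr r s z)))
    exact this.symm
  · left
    rw [← hc]
    group

theorem q8_T (h : Sit L A t T fr) (hR : ∀ r ∈ T, r ∈ centralizer (A : Set G) → r = 1 ∨ r = t)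
    (hq : Nat.card F = 4) {P : Subgroup G} (hPT : P ≤ T) (htP : t ∉ P) (h64 : 64 ≤ Nat.card P)
    (hinv : {x | x ∈ P ∧ x * x = 1}.ncard ≤ 4) (hcen : ∀ x ∈ P, ∀ z ∈ P, z * z = 1 → x * z = z * x) : False := by
  classical
  have c1 : Nat.card P ≤ 2 * Nat.card (P ⊓ Kf h : Subgroup G) := by
    apply Wreath.DOneTransfer.card_le_two
    intro x hx y hy hxK hyK
    rcases h.had.cases (hPT hx) with hx1 | ⟨σ, hx1⟩
    · exact absurd hx1 hxK
    rcases h.had.cases (hPT hy) with hy1 | ⟨τ, hy1⟩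
    · exact absurd hy1 hyK
    exact ⟨_, hx1.mul h.hZ hy1⟩
  have c2 : Nat.card (P ⊓ Kf h : Subgroup G) ≤ 2 * Nat.card ((P ⊓ Kf h) ⊓ K1 h : Subgroup G) := by
    apply Wreath.DOneTransfer.card_le_two
    rintro x ⟨hx, σ, hxσ⟩ y ⟨hy, τ, hyτ⟩ hxK hyK
    have hσ : σ ≠ 1 := by rintro rfl; exact hxK hxσ
    have hτ : τ ≠ 1 := by rintro rfl; exact hyK hyτ
    have e : σ = τ := unique_invol (aut_sq hq σ) (aut_sq hq τ) hσ hτ
    subst e
    have := hxσ.mul h.hZ hyτ
    rw [aut_sq hq σ] at this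
    exact this
  set R : Subgroup G := (P ⊓ Kf h) ⊓ K1 h with hRdef
  have hform : ∀ x ∈ R, ∃ r s z, x = u fr r s z ∨ x = t * u fr r s z := by
    intro x hx
    rcases of_ft_one h hR (hPT hx.1.1) hx.2 with h1 | h1
    · obtain ⟨r, s, z, e⟩ := (mem_U fr h.hZ).1 h1
      exact ⟨r, s, z, Or.inl e⟩
    · obtain ⟨r, s, z, e⟩ := (mem_U fr h.hZ).1 h1
      exact ⟨r, s, z, Or.inr (by rw [← e, ← mul_assoc, h.tt, one_mul])⟩
  set S₁ : Set G := {x | x ∈ P ∧ ∃ r z, x = u fr r 0 z ∨ x = t * u fr r 0 z} with hS₁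
  set S₂ : Set G := {x | x ∈ P ∧ ∃ s z, x = u fr 0 s z ∨ x = t * u fr 0 s z} with hS₂
  set I : Set G := {x | x ∈ P ∧ x * x = 1} with hI
  have c3 : Nat.card R ≤ Nat.card F * S₁.ncard := by
    apply card_le_fib R S₁ (ss fr t)
    intro x hx y hy hxy
    have hbx : ∃ s r z, x = u fr r s z ∨ x = t * u fr r s z := by
      obtain ⟨r, s, z, e⟩ := hform x hx
      exact ⟨s, r, z, e⟩
    have hby : ∃ s r z, y = u fr r s z ∨ y = t * u fr r s z := by
      obtain ⟨r, s, z, e⟩ := hform y hy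
      exact ⟨s, r, z, e⟩
    have ex : ss fr t x = hbx.choose := dif_pos hbx
    have ey : ss fr t y = hby.choose := dif_pos hby
    obtain ⟨r, z, e⟩ := hbx.choose_spec
    obtain ⟨r', z', e'⟩ := hby.choose_spec
    rw [← ex] at e
    rw [← ey, ← hxy] at e'
    obtain ⟨c, hc⟩ := quot_mem h e e'
    rw [CharTwo.add_self_eq_zero] at hc
    exact ⟨mul_mem (inv_mem hx.1.1) hy.1.1, _, _, hc⟩
  have c4 : Nat.card R ≤ Nat.card F * S₂.ncard := by
    apply card_le_fib R S₂ (rr fr t)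
    intro x hx y hy hxy
    have hbx := hform x hx
    have hby := hform y hy
    have ex : rr fr t x = hbx.choose := dif_pos hbx
    have ey : rr fr t y = hby.choose := dif_pos hby
    obtain ⟨s, z, e⟩ := hbx.choose_spec
    obtain ⟨s', z', e'⟩ := hby.choose_spec
    rw [← ex] at e
    rw [← ey, ← hxy] at e'
    obtain ⟨c, hc⟩ := quot_mem h e e'
    rw [CharTwo.add_self_eq_zero] at hc
    exact ⟨mul_mem (inv_mem hx.1.1) hy.1.1, _, _, hc⟩
  have htu : ∀ r s z, u fr r s z * u fr r s z = 1 → (t * u fr r s z) * (t * u fr r s z) = 1 := by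
    intro r s z e
    have := h.t_comm (fr.U_le (u_mem fr r s z))
    calc (t * u fr r s z) * (t * u fr r s z) = t * (u fr r s z * t) * u fr r s z := by group
      _ = t * (t * u fr r s z) * u fr r s z := by rw [this]
      _ = (t * t) * (u fr r s z * u fr r s z) := by group
      _ = 1 := by rw [h.tt, e, one_mul]
  have i1 : S₁ ⊆ I := by
    rintro x ⟨hx, r, z, rfl | rfl⟩
    · exact ⟨hx, by rw [u_sq fr h.hZ, mul_zero, u_zero fr h.hZ]⟩
    · exact ⟨hx, htu _ _ _ (by rw [u_sq fr h.hZ, mul_zero, u_zero fr h.hZ])⟩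
  have i2 : S₂ ⊆ I := by
    rintro x ⟨hx, r, z, rfl | rfl⟩
    · exact ⟨hx, by rw [u_sq fr h.hZ, zero_mul, u_zero fr h.hZ]⟩
    · exact ⟨hx, htu _ _ _ (by rw [u_sq fr h.hZ, zero_mul, u_zero fr h.hZ])⟩
  have n1 := Set.ncard_le_ncard i1 (Set.toFinite _)
  have n2 := Set.ncard_le_ncard i2 (Set.toFinite _)
  rw [hq] at c3 c4
  have e1 : S₁ = I := Set.eq_of_subset_of_ncard_le i1 (by omega) (Set.toFinite _)
  have e2 : S₂ = I := Set.eq_of_subset_of_ncard_le i2 (by omega) (Set.toFinite _)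
  have htU : ∀ r s z r' s' z', u fr r s z ≠ t * u fr r' s' z' := by
    intro r s z r' s' z' e
    apply h.t_not
    have : t = u fr r s z * (u fr r' s' z')⁻¹ := by rw [e]; group
    rw [this]
    exact mul_mem (fr.U_le (u_mem fr _ _ _)) (inv_mem (fr.U_le (u_mem fr _ _ _)))
  have hIform : ∀ x ∈ I, ∃ z, x = u fr 0 0 z ∨ x = t * u fr 0 0 z := by
    intro x hx
    have h1 : x ∈ S₁ := by rw [e1]; exact hx
    have h2 : x ∈ S₂ := by rw [e2]; exact hx
    obtain ⟨-, r, z, ha⟩ := h1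
    obtain ⟨-, s, z', hb⟩ := h2
    rcases ha with ha | ha <;> rcases hb with hb | hb
    · rw [ha] at hb
      have := (u_inj fr hb).1
      subst this
      exact ⟨z, Or.inl ha⟩
    · rw [ha] at hb
      exact absurd hb (htU _ _ _ _ _ _)
    · rw [hb] at ha
      exact absurd ha (htU _ _ _ _ _ _)
    · rw [ha] at hb
      have := (u_inj fr (mul_left_cancel hb)).1
      subst this
      exact ⟨z, Or.inr ha⟩
  -- an element of type `σ ≠ 1`
  obtain ⟨y, hyP, σ, hσ, hyσ⟩ : ∃ y ∈ P, ∃ σ, σ ≠ 1 ∧ FT fr y σ := by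
    by_contra hcon
    push Not at hcon
    have h1 : P ⊓ Kf h ≤ R := by
      rintro y ⟨hy, σ, hyσ⟩
      refine ⟨⟨hy, σ, hyσ⟩, ?_⟩
      by_cases hσ : σ = 1
      · subst hσ; exact hyσ
      · exact absurd hyσ (hcon y hy σ hσ)
    have h2 : Nat.card (P ⊓ Kf h : Subgroup G) ≤ Nat.card R :=
      Nat.card_le_card_of_injective _ (Subgroup.inclusion_injective h1)
    omega
  have hfix := card_fix (aut_sq hq σ) hσ
  have hz01 : ∀ z, σ z = z → z = 0 ∨ z = 1 := by
    intro z hz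
    by_contra hcon
    push Not at hcon
    have h3 : ({0, 1, z} : Set F) ⊆ {x : F | σ x = x} := by
      rintro x (rfl | rfl | rfl)
      · exact map_zero σ
      · exact map_one σ
      · exact hz
    have h4 := Set.ncard_le_ncard h3 (Set.toFinite _)
    have h5 : ({0, 1, z} : Set F).ncard = 3 := by
      rw [Set.ncard_eq_three]
      exact ⟨0, 1, z, zero_ne_one, fun e => hcon.1 e.symm, fun e => hcon.2 e.symm, rfl⟩
    have h6 : ({x : F | σ x = x}).ncard = Nat.card {x : F // σ x = x} := rfl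
    rw [h5, h6] at h4
    rw [hq] at hfix
    nlinarith
  have hI3 : I ⊆ {1, u fr 0 0 1, t * u fr 0 0 1} := by
    intro x hx
    obtain ⟨z, hxz⟩ := hIform x hx
    have hc := hcen y hyP x hx.1 hx.2
    have hyt := h.isT.cent y (hPT hyP)
    have hz : σ z = z := by
      have h1 := hyσ.conj_zero h.hZ z
      rcases hxz with e | e
      · rw [e] at hc
        rw [hc, mul_inv_cancel_right] at h1
        exact (u_inj fr h1).2.2.symm
      · rw [e] at hc
        have h2 : y * u fr 0 0 z = u fr 0 0 z * y := by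
          have e1 : y * (t * u fr 0 0 z) = t * (y * u fr 0 0 z) := by
            rw [← mul_assoc, hyt, mul_assoc]
          rw [e1, mul_assoc] at hc
          exact mul_left_cancel hc
        rw [h2, mul_inv_cancel_right] at h1
        exact (u_inj fr h1).2.2.symm
    rcases hz01 z hz with rfl | rfl
    · rcases hxz with e | e
      · rw [u_zero fr h.hZ] at e
        exact Or.inl e
      · rw [u_zero fr h.hZ, mul_one] at e
        exact absurd (e ▸ hx.1) htP
    · rcases hxz with e | e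
      · exact Or.inr (Or.inl e)
      · exact Or.inr (Or.inr e)
  have h7 := Set.ncard_le_ncard hI3 (Set.toFinite _)
  have h8 : ({1, u fr 0 0 1, t * u fr 0 0 1} : Set G).ncard ≤ 3 :=
    (Set.ncard_insert_le _ _).trans (by
      have := Set.ncard_insert_le (u fr 0 0 1) ({t * u fr 0 0 1} : Set G)
      rw [Set.ncard_singleton] at this
      omega)
  rw [← e1] at h7
  omega

theorem q8 (h : Sit L A t T fr) (hR : ∀ r ∈ T, r ∈ centralizer (A : Set G) → r = 1 ∨ r = t)
    (hq : Nat.card F = 4) {P : Subgroup G} (hP : IsPGroup 2 P) (hPt : ∀ x ∈ P, x * t = t * x) (htP : t ∉ P)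
    (h64 : 64 ≤ Nat.card P) (hinv : {x | x ∈ P ∧ x * x = 1}.ncard ≤ 4)
    (hcen : ∀ x ∈ P, ∀ z ∈ P, z * z = 1 → x * z = z * x) : False := by
  obtain ⟨n, hnt, hnA, hc⟩ := exists_conj_T h hP hPt
  have hmem : ∀ {x : G}, x ∈ P.map (MulAut.conj n).toMonoidHom ↔ n⁻¹ * x * n ∈ P := mem_map_conj
  refine q8_T h hR hq (P := P.map (MulAut.conj n).toMonoidHom) ?_ ?_ ?_ ?_ ?_
  · rintro _ ⟨x, hx, rfl⟩
    exact hc x hx
  · intro ht
    rw [hmem] at ht
    have e : n⁻¹ * t * n = t := by rw [mul_assoc, ← hnt, inv_mul_cancel_left]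
    rw [e] at ht
    exact htP ht
  · rw [← Nat.card_congr (P.equivMapOfInjective (MulAut.conj n).toMonoidHom (MulAut.conj n).injective).toEquiv]
    exact h64
  · refine le_trans ?_ hinv
    have h1 : {x | x ∈ P.map (MulAut.conj n).toMonoidHom ∧ x * x = 1} ⊆
        (fun x => n * x * n⁻¹) '' {x | x ∈ P ∧ x * x = 1} := by
      rintro x ⟨hx, hxx⟩
      rw [hmem] at hx
      refine ⟨n⁻¹ * x * n, ⟨hx, ?_⟩, by group⟩
      calc n⁻¹ * x * n * (n⁻¹ * x * n) = n⁻¹ * (x * x) * n := by group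
        _ = 1 := by rw [hxx]; group
    exact (Set.ncard_le_ncard h1 (Set.toFinite _)).trans (Set.ncard_image_le (Set.toFinite _))
  · rintro _ ⟨x, hx, rfl⟩ _ ⟨z, hz, rfl⟩ hzz
    have h1 : z * z = 1 := by
      have e : (MulAut.conj n).toMonoidHom z * (MulAut.conj n).toMonoidHom z = n * (z * z) * n⁻¹ := by
        show n * z * n⁻¹ * (n * z * n⁻¹) = _
        group
      rw [e] at hzz
      exact conj_eq_one_iff.1 hzz
    rw [← map_mul, ← map_mul, hcen x hx z hz h1]

/-- **The facts on `C_G(t)`.** -/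
theorem ctFacts (h : Sit L A t T fr) (hS : Schreier.Basic.Sch ↥A)
    (hR : ∀ r ∈ T, r ∈ centralizer (A : Set G) → r = 1 ∨ r = t) : CtFacts A t (Nat.card F) where
  tt := h.tt
  t_ne := h.t_ne
  perf := fun _ hX hXt hX2 => StdEven.Perf.le_of_perfect h.conf.std h.conf.ht h.conf.htA h.conf.cyc hS hX hXt hX2
  rank := fun _ hV hVt => rank h hV hVt
  inv := fun _ hX hXA _ hw hww hw1 hc => inv h.hZ fr hX hXA hw hww hw1 hc
  sq := fun hq _ hx hxt => sq h hR hq hx hxt
  q8 := fun hq _ hP hPt htP h64 hinv hcen => q8 h hR hq hP hPt htP h64 hinv hcen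

end Cfsg.Agent.StdRank2.L3W.CtFacts
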