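import Mathlib
import Cfsg.Agent.StdRank2.OutL3Je

/-!
# Wreath case of type `L₃(q)`: the configuration (blueprints/S1778-L3.md, version 2)

`G₁`, `G₂ = t G₁ t⁻¹` commute elementwise, `G₁ / Z(G₁) ≃ PSL₃(F)`; `NN G₁ G₂` is the intersection of the normalisers;
`P` is a Sylow 2-subgroup of `G` inside `NN ∪ t NN`.

`Wz` : the output of the lifting (helper471) in the normalised form.
`Wr` : the complete configuration. `Glue.exists_wr` : `Conf`, `Wz` and (F1) give `Wr`.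
-/

set_option autoImplicit false

namespace Cfsg.Agent.StdRank2.L3W

open Subgroup Cfsg.Agent.StdRank2.OutL3Inv Cfsg.Agent.StdRank2.OutL3Je

variable {G : Type*} [Group G]

/-- The elements which normalise both factors. -/
def NN (G1 G2 : Subgroup G) : Subgroup G := normalizer (G1 : Set G) ⊓ normalizer (G2 : Set G)

/-- The two commuting factors, interchanged by `t`, and `A` the diagonal. -/
structure Wz {F : Type*} [Field F] {G1 G2 : Subgroup G} (fr : FrameL3 G1 F) (fr' : FrameL3 G2 F)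
    (A : Subgroup G) (t : G) : Prop where
  oddZ : Odd (Nat.card (center ↥G1))
  perf1 : commutator ↥G1 = ⊤
  t_G1 : ∀ x ∈ G1, t * x * t⁻¹ ∈ G2
  t_G2 : ∀ x ∈ G2, t * x * t⁻¹ ∈ G1
  frame : ∀ i j : Fin 3, i ≠ j → ∀ s : F, fr'.x i j s = t * fr.x i j s * t⁻¹
  comm : ∀ x ∈ G1, ∀ y ∈ G2, x * y = y * x
  /-- `A` is the diagonal -/
  diag : ∀ a, a ∈ A ↔ ∃ x ∈ G1, a = x * (t * x * t⁻¹)

/-- Wreath configuration of type `L₃(F)`. -/
structure Wr {F : Type*} [Field F] {G1 G2 : Subgroup G} (fr : FrameL3 G1 F) (fr' : FrameL3 G2 F)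
    (E : Subgroup G) (P : Sylow 2 G) (t : G) : Prop where
  normal : E.Normal
  perf : commutator E = ⊤
  gen : ∀ g : G, g ∈ E ∨ t * g ∈ E
  tE : t ∉ E
  tt : t * t = 1
  oddZ : Odd (Nat.card (center ↥G1))
  oddZ' : Odd (Nat.card (center ↥G2))
  perf1 : commutator ↥G1 = ⊤
  perf2 : commutator ↥G2 = ⊤
  /-- `G₂ = t G₁ t⁻¹` with the conjugate frame (for all `i j`, also `i = j`) -/
  t_G1 : ∀ x ∈ G1, t * x * t⁻¹ ∈ G2
  t_G2 : ∀ x ∈ G2, t * x * t⁻¹ ∈ G1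
  frame : ∀ (i j : Fin 3) (s : F), fr'.x i j s = t * fr.x i j s * t⁻¹
  comm : ∀ x ∈ G1, ∀ y ∈ G2, x * y = y * x
  le_E : G1 ≤ E
  le_E' : G2 ≤ E
  tP : t ∈ P
  U_le : fr.U ≤ P
  U'_le : fr'.U ≤ P
  P_le : ∀ x ∈ P, x ∈ NN G1 G2 ∨ t * x ∈ NN G1 G2
  adapted : Adapted fr (P ⊓ NN G1 G2 : Subgroup G)
  adapted' : Adapted fr' (P ⊓ NN G1 G2 : Subgroup G)
  /-- 2-elements centralising `G₁G₂` are trivial -/
  cent : ∀ c : G, (∀ x ∈ G1, c * x = x * c) → (∀ y ∈ G2, c * y = y * c) → (∃ k : ℕ, c ^ 2 ^ k = 1) → c = 1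
  /-- (F1) -/
  F1 : ∀ g : G, g⁻¹ * t * g ∉ NN G1 G2
  /-- (H): `t` has only one fixed point on the cosets of `N_G(G₁G₂)` -/
  fix : ∀ g : G, (g⁻¹ * t * g ∈ NN G1 G2 ∨ t * (g⁻¹ * t * g) ∈ NN G1 G2) → g ∈ NN G1 G2 ∨ t * g ∈ NN G1 G2
  /-- (V) for involutions -/
  inv_E : ∀ x ∈ NN G1 G2, x * x = 1 → x * t = t * x → x ∈ E

/-- Type I involutions (those of `G₁`) commute with no conjugate of `t` (W4). -/
def TypeI {F : Type*} [Field F] {G1 : Subgroup G} (fr : FrameL3 G1 F) (t : G) : Prop :=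
  ∀ z ∈ fr.U, z * z = 1 → z ≠ 1 → ∀ g : G, ¬ (g⁻¹ * t * g * z = z * (g⁻¹ * t * g))

/-- Standard elements: they act on both frames as field or graph-field automorphisms. -/
def Std {F : Type*} [Field F] {G1 G2 : Subgroup G} (fr : FrameL3 G1 F) (fr' : FrameL3 G2 F) (f : G)
    (σ σ' : F ≃+* F) (b b' : Bool) : Prop :=
  (if b then Grf fr f σ else Fld fr f σ) ∧ (if b' then Grf fr' f σ' else Fld fr' f σ')

/-! ### Trivial consequences -/

namespace Wr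

variable {F : Type*} [Field F] {G1 G2 : Subgroup G} {fr : FrameL3 G1 F} {fr' : FrameL3 G2 F} {E : Subgroup G}
  {P : Sylow 2 G} {t : G} (W : Wr fr fr' E P t)

include W

theorem ti : t⁻¹ = t := inv_eq_of_mul_eq_one_left W.tt

theorem t_NN {x : G} (hx : x ∈ NN G1 G2) : t * x * t ∈ NN G1 G2 := by
  have ht := W.ti
  have conj1 : ∀ {g z : G} {H : Subgroup G}, g ∈ normalizer (H : Set G) → z ∈ H → g * z * g⁻¹ ∈ H :=
    fun hg hz => (mem_normalizer_iff.mp hg _).mp hz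
  have key : ∀ {g : G} {H K : Subgroup G}, g ∈ normalizer (K : Set G) → (∀ z ∈ H, t * z * t⁻¹ ∈ K) →
      (∀ z ∈ K, t * z * t⁻¹ ∈ H) → ∀ z ∈ H, (t * g * t) * z * (t * g * t)⁻¹ ∈ H := by
    intro g H K hg h1 h2 z hz
    have h3 := h2 _ (conj1 hg (h1 z hz))
    have e : t * (g * (t * z * t⁻¹) * g⁻¹) * t⁻¹ = t * g * t * z * (t * g * t)⁻¹ := by
      rw [mul_inv_rev, mul_inv_rev, ht]; group
    rwa [e] at h3
  have hinv : (t * x * t)⁻¹ = t * x⁻¹ * t := by rw [mul_inv_rev, mul_inv_rev, ht]; group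
  have main : ∀ {H K : Subgroup G}, x ∈ normalizer (K : Set G) → (∀ z ∈ H, t * z * t⁻¹ ∈ K) →
      (∀ z ∈ K, t * z * t⁻¹ ∈ H) → t * x * t ∈ normalizer (H : Set G) := by
    intro H K hg h1 h2
    rw [mem_normalizer_iff]
    intro z
    refine ⟨key hg h1 h2 z, fun hz => ?_⟩
    have h3 := key (inv_mem hg) h1 h2 _ hz
    rw [← hinv] at h3
    have e : (t * x * t)⁻¹ * (t * x * t * z * (t * x * t)⁻¹) * (t * x * t)⁻¹⁻¹ = z := by group
    rwa [e] at h3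
  obtain ⟨h1, h2⟩ := mem_inf.mp hx
  exact mem_inf.mpr ⟨main h2 W.t_G1 W.t_G2, main h1 W.t_G2 W.t_G1⟩

/-- `t ∉ N(G₁) ∩ N(G₂)`. -/
theorem t_not : t ∉ NN G1 G2 := by
  have := W.F1 1
  rwa [inv_one, one_mul, mul_one] at this

/-- `S₀ = P ∩ N(G₁) ∩ N(G₂)` has index two in `P`. -/
theorem hidx : ∀ a ∈ (P : Subgroup G), ∀ b ∈ (P : Subgroup G), a ∉ (P ⊓ NN G1 G2 : Subgroup G) →
    b ∉ (P ⊓ NN G1 G2 : Subgroup G) → a * b ∈ (P ⊓ NN G1 G2 : Subgroup G) := by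
  intro a ha b hb ha0 hb0
  have ha1 : t * a ∈ NN G1 G2 := (W.P_le a ha).resolve_left (fun h => ha0 (mem_inf.mpr ⟨ha, h⟩))
  have hb1 : t * b ∈ NN G1 G2 := (W.P_le b hb).resolve_left (fun h => hb0 (mem_inf.mpr ⟨hb, h⟩))
  refine mem_inf.mpr ⟨mul_mem ha hb, ?_⟩
  have h1 := mul_mem (W.t_NN ha1) hb1
  have e : t * (t * a) * t * (t * b) = a * b := by
    calc t * (t * a) * t * (t * b) = (t * t) * a * (t * t) * b := by group
      _ = a * b := by rw [W.tt, one_mul, mul_one]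
  rwa [e] at h1

/-- `t` normalises `S₀`. -/
theorem t_S0 {x : G} (hx : x ∈ (P ⊓ NN G1 G2 : Subgroup G)) : t * x * t ∈ (P ⊓ NN G1 G2 : Subgroup G) := by
  obtain ⟨h1, h2⟩ := mem_inf.mp hx
  exact mem_inf.mpr ⟨mul_mem (mul_mem W.tP h1) W.tP, W.t_NN h2⟩

theorem G1_le : G1 ≤ NN G1 G2 := by
  intro x hx
  refine mem_inf.mpr ⟨le_normalizer hx, ?_⟩
  rw [mem_normalizer_iff]
  intro z
  constructor
  · intro hz
    rw [W.comm x hx z hz, mul_inv_cancel_right]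
    exact hz
  · intro hz
    have h1 := W.comm x hx _ hz
    have e : x * z * x⁻¹ = z := by
      have : x * (x * z * x⁻¹) = x * z := by rw [h1]; group
      exact mul_left_cancel this
    rwa [e] at hz

theorem G2_le : G2 ≤ NN G1 G2 := by
  intro x hx
  refine mem_inf.mpr ⟨?_, le_normalizer hx⟩
  rw [mem_normalizer_iff]
  intro z
  constructor
  · intro hz
    rw [← W.comm z hz x hx, mul_inv_cancel_right]
    exact hz
  · intro hz
    have h1 := W.comm _ hz x hx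
    have e : x * z * x⁻¹ = z := by
      have : x * (x * z * x⁻¹) = x * z := by rw [← h1]; group
      exact mul_left_cancel this
    rwa [e] at hz

theorem U_le_S0 : fr.U ≤ (P ⊓ NN G1 G2 : Subgroup G) := le_inf W.U_le (fr.U_le.trans W.G1_le)

theorem U'_le_S0 : fr'.U ≤ (P ⊓ NN G1 G2 : Subgroup G) := le_inf W.U'_le (fr'.U_le.trans W.G2_le)

/-- an element of `P ∖ S₀` interchanges `G₁` and `G₂`. -/
theorem swap {u : G} (hu : u ∈ (P : Subgroup G)) (hu0 : u ∉ (P ⊓ NN G1 G2 : Subgroup G)) :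
    (∀ x ∈ G1, u * x * u⁻¹ ∈ G2) ∧ (∀ x ∈ G2, u * x * u⁻¹ ∈ G1) := by
  have h1 : t * u ∈ NN G1 G2 := (W.P_le u hu).resolve_left (fun h => hu0 (mem_inf.mpr ⟨hu, h⟩))
  obtain ⟨h2, h3⟩ := mem_inf.mp h1
  have e : ∀ x, t * (t * u * x * (t * u)⁻¹) * t⁻¹ = u * x * u⁻¹ := by
    intro x
    rw [mul_inv_rev, W.ti]
    calc t * (t * u * x * (u⁻¹ * t)) * t = (t * t) * u * x * u⁻¹ * (t * t) := by group
      _ = _ := by rw [W.tt, one_mul, mul_one]
  constructor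
  · intro x hx
    have h4 := W.t_G1 _ ((mem_normalizer_iff.mp h2 x).mp hx)
    rwa [e] at h4
  · intro x hx
    have h4 := W.t_G2 _ ((mem_normalizer_iff.mp h3 x).mp hx)
    rwa [e] at h4

end Wr

end Cfsg.Agent.StdRank2.L3W
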