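import Mathlib
import Cfsg.Agent.StdRank2.L3W.Defs
import Cfsg.Agent.StdRank2.L3W.CtFacts

/-!
# S1778, type `L₃(q)`, wreath case: (F1) for `Wz`
-/

set_option autoImplicit false
set_option linter.unusedSectionVars false
set_option linter.dupNamespace false

namespace Cfsg.Agent.StdRank2.L3W.FOne

open Subgroup
open Cfsg.Agent.StdRank2.L3Data
open Cfsg.Agent.StdRank2.L3W.NoFix

variable {G : Type*} [Group G]

section Conj

variable {G1 G2 : Subgroup G} {t : G} (h1 : ∀ x ∈ G1, t * x * t⁻¹ ∈ G2) (h2 : ∀ x ∈ G2, t * x * t⁻¹ ∈ G1)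
  (htt : t * t = 1)
include h1 h2 htt

theorem map_eq : G1.map (MulAut.conj t).toMonoidHom = G2 := by
  apply le_antisymm
  · rintro _ ⟨x, hx, rfl⟩
    exact h1 x hx
  · intro y hy
    refine ⟨t * y * t⁻¹, h2 y hy, ?_⟩
    show t * (t * y * t⁻¹) * t⁻¹ = y
    have hti : t⁻¹ = t := inv_eq_of_mul_eq_one_left htt
    calc t * (t * y * t⁻¹) * t⁻¹ = (t * t) * y * (t⁻¹ * t⁻¹) := by group
      _ = y := by rw [hti, htt]; group

/-- `G₁ ≃ G₂` -/
theorem exists_equiv : Nonempty (↥G1 ≃* ↥G2) := by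
  have h := map_eq h1 h2 htt
  exact ⟨(G1.equivMapOfInjective (MulAut.conj t).toMonoidHom (MulAut.conj t).injective).trans
    (MulEquiv.subgroupCongr h)⟩

end Conj

theorem commutator_top_of_equiv {X Y : Type*} [Group X] [Group Y] (e : X ≃* Y) (h : commutator X = ⊤) :
    commutator Y = ⊤ := by
  have h1 : (⁅(⊤ : Subgroup X), (⊤ : Subgroup X)⁆).map e.toMonoidHom = ⁅(⊤ : Subgroup Y), (⊤ : Subgroup Y)⁆ := by
    rw [map_commutator, ← MonoidHom.range_eq_map, MonoidHom.range_eq_top.2 e.surjective]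
  rw [commutator_def] at h ⊢
  rw [← h1, h, ← MonoidHom.range_eq_map, MonoidHom.range_eq_top.2 e.surjective]

theorem card_center_of_equiv {X Y : Type*} [Group X] [Group Y] (e : X ≃* Y) :
    Nat.card (center Y) = Nat.card (center X) :=
  (Nat.card_congr (centerCongr e).toEquiv).symm

variable [Finite G] {F : Type*} [Field F] [Finite F] [CharP F 2]

theorem f1_of {A : Subgroup G} {t : G} (C : CtFacts A t (Nat.card F)) (hq : 4 ≤ Nat.card F) {G1 G2 : Subgroup G}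
    {fr : FrameL3 G1 F} {fr' : FrameL3 G2 F} (W : Wz fr fr' A t) (g : G) : g⁻¹ * t * g ∉ NN G1 G2 := by
  intro hg
  obtain ⟨e⟩ := exists_equiv W.t_G1 W.t_G2 C.tt
  obtain ⟨hg1, hg2⟩ := mem_inf.1 hg
  have hZ2 : Odd (Nat.card (center ↥G2)) := by
    rw [card_center_of_equiv e]; exact W.oddZ
  refine no_fix C fr fr' W.oddZ hZ2 W.perf1 (commutator_top_of_equiv e W.perf1) W.comm hq g⁻¹ ?_ ?_
  · rw [inv_inv]; exact hg1
  · rw [inv_inv]; exact hg2

/-- **(F1)** -/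
theorem f1 {L A : Subgroup G} {t : G} {T : Subgroup G} {fr₀ : FrameL3 A F} (h : Sit L A t T fr₀)
    (hS : Schreier.Basic.Sch ↥A) (hR : ∀ r ∈ T, r ∈ centralizer (A : Set G) → r = 1 ∨ r = t)
    {G1 G2 : Subgroup G} {fr : FrameL3 G1 F} {fr' : FrameL3 G2 F} (W : Wz fr fr' A t) :
    ∀ g : G, g⁻¹ * t * g ∉ NN G1 G2 :=
  fun g => f1_of (CtFacts.ctFacts h hS hR) h.four W g

end Cfsg.Agent.StdRank2.L3W.FOne
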