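import Cfsg.Agent.SwapEnd.Perm
import Cfsg.Agent.SwapEnd.Kill

/-!
# The transfer of the sign character of `Y`

`Y` a subgroup of `G` containing the involution `t`, `Y₀ ≤ Y` of index two, `t ∉ Y₀`, and `g⁻¹ t g ∈ Y → g ∈ Y`.
Then `|G : Y|` is odd, `t ∉ L` for a perfect normal subgroup `L` with `G = L ∪ t L`, and the involutions of `Y₀ ∩ C(t)`
lie in `L`.
-/

set_option autoImplicit false

namespace Cfsg.Agent.StdRank2.L3W

open Subgroup MulAction Cfsg.Agent.StdEven.OuterKill Cfsg.Agent.StdRank2.OutSplit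

variable {G : Type*} [Group G]

structure Half (L Y Y0 : Subgroup G) (t : G) : Prop where
  perf : commutator L = ⊤
  gen : ∀ g : G, g ∈ L ∨ t * g ∈ L
  tt : t * t = 1
  tY : t ∈ Y
  tY0 : t ∉ Y0
  Y0_le : Y0 ≤ Y
  Y_or : ∀ y ∈ Y, y ∈ Y0 ∨ t * y ∈ Y0
  t_Y0 : ∀ y ∈ Y0, t * y * t ∈ Y0
  fix : ∀ g : G, g⁻¹ * t * g ∈ Y → g ∈ Y

namespace Half

variable {L Y Y0 : Subgroup G} {t : G} (C : Half L Y Y0 t)

include C

theorem mul_mem_Y0 {x y : G} (hx : x ∈ Y) (hy : y ∈ Y) (hx0 : x ∉ Y0) (hy0 : y ∉ Y0) : x * y ∈ Y0 := by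
  have h1 := (C.Y_or x hx).resolve_left hx0
  have h2 := (C.Y_or y hy).resolve_left hy0
  have h3 := mul_mem (C.t_Y0 _ h1) h2
  have e : t * (t * x) * t * (t * y) = x * y := by
    calc t * (t * x) * t * (t * y) = (t * t) * x * (t * t) * y := by group
      _ = x * y := by rw [C.tt]; group
  rwa [e] at h3

variable [Finite G]

/-- `|G : Y|` is odd: `t` fixes exactly one coset. -/
theorem odd_index : Odd Y.index := by
  classical
  have := Fintype.ofFinite (G ⧸ Y)
  have h1 := card_mod_two (α := G ⧸ Y) (fun q => t • q) (fun q => by rw [← mul_smul, C.tt, one_smul])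
  have hfix : ∀ q : G ⧸ Y, t • q = q ↔ q = ((1 : G) : G ⧸ Y) := by
    intro q
    obtain ⟨g, rfl⟩ := QuotientGroup.mk_surjective q
    rw [smul_coset_eq, QuotientGroup.eq, mul_one]
    constructor
    · intro h
      exact inv_mem (C.fix g h)
    · intro h
      have hg : g ∈ Y := by
        have := inv_mem h
        rwa [inv_inv] at this
      exact mul_mem (mul_mem h C.tY) hg
  have h2 : Fintype.card {x : G ⧸ Y // t • x = x} = 1 := by
    rw [Fintype.card_eq_one_iff]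
    exact ⟨⟨((1 : G) : G ⧸ Y), (hfix _).mpr rfl⟩, fun y => Subtype.ext ((hfix _).mp y.2)⟩
  rw [h2] at h1
  rw [Subgroup.index, Nat.card_eq_fintype_card]
  exact Nat.odd_iff.2 h1

/-- The swap character. -/
noncomputable def sg : Y →* ℤˣ := sgn Y Y0 (fun _ ha _ hb ha0 hb0 => C.mul_mem_Y0 ha hb ha0 hb0)

theorem transfer_t : MonoidHom.transfer C.sg t = -1 := by
  rw [transfer_const_group C.odd_index C.sg C.tt C.tY (R := ⊥) (IsPGroup.of_bot) (by
      intro r hr
      rw [mem_bot.mp hr, one_mul, mul_one]) (by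
      intro g _ hg
      have hgY := C.fix g hg
      have e : (⟨g⁻¹ * t * g, hg⟩ : Y) = ⟨g, hgY⟩⁻¹ * ⟨t, C.tY⟩ * ⟨g, hgY⟩ := rfl
      rw [e, map_mul, map_mul, map_inv, mul_comm (C.sg ⟨g, hgY⟩)⁻¹, inv_mul_cancel_right])]
  exact sgn_of_not_mem C.tY C.tY0

theorem t_not_mem : t ∉ L := by
  intro htL
  have h2 := hom_eq_one C.perf ((MonoidHom.transfer C.sg).comp L.subtype) ⟨t, htL⟩
  have h3 : MonoidHom.transfer C.sg t = 1 := h2
  rw [C.transfer_t] at h3
  exact absurd h3 (by decide)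

theorem f_mem {f : G} (hf : f ∈ Y0) (hff : f * f = 1) (hft : f * t = t * f) : f ∈ L := by
  have h1 : MonoidHom.transfer C.sg f = 1 := by
    rw [transfer_const_group C.odd_index C.sg hff (C.Y0_le hf) (R := zpowers t) (by
        intro ⟨x, hx⟩
        obtain ⟨i, rfl⟩ := mem_zpowers_iff.mp hx
        refine ⟨1, Subtype.ext ?_⟩
        show (t ^ i) ^ 2 ^ 1 = 1
        rw [← zpow_natCast, ← zpow_mul, mul_comm, zpow_mul, zpow_natCast, pow_one, pow_two, C.tt, one_zpow]) (by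
        intro r hr
        obtain ⟨i, rfl⟩ := mem_zpowers_iff.mp hr
        have : Commute f t := hft
        exact (this.zpow_right i).symm) (by
        intro g hr hg
        have hgY := C.fix g (hr t (mem_zpowers t))
        have e : (⟨g⁻¹ * f * g, hg⟩ : Y) = ⟨g, hgY⟩⁻¹ * ⟨f, C.Y0_le hf⟩ * ⟨g, hgY⟩ := rfl
        rw [e, map_mul, map_mul, map_inv, mul_comm (C.sg ⟨g, hgY⟩)⁻¹, inv_mul_cancel_right])]
    exact sgn_of_mem (C.Y0_le hf) hf
  by_contra hfL
  have h3 : t * f ∈ L := (C.gen f).resolve_left hfL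
  have h4 := hom_eq_one C.perf ((MonoidHom.transfer C.sg).comp L.subtype) ⟨t * f, h3⟩
  have h5 : MonoidHom.transfer C.sg (t * f) = 1 := h4
  rw [map_mul, h1, C.transfer_t] at h5
  exact absurd h5 (by decide)

/-- Sylow 2-subgroups of `Y` are Sylow in `G`. -/
theorem exists_sylow {Q : Subgroup G} (hQ : IsPGroup 2 Q) (hQY : Q ≤ Y) :
    ∃ P : Sylow 2 G, (P : Subgroup G) ≤ Y ∧ Q ≤ (P : Subgroup G) := by
  have : Fact (Nat.Prime 2) := ⟨Nat.prime_two⟩
  obtain ⟨S, hS, hQS⟩ := Cfsg.Agent.StdEven.Syl.exists_isSyl hQ hQY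
  have h1 : ¬ 2 ∣ S.relIndex Y := by
    have := hS.odd_relIndex
    rw [← even_iff_two_dvd, Nat.not_even_iff_odd]
    exact this
  have h2 : ¬ 2 ∣ S.index := by
    rw [← Subgroup.relIndex_mul_index hS.le]
    intro h
    rcases (Nat.Prime.dvd_mul Nat.prime_two).1 h with h | h
    · exact h1 h
    · have := C.odd_index
      rw [← Nat.not_even_iff_odd, even_iff_two_dvd] at this
      exact this h
  exact ⟨hS.two.toSylow h2, hS.le, hQS⟩

end Half

end Cfsg.Agent.StdRank2.L3W
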