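import Cfsg.Agent.StdRank2.L3W.Defs
import Cfsg.Agent.StdRank2.L3W.Half
import Cfsg.Agent.StdRank2.L3Data
import Cfsg.Agent.StdEven.Perf
import Cfsg.Agent.SwapEnd.Swap
import Cfsg.Agent.SignalizersComponents.LayerBasic
import Cfsg.Agent.LieClassical.SLGen

/-!
# Wreath case of type `L₃(q)`: existence of the complete configuration

`exists_wr` : `Conf L A t`, the output `Wz` of the lifting and (F1) give `Wr`.
-/

set_option autoImplicit false
set_option linter.unusedSectionVars false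

namespace Cfsg.Agent.StdRank2.L3W

open Cfsg Subgroup Cfsg.Agent.SignalizersComponents Cfsg.Agent.StdEven.Syl Cfsg.Agent.StdEven.Loc
open Cfsg.Agent.StdL2.Setup Cfsg.Agent.SwapEnd Cfsg.Agent.StdRank2.OutL3Inv Cfsg.Agent.StdRank2.OutL3Je
open Cfsg.Agent.StdEven.OuterKill
open scoped commutatorElement

/-! ### Conjugation of a frame by `t` -/

theorem map_center_equiv {H K : Type*} [Group H] [Group K] (φ : H ≃* K) :
    (center H).map φ.toMonoidHom = center K := by
  ext x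
  constructor
  · rintro ⟨y, hy, rfl⟩
    rw [mem_center_iff]
    intro g
    have h1 := mem_center_iff.mp hy (φ.symm g)
    have h2 := congrArg φ h1
    rw [map_mul, map_mul, MulEquiv.apply_symm_apply] at h2
    exact h2
  · intro hx
    refine ⟨φ.symm x, ?_, φ.apply_symm_apply x⟩
    rw [SetLike.mem_coe, mem_center_iff]
    intro g
    have h1 := mem_center_iff.mp hx (φ g)
    have h2 := congrArg φ.symm h1
    rw [map_mul, map_mul, MulEquiv.symm_apply_apply] at h2
    exact h2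

section Conj

variable {G : Type*} [Group G] {G1 G2 : Subgroup G} {t : G}

/-- conjugation by `t` as an isomorphism. -/
def cjT (tt : t * t = 1) (h1 : ∀ x ∈ G1, t * x * t⁻¹ ∈ G2) (h2 : ∀ x ∈ G2, t * x * t⁻¹ ∈ G1) : ↥G1 ≃* ↥G2 where
  toFun x := ⟨t * x * t⁻¹, h1 x x.2⟩
  invFun y := ⟨t * y * t⁻¹, h2 y y.2⟩
  left_inv x := Subtype.ext (by
    show t * (t * (x : G) * t⁻¹) * t⁻¹ = x
    rw [inv_eq_of_mul_eq_one_left tt]
    calc t * (t * (x : G) * t) * t = (t * t) * x * (t * t) := by group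
      _ = x := by rw [tt, one_mul, mul_one])
  right_inv x := Subtype.ext (by
    show t * (t * (x : G) * t⁻¹) * t⁻¹ = x
    rw [inv_eq_of_mul_eq_one_left tt]
    calc t * (t * (x : G) * t) * t = (t * t) * x * (t * t) := by group
      _ = x := by rw [tt, one_mul, mul_one])
  map_mul' x y := Subtype.ext (by
    show t * ((x : G) * y) * t⁻¹ = t * x * t⁻¹ * (t * y * t⁻¹)
    group)

/-- The conjugate frame. -/
noncomputable def conjFrame {F : Type*} [Field F] (fr : FrameL3 G1 F) (tt : t * t = 1)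
    (h1 : ∀ x ∈ G1, t * x * t⁻¹ ∈ G2) (h2 : ∀ x ∈ G2, t * x * t⁻¹ ∈ G1) : FrameL3 G2 F where
  e := (QuotientGroup.congr (center ↥G1) (center ↥G2) (cjT tt h1 h2) (map_center_equiv _)).symm.trans fr.e
  x i j s := t * fr.x i j s * t⁻¹
  mem h s := h1 _ (fr.mem h s)
  map {i j} h s := by
    rw [← fr.map h s, MulEquiv.trans_apply]
    congr 1
    rw [MulEquiv.symm_apply_eq]
    rfl
  two {i j} h s := by
    calc t * fr.x i j s * t⁻¹ * (t * fr.x i j s * t⁻¹) = t * (fr.x i j s * fr.x i j s) * t⁻¹ := by group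
      _ = 1 := by rw [fr.two h]; group

end Conj

section Quasi

variable {G : Type*} [Group G] {G1 : Subgroup G} {F : Type*} [Field F]

theorem quasi (fr : FrameL3 G1 F) (hp : commutator ↥G1 = ⊤) : IsQuasisimple ↥G1 := by
  refine ⟨⟨hp⟩, ?_⟩
  have : IsSimpleGroup (Matrix.ProjectiveSpecialLinearGroup (Fin 3) F) :=
    Cfsg.Agent.LieClassical.SLGen.psl_isSimpleGroup (by simp)
  exact fr.e.isSimpleGroup

theorem normal_cases (fr : FrameL3 G1 F) (hp : commutator ↥G1 = ⊤) (N : Subgroup G) (hN : N ≤ G1)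
    (hn : ∀ m ∈ G1, ∀ x ∈ N, m * x * m⁻¹ ∈ N) : N = G1 ∨ ∀ x ∈ N, ∀ m ∈ G1, x * m = m * x := by
  have h1 : (N.subgroupOf G1).Normal := ⟨fun x hx g => by
    rw [mem_subgroupOf] at hx ⊢
    exact hn g g.2 x hx⟩
  rcases LayerBasic.quasisimple_normal (quasi fr hp) _ h1 with h | h
  · left
    exact le_antisymm hN (subgroupOf_eq_top.mp h)
  · right
    intro x hx m hm
    have h2 : (⟨x, hN hx⟩ : G1) ∈ center ↥G1 := h (mem_subgroupOf.mpr hx)
    exact (congrArg Subtype.val (mem_center_iff.mp h2 ⟨m, hm⟩)).symm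

variable [CharP F 2]

/-- root elements `≠ 1` are not central. -/
theorem x_not_central (fr : FrameL3 G1 F) (hZ : Odd (Nat.card (center ↥G1))) [Finite G] {i j : Fin 3} (hij : i ≠ j) :
    ∃ m ∈ G1, fr.x i j 1 * m ≠ m * fr.x i j 1 := by
  by_contra hcon
  push Not at hcon
  have h1 : (⟨fr.x i j 1, fr.mem hij 1⟩ : G1) ∈ center ↥G1 := by
    rw [mem_center_iff]
    intro g
    exact Subtype.ext (hcon g g.2).symm
  have h2 : orderOf (⟨fr.x i j 1, fr.mem hij 1⟩ : G1) = 2 := by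
    have : Fact (Nat.Prime 2) := ⟨Nat.prime_two⟩
    apply orderOf_eq_prime
    · rw [pow_two]
      exact Subtype.ext (fr.two hij 1)
    · intro h
      have h3 : fr.x i j 1 = 1 := congrArg Subtype.val h
      rw [fr.x_eq_one hZ hij] at h3
      exact one_ne_zero h3
  have h3 := Subgroup.orderOf_dvd_natCard _ h1
  rw [h2] at h3
  exact (Nat.not_even_iff_odd.mpr hZ) (even_iff_two_dvd.mpr h3)

theorem le_closure_two (fr : FrameL3 G1 F) (hp : commutator ↥G1 = ⊤) (hZ : Odd (Nat.card (center ↥G1))) [Finite G] :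
    G1 ≤ closure {x | x ∈ G1 ∧ ∃ k : ℕ, x ^ 2 ^ k = 1} := by
  set K := closure {x | x ∈ G1 ∧ ∃ k : ℕ, x ^ 2 ^ k = 1} with hK
  have hKle : K ≤ G1 := by
    rw [hK, closure_le]
    exact fun x hx => hx.1
  have hn : ∀ m ∈ G1, ∀ x ∈ K, m * x * m⁻¹ ∈ K := by
    intro m hm x hx
    have h1 : K ≤ K.comap (MulAut.conj m).toMonoidHom := by
      conv_lhs => rw [hK]
      rw [closure_le]
      rintro y ⟨hy, k, hk⟩
      refine subset_closure ⟨mul_mem (mul_mem hm hy) (inv_mem hm), k, ?_⟩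
      show (m * y * m⁻¹) ^ 2 ^ k = 1
      rw [conj_pow, hk, mul_one, mul_inv_cancel]
    exact h1 hx
  rcases normal_cases fr hp K hKle hn with h | h
  · exact h.ge
  · exfalso
    obtain ⟨m, hm, hne⟩ := x_not_central fr hZ (i := 0) (j := 1) (by decide)
    refine hne (h _ ?_ m hm)
    exact subset_closure ⟨fr.mem (by decide) 1, 1, fr.pow_two_pow (by decide) 1⟩

end Quasi

/-! ### From `Wz` -/

namespace Wz

variable {G : Type*} [Group G] {F : Type*} [Field F] {A G1 G2 : Subgroup G} {t : G} {fr1 : FrameL3 G1 F}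
  {fr2 : FrameL3 G2 F} (W : Wz fr1 fr2 A t)

theorem perf' (W : Wz fr1 fr2 A t) : ⁅G1, G1⁆ = G1 := by
  have h1 : (commutator ↥G1).map G1.subtype = ⁅G1, G1⁆ := by
    rw [commutator_def, Subgroup.map_commutator, ← MonoidHom.range_eq_map, Subgroup.range_subtype]
  rw [← h1, W.perf1, ← MonoidHom.range_eq_map, Subgroup.range_subtype]

variable [CharP F 2] [Finite G]

theorem swap (W : Wz fr1 fr2 A t) (tt : t * t = 1) : Swap G1 t where
  tt := tt
  comm x hx y hy := by
    have h1 := W.comm x hx _ (W.t_G1 y hy)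
    rwa [inv_eq_of_mul_eq_one_left tt] at h1
  perf := W.perf'
  two := le_closure_two fr1 W.perf1 W.oddZ
  qs N hN hn := normal_cases fr1 W.perf1 N hN hn
  ne := by
    intro h
    obtain ⟨m, hm, hne⟩ := x_not_central fr1 W.oddZ (i := 0) (j := 1) (by decide)
    rw [h, mem_bot] at hm
    rw [hm, one_mul, mul_one] at hne
    exact hne rfl

theorem M2_eq (W : Wz fr1 fr2 A t) (tt : t * t = 1) : M2 G1 t = G2 := by
  have ti : t⁻¹ = t := inv_eq_of_mul_eq_one_left tt
  ext x
  rw [(W.swap tt).mem_M2]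
  constructor
  · intro h
    have h1 := W.t_G1 _ h
    rw [ti, (W.swap tt).tconj] at h1
    exact h1
  · intro h
    have h1 := W.t_G2 _ h
    rwa [ti] at h1

theorem YZ_eq (W : Wz fr1 fr2 A t) (tt : t * t = 1) : YZ G1 t = NN G1 G2 := by
  unfold YZ NN
  rw [W.M2_eq tt]

theorem dia (W : Wz fr1 fr2 A t) {L : Subgroup G} (C : Conf L A t)
    (hS : Cfsg.Agent.Schreier.Basic.Sch ↥A) : Swap.Dia (W.swap (tt C.ht)) A where
  eq := by
    have ti : t⁻¹ = t := inv_eq_of_mul_eq_one_left (tt C.ht)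
    ext a
    rw [W.diag]
    constructor
    · rintro ⟨x, hx, rfl⟩
      refine ⟨⟨x, hx⟩, ?_⟩
      rw [Swap.dg_t, ti]
    · rintro ⟨x, rfl⟩
      exact ⟨x, x.2, by rw [Swap.dg_t, ti]⟩
  inA K hK hK2 hKt := Cfsg.Agent.StdEven.Perf.le_of_perfect C.std C.ht C.htA C.cyc hS hK hKt hK2

/-- **(H)** -/
theorem fix (W : Wz fr1 fr2 A t) {L : Subgroup G} (C : Conf L A t)
    (hS : Cfsg.Agent.Schreier.Basic.Sch ↥A) (hF1 : ∀ g : G, g⁻¹ * t * g ∉ NN G1 G2) (g : G)
    (h : g⁻¹ * t * g ∈ NN G1 G2 ∨ t * (g⁻¹ * t * g) ∈ NN G1 G2) : g ∈ NN G1 G2 ∨ t * g ∈ NN G1 G2 := by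
  have S := W.swap (tt C.ht)
  have hYZ := W.YZ_eq (tt C.ht)
  replace h := h.resolve_left (hF1 g)
  rw [← hYZ] at h ⊢
  have hu := S.swap_of h
  obtain ⟨m, hm, hne⟩ := x_not_central fr1 W.oddZ (i := 0) (j := 1) (by decide)
  have key : ∀ x ∈ G1 ⊔ M2 G1 t, g⁻¹ * x * g ∈ G1 ⊔ M2 G1 t := fun x hx =>
    Swap.mem_normalizer_MM (W.swap (tt C.ht)) (W.dia C hS) (v := fr1.x 0 1 1) (fr1.mem (by decide) 1)
      (fr1.two (by decide) 1) ⟨m, hm, hne⟩ hu hx
  have h1 : g⁻¹ ∈ YY G1 t := mem_normalizer_of_conj_le (fun x hx => by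
    rw [inv_inv]; exact key x hx)
  have h2 : g ∈ YY G1 t := by
    have := inv_mem h1
    rwa [inv_inv] at this
  exact S.YY_or h2

theorem half (W : Wz fr1 fr2 A t) {L : Subgroup G} (C : Conf L A t)
    (hS : Cfsg.Agent.Schreier.Basic.Sch ↥A) (hF1 : ∀ g : G, g⁻¹ * t * g ∉ NN G1 G2)
    (hperf : commutator ↥L = ⊤) (hgen : ∀ g : G, g ∈ L ∨ t * g ∈ L) : Half L (YY G1 t) (NN G1 G2) t where
  perf := hperf
  gen := hgen
  tt := tt C.ht
  tY := (W.swap (tt C.ht)).t_mem_YY
  tY0 := by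
    have := hF1 1
    rwa [inv_one, one_mul, mul_one] at this
  Y0_le := by
    rw [← W.YZ_eq (tt C.ht)]
    exact (W.swap (tt C.ht)).YZ_le
  Y_or y hy := by
    rw [← W.YZ_eq (tt C.ht)]
    exact (W.swap (tt C.ht)).YY_or hy
  t_Y0 y hy := by
    rw [← W.YZ_eq (tt C.ht)] at hy ⊢
    exact (W.swap (tt C.ht)).t_YZ hy
  fix g hg := by
    have S := W.swap (tt C.ht)
    have h1 : g⁻¹ * t * g ∈ NN G1 G2 ∨ t * (g⁻¹ * t * g) ∈ NN G1 G2 := by
      rw [← W.YZ_eq (tt C.ht)]
      exact S.YY_or hg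
    rcases W.fix C hS hF1 g h1 with h | h
    · rw [← W.YZ_eq (tt C.ht)] at h
      exact S.YZ_le h
    · rw [← W.YZ_eq (tt C.ht)] at h
      have h2 := mul_mem S.t_mem_YY (S.YZ_le h)
      rwa [← mul_assoc, S.tt, one_mul] at h2

/-- an involution of `C_G(G₁G₂) ∩ C_G(t)` is trivial -/
theorem oddC (W : Wz fr1 fr2 A t) {L : Subgroup G} (C : Conf L A t) (c : G)
    (hc : ∀ m ∈ G1 ⊔ M2 G1 t, c * m = m * c) (hct : c * t = t * c) (hcc : c * c = 1) : c = 1 := by
  have : Fact (Nat.Prime 2) := ⟨Nat.prime_two⟩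
  have S := W.swap (tt C.ht)
  have htt := tt C.ht
  have hti : t⁻¹ = t := inv_eq_of_mul_eq_one_left htt
  have hcA : c ∈ centralizer (A : Set G) := by
    rw [mem_centralizer_iff]
    intro a ha
    obtain ⟨x, hx, rfl⟩ := (W.diag a).mp ha
    have h1 := hc x (mem_sup_left hx)
    have h2 := hc _ (mem_sup_right (S.conj_mem_M2 hx))
    rw [hti]
    calc x * (t * x * t) * c = x * (c * (t * x * t)) := by rw [h2]; group
      _ = c * (x * (t * x * t)) := by rw [← mul_assoc, ← h1, mul_assoc]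
  by_contra hc1
  -- `⟨c, t⟩` is a 2-subgroup of `C(A)`
  have hp : ∀ z : G, z * z = 1 → IsPGroup 2 (zpowers z) := by
    intro z hz
    rintro ⟨x, hx⟩
    obtain ⟨i, rfl⟩ := mem_zpowers_iff.mp hx
    refine ⟨1, Subtype.ext ?_⟩
    show (z ^ i) ^ 2 ^ 1 = 1
    rw [← zpow_natCast, ← zpow_mul, mul_comm, zpow_mul, zpow_natCast, pow_one, pow_two, hz, one_zpow]
  have hnorm : zpowers t ≤ normalizer (zpowers c : Set G) := by
    rw [zpowers_le, mem_normalizer_iff]
    have key : ∀ y ∈ zpowers c, t * y * t⁻¹ = y := by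
      intro y hy
      obtain ⟨i, rfl⟩ := mem_zpowers_iff.mp hy
      have h1 : Commute c t := hct
      rw [← (h1.zpow_left i).eq, mul_inv_cancel_right]
    intro y
    constructor
    · intro hy
      rw [key y hy]; exact hy
    · intro hy
      have h1 := key _ hy
      have h2 : t * y * t⁻¹ = y := by
        have h3 : t * (t * y * t⁻¹) * t⁻¹ = y := by
          rw [hti]; exact S.tconj y
        rw [h3] at h1
        exact h1.symm
      rwa [h2] at hy
  have hQ : IsPGroup 2 (zpowers c ⊔ zpowers t : Subgroup G) := (hp c hcc).to_sup_of_normal_left' (hp t htt) hnorm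
  have hQle : zpowers c ⊔ zpowers t ≤ centralizer (A : Set G) :=
    sup_le (by rw [zpowers_le]; exact hcA) (by rw [zpowers_le]; exact C.htA)
  have hcyc := Cfsg.Agent.StdSz.FromStd.isCyclic_of_le C.cyc hQ hQle
  have hct' : c = t := Cfsg.Agent.StdSz.FromStd.involution_unique hcyc (mem_sup_left (mem_zpowers c))
    (mem_sup_right (mem_zpowers t)) hcc htt hc1 (t_ne C.ht)
  -- but `t` does not centralise `G₁`
  obtain ⟨m, hm, hne⟩ := x_not_central fr1 W.oddZ (i := 0) (j := 1) (by decide)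
  apply hne
  have hx := fr1.mem (i := 0) (j := 1) (by decide) 1
  have h1 := hc _ (mem_sup_left hx)
  rw [hct'] at h1
  have h2 : fr1.x 0 1 1 ∈ G2 := by
    have h3 := W.t_G1 _ hx
    rwa [h1, mul_inv_cancel_right] at h3
  exact (W.comm m hm _ h2).symm

/-- `C_G(G₁G₂)` has odd order. -/
theorem odd_cent (W : Wz fr1 fr2 A t) {L : Subgroup G} (C : Conf L A t) :
    Odd (Nat.card (centralizer ((G1 ⊔ M2 G1 t : Subgroup G) : Set G))) := by
  classical
  have S := W.swap (tt C.ht)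
  set K := centralizer ((G1 ⊔ M2 G1 t : Subgroup G) : Set G) with hK
  have hmem : ∀ {x : G}, x ∈ K ↔ ∀ m ∈ G1 ⊔ M2 G1 t, x * m = m * x := by
    intro x
    rw [hK, mem_centralizer_iff]
    exact ⟨fun h m hm => (h m hm).symm, fun h m hm => (h m hm).symm⟩
  have htK : ∀ {x : G}, x ∈ K → t * x * t ∈ K := by
    intro x hx
    rw [hmem] at hx ⊢
    intro m hm
    exact S.tswap (hx _ (S.t_MM hm))
  have := Fintype.ofFinite K
  have h1 := card_mod_two (α := K) (fun x => x⁻¹) (fun x => inv_inv x)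
  have := Fintype.ofFinite {x : K // x⁻¹ = x}
  have key : ∀ x : {x : K // x⁻¹ = x}, (⟨t * (x.1 : G) * t, htK x.1.2⟩ : K)⁻¹ = ⟨t * (x.1 : G) * t, htK x.1.2⟩ := by
    rintro ⟨x, hx⟩
    apply Subtype.ext
    show (t * (x : G) * t)⁻¹ = t * (x : G) * t
    rw [← S.tinv]
    have : (x : G)⁻¹ = x := congrArg Subtype.val hx
    rw [this]
  have h2 := card_mod_two (α := {x : K // x⁻¹ = x}) (fun x => ⟨⟨t * (x.1 : G) * t, htK x.1.2⟩, key x⟩)
    (fun x => Subtype.ext (Subtype.ext (S.tconj _)))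
  have h3 : Fintype.card {x : {x : K // x⁻¹ = x} //
      (⟨⟨t * (x.1 : G) * t, htK x.1.2⟩, key x⟩ : {x : K // x⁻¹ = x}) = x} = 1 := by
    rw [Fintype.card_eq_one_iff]
    refine ⟨⟨⟨1, inv_one⟩, ?_⟩, ?_⟩
    · apply Subtype.ext
      apply Subtype.ext
      show t * ((1 : K) : G) * t = ((1 : K) : G)
      rw [Subgroup.coe_one, mul_one, S.tt]
    · rintro ⟨⟨⟨x, hx⟩, hxi⟩, hxt⟩
      apply Subtype.ext
      apply Subtype.ext
      apply Subtype.ext
      show x = 1
      have h4 : x⁻¹ = x := congrArg Subtype.val hxi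
      have h5 : t * x * t = x := congrArg (fun z : {x : K // x⁻¹ = x} => ((z : K) : G)) hxt
      refine W.oddC C x (hmem.mp hx) ?_ ?_
      · calc x * t = t * x * t * t := by rw [h5]
          _ = t * x := by rw [mul_assoc, S.tt, mul_one]
      · calc x * x = x⁻¹ * x := by rw [h4]
          _ = 1 := inv_mul_cancel x
  rw [Nat.card_eq_fintype_card, Nat.odd_iff, h1]
  have h4 : ∀ (i j : Fintype {x : K // x⁻¹ = x}), @Fintype.card _ i = @Fintype.card _ j := fun i j => by
    rw [← @Nat.card_eq_fintype_card _ i, ← @Nat.card_eq_fintype_card _ j]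
  rw [h4 _ this, h2, h3]

theorem eq_one_of_cent (W : Wz fr1 fr2 A t) {L : Subgroup G} (C : Conf L A t) {c : G}
    (h1 : ∀ x ∈ G1, c * x = x * c) (h2 : ∀ x ∈ G2, c * x = x * c) (hk : ∃ k : ℕ, c ^ 2 ^ k = 1) : c = 1 := by
  obtain ⟨k, hk⟩ := hk
  refine eq_one_of_two_odd (W.odd_cent C) ?_ hk
  rw [mem_centralizer_iff]
  intro m hm
  have S := W.swap (tt C.ht)
  obtain ⟨a, ha, b, hb, rfl⟩ := S.mem_MM.mp hm
  rw [W.M2_eq (tt C.ht)] at hb
  rw [mul_assoc, ← h2 b hb, ← mul_assoc, ← h1 a ha, mul_assoc]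

end Wz

/-! ### `Conf` -/

section Conf

variable {G : Type*} [Group G] [Finite G] {L A : Subgroup G} {t : G}

theorem conf_gen (C : Conf L A t) (g : G) : g ∈ L ∨ t * g ∈ L := by
  have hL := C.normal
  have htt : t * t = 1 := tt C.ht
  let K : Subgroup G :=
    { carrier := {g | g ∈ L ∨ t * g ∈ L}
      mul_mem' := by
        rintro a b (ha | ha) (hb | hb)
        · exact Or.inl (mul_mem ha hb)
        · right
          have h2 := hL.conj_mem a ha t
          have h3 : t * (a * b) = (t * a * t⁻¹) * (t * b) := by group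
          rw [h3]; exact mul_mem h2 hb
        · right
          have h3 : t * (a * b) = t * a * b := by group
          rw [h3]; exact mul_mem ha hb
        · left
          have h2 := hL.conj_mem _ ha t
          have h3 : a * b = (t * (t * a) * t⁻¹) * (t * b) := by
            calc a * b = (t * t) * a * b := by rw [htt, one_mul]
              _ = _ := by group
          rw [h3]; exact mul_mem h2 hb
      one_mem' := Or.inl (one_mem _)
      inv_mem' := by
        rintro a (ha | ha)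
        · exact Or.inl (inv_mem ha)
        · right
          have h2 := hL.conj_mem _ (inv_mem ha) t
          have h3 : t * a⁻¹ = t * (t * a)⁻¹ * t⁻¹ * (t * t) := by group
          rw [h3, htt, mul_one]; exact h2 }
  have h2 : L ⊔ zpowers t ≤ K := sup_le (fun x hx => Or.inl hx) (by
    rw [zpowers_le]
    right
    rw [htt]; exact one_mem _)
  rw [C.gen] at h2
  exact h2 (mem_top g)

theorem conf_perfect (C : Conf L A t) : commutator ↥L = ⊤ := by
  have := C.simple
  rcases (inferInstance : (commutator ↥L).Normal).eq_bot_or_eq_top with h | h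
  · exfalso
    apply C.not_comm
    rw [commutator_eq_bot_iff_center_eq_top] at h
    refine ⟨⟨fun a b => ?_⟩⟩
    have : b ∈ center ↥L := by rw [h]; exact mem_top _
    exact mem_center_iff.mp this a
  · exact h

/-- perfect subgroups lie in `L` -/
theorem conf_perf_le (C : Conf L A t) {K : Subgroup G} (hK : ⁅K, K⁆ = K) : K ≤ L := by
  have hL := C.normal
  have htt : t * t = 1 := tt C.ht
  rw [← hK, commutator_le]
  intro x _ y _
  rw [commutatorElement_def]
  have h1 := QuotientGroup.eq_one_iff (N := L) (x * y * x⁻¹ * y⁻¹)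
  rw [← h1]
  have hq : ∀ g : G, (g : G ⧸ L) = 1 ∨ (g : G ⧸ L) = (t : G ⧸ L) := by
    intro g
    rcases conf_gen C g with h | h
    · exact Or.inl ((QuotientGroup.eq_one_iff g).mpr h)
    · right
      have h2 : ((t * g : G) : G ⧸ L) = 1 := (QuotientGroup.eq_one_iff _).mpr h
      have h3 : (t : G ⧸ L) * (t : G ⧸ L) = 1 := by rw [← QuotientGroup.mk_mul, htt, QuotientGroup.mk_one]
      rw [QuotientGroup.mk_mul] at h2
      exact mul_left_cancel (h2.trans h3.symm)
  rw [QuotientGroup.mk_mul, QuotientGroup.mk_mul, QuotientGroup.mk_mul, QuotientGroup.mk_inv, QuotientGroup.mk_inv]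
  rcases hq x with hx | hx <;> rcases hq y with hy | hy <;> rw [hx, hy] <;> group

end Conf

/-! ### The main theorem -/

section Main

variable {G : Type*} [Group G] [Finite G] {F : Type*} [Field F] [Finite F] [CharP F 2] {L A G1 G2 : Subgroup G}
  {t : G} {fr1 : FrameL3 G1 F} {fr2 : FrameL3 G2 F}

/-- conjugation of `Adapted` by `t`. -/
theorem adapted_conj (tt : t * t = 1) {fr : FrameL3 G1 F} {fr' : FrameL3 G2 F}
    (hx : ∀ (i j : Fin 3) (s : F), fr'.x i j s = t * fr.x i j s * t⁻¹) {T : Subgroup G}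
    (hT : ∀ y ∈ T, t * y * t ∈ T) (had : Adapted fr T) : Adapted fr' T := by
  have ti : t⁻¹ = t := inv_eq_of_mul_eq_one_left tt
  intro y hy
  obtain ⟨u, hu, σ, hσ, h⟩ := had _ (hT y hy)
  have hU : ∀ u ∈ fr.U, t * u * t⁻¹ ∈ fr'.U := by
    intro u hu
    have h1 : fr.U ≤ fr'.U.comap (MulAut.conj t).toMonoidHom := by
      rw [FrameL3.U, closure_le]
      rintro _ ⟨i, j, hij, s, rfl⟩
      show t * fr.x i j s * t⁻¹ ∈ fr'.U
      rw [← hx]
      exact fr'.x_mem_U hij s
    exact h1 hu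
  refine ⟨t * u * t⁻¹, hU u hu, σ, hσ, ?_⟩
  have e : ∀ z : G, (t * u * t⁻¹ * y) * (t * z * t⁻¹) * (t * u * t⁻¹ * y)⁻¹ = t * ((u * (t * y * t)) * z * (u * (t * y * t))⁻¹) * t⁻¹ := by
    intro z
    have h1 : t * u * t⁻¹ * y = t * (u * (t * y * t)) * t⁻¹ := by
      calc t * u * t⁻¹ * y = t * u * t⁻¹ * y * (t * t) * (t⁻¹ * t⁻¹) := by rw [tt, ti, tt, mul_one, mul_one]
        _ = t * (u * (t⁻¹ * y * t)) * t⁻¹ := by group
        _ = _ := by rw [ti]
    rw [h1]; group
  rcases h with h | h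
  · left
    intro i j hij s
    rw [hx, e, h i j hij s, hx]
  · right
    intro i j hij s
    rw [hx, e, h i j hij s, hx]

/-- **The complete wreath configuration.** -/
theorem exists_wr (C : Conf L A t) (W : Wz fr1 fr2 A t) (hS : Cfsg.Agent.Schreier.Basic.Sch ↥A)
    (hF1 : ∀ g : G, g⁻¹ * t * g ∉ NN G1 G2) :
    ∃ (fr : FrameL3 G1 F) (fr' : FrameL3 G2 F) (P : Sylow 2 G), Wr fr fr' L P t := by
  have htt := tt C.ht
  have ti : t⁻¹ = t := inv_eq_of_mul_eq_one_left htt
  have S := W.swap htt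
  have hM2 := W.M2_eq htt
  have hYZ := W.YZ_eq htt
  have H := W.half C hS hF1 (conf_perfect C) (conf_gen C)
  have hp1 := W.perf'
  have hp2 : ⁅G2, G2⁆ = G2 := by
    rw [← hM2]
    show ⁅G1.map (MulAut.conj t).toMonoidHom, G1.map (MulAut.conj t).toMonoidHom⁆ = G1.map (MulAut.conj t).toMonoidHom
    rw [← Subgroup.map_commutator, hp1]
  have hperf2 : commutator ↥G2 = ⊤ := by
    apply Subgroup.map_injective G2.subtype_injective
    rw [commutator_def, Subgroup.map_commutator, ← MonoidHom.range_eq_map, Subgroup.range_subtype, hp2]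
  have hZ2 : Odd (Nat.card (center ↥G2)) := by
    have h1 := map_center_equiv (cjT htt W.t_G1 W.t_G2)
    rw [← h1]
    have h2 : Nat.card ((center ↥G1).map (cjT htt W.t_G1 W.t_G2).toMonoidHom) = Nat.card (center ↥G1) :=
      Nat.card_congr ((center ↥G1).equivMapOfInjective _ (cjT htt W.t_G1 W.t_G2).injective).toEquiv.symm
    rw [h2]
    exact W.oddZ
  -- the 2-group `U₁ U₂ ⟨t⟩`
  have hG1Y : G1 ≤ YY G1 t := (le_sup_left.trans S.MM_le_YZ).trans S.YZ_le
  have hU1 : fr1.U ≤ G1 := fr1.U_le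
  have hU1p : IsPGroup 2 fr1.U := fr1.isPGroup_U W.oddZ
  set U2 : Subgroup G := fr1.U.map (MulAut.conj t).toMonoidHom with hU2
  have hU2le : U2 ≤ M2 G1 t := Subgroup.map_mono hU1
  have hU2mem : ∀ u ∈ fr1.U, t * u * t⁻¹ ∈ U2 := fun u hu => ⟨u, hu, rfl⟩
  have hcomm12 : U2 ≤ normalizer (fr1.U : Set G) := by
    intro w hw
    rw [mem_normalizer_iff]
    intro x
    constructor
    · intro hx
      rw [← S.commM (hU1 hx) (hU2le hw), mul_inv_cancel_right]
      exact hx
    · intro hx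
      have h1 := S.commM (hU1 hx) (hU2le hw)
      have h2 : w * x * w⁻¹ = x := by
        have : w * (w * x * w⁻¹) = w * x := by rw [← h1]; group
        exact mul_left_cancel this
      rwa [h2] at hx
  have hQ0 : IsPGroup 2 (fr1.U ⊔ U2 : Subgroup G) := hU1p.to_sup_of_normal_left' (hU1p.map _) hcomm12
  have htU2 : ∀ x ∈ fr1.U ⊔ U2, t * x * t⁻¹ ∈ fr1.U ⊔ U2 := by
    intro x hx
    have h1 : fr1.U ⊔ U2 ≤ (fr1.U ⊔ U2).comap (MulAut.conj t).toMonoidHom := by
      refine sup_le (fun u hu => mem_sup_right (hU2mem u hu)) ?_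
      rintro _ ⟨u, hu, rfl⟩
      refine mem_sup_left ?_
      show t * (t * u * t⁻¹) * t⁻¹ ∈ fr1.U
      rw [ti, S.tconj]
      exact hu
    exact h1 hx
  have htN : zpowers t ≤ normalizer ((fr1.U ⊔ U2 : Subgroup G) : Set G) := by
    rw [zpowers_le]
    exact mem_normalizer_of_conj_le htU2
  have hQ : IsPGroup 2 (fr1.U ⊔ U2 ⊔ zpowers t : Subgroup G) :=
    hQ0.to_sup_of_normal_left' (isPGroup_zpowers C.ht) htN
  have hQY : fr1.U ⊔ U2 ⊔ zpowers t ≤ YY G1 t :=
    sup_le (sup_le (hU1.trans hG1Y) (hU2le.trans ((le_sup_right.trans S.MM_le_YZ).trans S.YZ_le)))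
      (by rw [zpowers_le]; exact S.t_mem_YY)
  obtain ⟨P, hPY, hQP⟩ := H.exists_sylow hQ hQY
  have htP : t ∈ (P : Subgroup G) := hQP (mem_sup_right (mem_zpowers t))
  have hU1P : fr1.U ≤ (P : Subgroup G) := (le_sup_left.trans le_sup_left).trans hQP
  have hU2P : U2 ≤ (P : Subgroup G) := (le_sup_right.trans le_sup_left).trans hQP
  set S0 : Subgroup G := (P : Subgroup G) ⊓ NN G1 G2 with hS0
  have hS02 : IsPGroup 2 S0 := P.isPGroup'.to_le inf_le_left
  have hG1N : G1 ≤ NN G1 G2 := by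
    rw [← hYZ]; exact le_sup_left.trans S.MM_le_YZ
  have hPG1 : (P : Subgroup G) ⊓ G1 = fr1.U :=
    (L3Data.isSyl_U W.oddZ fr1).max _ (P.isPGroup'.to_le inf_le_left) inf_le_right (le_inf hU1P hU1)
  obtain ⟨c, hc⟩ := OutL3Je.exists_adapted fr1 W.oddZ S0 hS02
    (inf_le_right.trans inf_le_left) (by
      intro y hy u hu
      rw [← hPG1] at hu ⊢
      obtain ⟨hy1, hy2⟩ := mem_inf.mp hy
      exact mem_inf.mpr ⟨mul_mem (mul_mem hy1 hu.1) (inv_mem hy1),
        conj_mem_of_mem_normalizer (mem_inf.mp hy2).1 hu.2⟩)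
  set fr : FrameL3 G1 F := fr1.rescale c with hfr
  set fr' : FrameL3 G2 F := conjFrame fr htt W.t_G1 W.t_G2 with hfr'
  have hframe : ∀ (i j : Fin 3) (s : F), fr'.x i j s = t * fr.x i j s * t⁻¹ := fun _ _ _ => rfl
  have htS0 : ∀ y ∈ S0, t * y * t ∈ S0 := by
    intro y hy
    obtain ⟨hy1, hy2⟩ := mem_inf.mp hy
    refine mem_inf.mpr ⟨mul_mem (mul_mem htP hy1) htP, H.t_Y0 y hy2⟩
  refine ⟨fr, fr', P, ?_⟩
  exact {
    normal := C.normal
    perf := conf_perfect C
    gen := conf_gen C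
    tE := H.t_not_mem
    tt := htt
    oddZ := W.oddZ
    oddZ' := hZ2
    perf1 := W.perf1
    perf2 := hperf2
    t_G1 := W.t_G1
    t_G2 := W.t_G2
    frame := hframe
    comm := W.comm
    le_E := conf_perf_le C hp1
    le_E' := conf_perf_le C hp2
    tP := htP
    U_le := by rw [hfr, FrameL3.rescale_U]; exact hU1P
    U'_le := by
      rw [FrameL3.U, closure_le]
      rintro _ ⟨i, j, hij, s, rfl⟩
      rw [hframe]
      exact mul_mem (mul_mem htP (hU1P (fr1.x_mem_U hij _))) (inv_mem htP)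
    P_le := fun x hx => H.Y_or x (hPY hx)
    adapted := hc
    adapted' := adapted_conj htt hframe htS0 hc
    cent := fun c h1 h2 hk => W.eq_one_of_cent C h1 h2 hk
    F1 := hF1
    fix := fun g hg => W.fix C hS hF1 g hg
    inv_E := fun x hx hxx hxt => H.f_mem hx hxx hxt }

end Main

end Cfsg.Agent.StdRank2.L3W
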