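import Cfsg.Agent.StdRank2.L3W.Last

/-!
# Wreath case of type `L₃(q)`: `P ∩ E = U₁ U₂`
-/

set_option autoImplicit false

namespace Cfsg.Agent.StdRank2.L3W

open Subgroup Cfsg.Agent.StdRank2.OutL3Inv Cfsg.Agent.StdRank2.OutL3Je Cfsg.Agent.StdRank2.OutL3Rel
  Cfsg.Agent.StdRank2.OutSplit Cfsg.Agent.StdRank2.L3W6.Types Cfsg.Agent.StdRank2.L3W.Tab
  Cfsg.Agent.StdRank2.L3W.Elem Cfsg.Agent.StdRank2.OutField

variable {G : Type*} [Group G] [Finite G] {F : Type*} [Field F] [Finite F] [CharP F 2] {G1 G2 : Subgroup G}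
  {fr : FrameL3 G1 F} {fr' : FrameL3 G2 F} {E : Subgroup G} {P : Sylow 2 G} {t : G}

/-- a 2-power which has order exactly two -/
theorem exists_pow_two {M : Type*} [Monoid M] {a : M} (h1 : a ≠ 1) (h : ∃ n : ℕ, a ^ 2 ^ n = 1) :
    ∃ k : ℕ, a ^ 2 ^ k ≠ 1 ∧ a ^ 2 ^ k * a ^ 2 ^ k = 1 := by
  classical
  have hn := Nat.find_spec h
  have hpos : Nat.find h ≠ 0 := by
    intro h0
    rw [h0, pow_zero, pow_one] at hn
    exact h1 hn
  obtain ⟨k, hk⟩ := Nat.exists_eq_succ_of_ne_zero hpos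
  refine ⟨k, Nat.find_min h (by rw [hk]; exact Nat.lt_succ_self k), ?_⟩
  rw [hk] at hn
  rw [← pow_two, ← pow_mul, ← pow_succ]
  exact hn

namespace Wr

variable (W : Wr fr fr' E P t)
include W

theorem om_pow {z : G} (hz : z ∈ (P ⊓ NN G1 G2 : Subgroup G)) (n : ℕ) :
    om fr (z ^ n) = om fr z ^ n ∧ om fr' (z ^ n) = om fr' z ^ n := by
  have hT := W.two
  induction n with
  | zero => rw [pow_zero, pow_zero, pow_zero]; exact ⟨om_one fr, om_one fr'⟩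
  | succ n ih =>
    rw [pow_succ, pow_succ, pow_succ, om_mul fr (hT.norm1 (pow_mem hz n)) (hT.norm1 hz),
      om_mul fr' (hT.norm2 (pow_mem hz n)) (hT.norm2 hz), ih.1, ih.2]
    exact ⟨rfl, rfl⟩

/-- a diagonal type of order two -/
theorem exists_diag {x : G} (hx : x ∈ (P ⊓ NN G1 G2 : Subgroup G)) (hxN : x ∉ fr.U ⊔ fr'.U) :
    ∃ c : Ty F, c ≠ 1 ∧ c * c = 1 ∧ Two.D fr fr' (P ⊓ NN G1 G2 : Subgroup G) c := by
  have hT := W.two
  have htwo : ∀ z ∈ (P ⊓ NN G1 G2 : Subgroup G), ∃ n : ℕ, z ^ 2 ^ n = 1 := by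
    intro z hz
    obtain ⟨k, hk⟩ := P.isPGroup' ⟨z, (mem_inf.1 hz).1⟩
    exact ⟨k, congrArg Subtype.val hk⟩
  -- from a nontrivial diagonal type
  have step : ∀ z ∈ (P ⊓ NN G1 G2 : Subgroup G), om fr z ≠ 1 → om fr' z = om fr z →
      ∃ c : Ty F, c ≠ 1 ∧ c * c = 1 ∧ Two.D fr fr' (P ⊓ NN G1 G2 : Subgroup G) c := by
    intro z hz h1 h2
    obtain ⟨n, hn⟩ := htwo z hz
    obtain ⟨k, hk1, hk2⟩ := exists_pow_two h1 ⟨n, by rw [← (W.om_pow hz _).1, hn, om_one]⟩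
    exact ⟨_, hk1, hk2, z ^ 2 ^ k, pow_mem hz _, (W.om_pow hz _).1, by rw [(W.om_pow hz _).2, h2]⟩
  have hx' := W.t_S0 hx
  have e1 : om fr (x * (t * x * t)) = om fr x * om fr' x := by
    rw [om_mul fr (hT.norm1 hx) (hT.norm1 hx'), W.om_t hx]
  have e2 : om fr' (x * (t * x * t)) = om fr' x * om fr x := by
    rw [om_mul fr' (hT.norm2 hx) (hT.norm2 hx'), W.om_t' hx]
  by_cases h : om fr x * om fr' x = 1
  · -- types `(a, a⁻¹)`
    have ha : om fr x ≠ 1 := by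
      intro h1
      rw [h1, one_mul] at h
      exact hxN ((W.mem_N_iff hx).2 ⟨h1, h⟩)
    have hb : om fr' x = (om fr x)⁻¹ := (inv_eq_of_mul_eq_one_right h).symm
    obtain ⟨n, hn⟩ := htwo x hx
    obtain ⟨k, hk1, hk2⟩ := exists_pow_two ha ⟨n, by rw [← (W.om_pow hx _).1, hn, om_one]⟩
    refine ⟨_, hk1, hk2, x ^ 2 ^ k, pow_mem hx _, (W.om_pow hx _).1, ?_⟩
    rw [(W.om_pow hx _).2, hb, inv_pow]
    exact inv_eq_of_mul_eq_one_right hk2
  · refine step _ (mul_mem hx hx') (by rw [e1]; exact h) ?_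
    rw [e1, e2, ty_comm]

/-- **uniqueness of the class**: the involutions of `S₀` with the types of `y` are conjugate to `y` under `U₁U₂` -/
theorem conj_class {y w : G} (hy : y ∈ (P ⊓ NN G1 G2 : Subgroup G)) (hyy : y * y = 1) (hy1 : om fr y ≠ 1)
    (hy12 : om fr' y = om fr y)
    (hst : (Fld fr y (om fr y).1 ∧ Fld fr' y (om fr y).1) ∨ (Grf fr y (om fr y).1 ∧ Grf fr' y (om fr y).1))
    (hw : w ∈ (P ⊓ NN G1 G2 : Subgroup G)) (hww : w * w = 1) (h1 : om fr w = om fr y) (h2 : om fr' w = om fr' y) :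
    ∃ n ∈ (P ⊓ NN G1 G2 : Subgroup G), w = n * y * n⁻¹ := by
  have hT := W.two
  have hyi : y⁻¹ = y := inv_eq_of_mul_eq_one_right hyy
  have hm : y⁻¹ * w ∈ (P ⊓ NN G1 G2 : Subgroup G) := mul_mem (inv_mem hy) hw
  obtain ⟨v1, hv1, v2, hv2, e⟩ := hT.exists_mul hm
    (by rw [om_mul fr (inv_mem (hT.norm1 hy)) (hT.norm1 hw), om_inv fr (hT.norm1 hy), h1, inv_mul_cancel])
    (by rw [om_mul fr' (inv_mem (hT.norm2 hy)) (hT.norm2 hw), om_inv fr' (hT.norm2 hy), h2, inv_mul_cancel])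
  have hwe : w = y * (v1 * v2) := by rw [← e]; group
  have hcomm : v1 * v2 = v2 * v1 := W.comm _ (fr.U_le hv1) _ (fr'.U_le hv2)
  have hyc1 : y * y ∈ centralizer (G1 : Set G) := by rw [hyy]; exact one_mem _
  have hyc2 : y * y ∈ centralizer (G2 : Set G) := by rw [hyy]; exact one_mem _
  have hw1 : y * v1 * y⁻¹ ∈ fr.U := hT.conjU1 hy hv1
  have hw2 : y * v2 * y⁻¹ ∈ fr'.U := hT.conjU2 hy hv2
  -- `(y v1)² (y⁻¹ v2 y) v2 = 1`
  have k1 : y * v1 * (y * v1) * ((y * v2 * y⁻¹) * v2) = 1 := by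
    have k2 : w * w = y * v1 * (y * v1) * ((y * v2 * y⁻¹) * v2) := by
      have c1 : v1 * (y * v2 * y⁻¹) = (y * v2 * y⁻¹) * v1 := W.comm _ (fr.U_le hv1) _ (fr'.U_le hw2)
      have c2 : v2 * y = y * (y * v2 * y⁻¹) := by
        calc v2 * y = (y * y) * v2 * y := by rw [hyy, one_mul]
          _ = y * (y * v2 * y) := by group
          _ = y * (y * v2 * y⁻¹) := by rw [hyi]
      calc w * w = y * (v1 * v2) * (y * (v1 * v2)) := by rw [hwe]
        _ = y * v1 * (v2 * y) * (v1 * v2) := by group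
        _ = y * v1 * y * ((y * v2 * y⁻¹) * v1) * v2 := by rw [c2]; group
        _ = y * v1 * y * (v1 * (y * v2 * y⁻¹)) * v2 := by rw [c1]
        _ = y * v1 * (y * v1) * ((y * v2 * y⁻¹) * v2) := by group
    rw [← k2, hww]
  have k3 : (y * v1) * (y * v1) ∈ centralizer (G1 : Set G) := by
    have : (y * v1) * (y * v1) = ((y * v2 * y⁻¹) * v2)⁻¹ := eq_inv_of_mul_eq_one_left k1
    rw [this]
    exact inv_mem (mul_mem (hT.cA1 (fr'.U_le hw2)) (hT.cA1 (fr'.U_le hv2)))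
  have l1 : y * v2 * (y * v2) * ((y * v1 * y⁻¹) * v1) = 1 := by
    have k2 : w * w = y * v2 * (y * v2) * ((y * v1 * y⁻¹) * v1) := by
      have c1 : v2 * (y * v1 * y⁻¹) = (y * v1 * y⁻¹) * v2 := (W.comm _ (fr.U_le hw1) _ (fr'.U_le hv2)).symm
      have c2 : v1 * y = y * (y * v1 * y⁻¹) := by
        calc v1 * y = (y * y) * v1 * y := by rw [hyy, one_mul]
          _ = y * (y * v1 * y) := by group
          _ = y * (y * v1 * y⁻¹) := by rw [hyi]
      calc w * w = y * (v2 * v1) * (y * (v2 * v1)) := by rw [hwe, hcomm]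
        _ = y * v2 * (v1 * y) * (v2 * v1) := by group
        _ = y * v2 * y * ((y * v1 * y⁻¹) * v2) * v1 := by rw [c2]; group
        _ = y * v2 * y * (v2 * (y * v1 * y⁻¹)) * v1 := by rw [c1]
        _ = y * v2 * (y * v2) * ((y * v1 * y⁻¹) * v1) := by group
    rw [← k2, hww]
  have l3 : (y * v2) * (y * v2) ∈ centralizer (G2 : Set G) := by
    have : (y * v2) * (y * v2) = ((y * v1 * y⁻¹) * v1)⁻¹ := eq_inv_of_mul_eq_one_left l1
    rw [this]
    exact inv_mem (mul_mem (hT.cA2 (fr.U_le hw1)) (hT.cA2 (fr.U_le hv1)))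
  obtain ⟨a, ha, ea⟩ : ∃ a ∈ fr.U, y * v1 = a * y * a⁻¹ := by
    rcases hst with ⟨f1, -⟩ | ⟨f1, -⟩
    · refine conj_of_sq_fld W.oddZ f1 (fun h0 => hy1 ?_) hyc1 hv1 k3
      rw [om_fld fr (hT.norm1 hy) f1, h0]; rfl
    · exact conj_of_sq_grf W.oddZ f1 hyc1 hv1 k3
  obtain ⟨b, hb, eb⟩ : ∃ b ∈ fr'.U, y * v2 = b * y * b⁻¹ := by
    rcases hst with ⟨-, f1⟩ | ⟨-, f1⟩
    · refine conj_of_sq_fld W.oddZ' f1 (fun h0 => hy1 ?_) hyc2 hv2 l3
      rw [← hy12, om_fld fr' (hT.norm2 hy) f1, h0]; rfl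
    · exact conj_of_sq_grf W.oddZ' f1 hyc2 hv2 l3
  refine ⟨a * b, mul_mem (hT.U1 ha) (hT.U2 hb), ?_⟩
  have c3 : v2 * a⁻¹ = a⁻¹ * v2 := (W.comm _ (inv_mem (fr.U_le ha)) _ (fr'.U_le hv2)).symm
  symm
  calc a * b * y * (a * b)⁻¹ = a * (b * y * b⁻¹) * a⁻¹ := by group
    _ = a * (y * v2) * a⁻¹ := by rw [eb]
    _ = a * y * (v2 * a⁻¹) := by group
    _ = a * y * (a⁻¹ * v2) := by rw [c3]
    _ = (a * y * a⁻¹) * v2 := by group
    _ = y * v1 * v2 := by rw [← ea]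
    _ = w := by rw [hwe]; group

/-- **`P ∩ E = U₁ U₂`.** -/
theorem inf_eq (hq : 4 ≤ Nat.card F) (h1 : (P ⊓ NN G1 G2 : Subgroup G) ≤ E) :
    (P : Subgroup G) ⊓ E = fr.U ⊔ fr'.U := by
  have hT := W.two
  have hEn := W.normal
  letI : CommGroup (Ty F) := tyComm F
  let ψ : ↥(P ⊓ NN G1 G2 : Subgroup G) →* Ty F :=
    { toFun := fun x => om fr (x : G)
      map_one' := om_one fr
      map_mul' := fun a b => om_mul fr (hT.norm1 a.2) (hT.norm1 b.2) }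
  have hψ : ∀ x (hx : x ∈ (P ⊓ NN G1 G2 : Subgroup G)), ψ ⟨x, hx⟩ = om fr x := fun _ _ => rfl
  refine inf_eq_table (E := E) inf_le_left W.hidx W.tt W.tP W.tE W.perf h1 ψ (fun x hx => W.t_S0 hx) ?_
    (sup_le W.U_le_S0 W.U'_le_S0) ?_ ?_
  · intro x hx
    rw [hψ, hψ, W.om_t hx]
    exact W.mem_N_iff hx
  · intro u hu hu0 x hx hc
    rw [hψ, hψ, W.om_t hx]
    exact W.om_eq_of_comm hu hu0 hx hc
  · intro hne
    -- a type
    obtain ⟨c, hc1, hcc, hcD, hcg⟩ : ∃ c : Ty F, c ≠ 1 ∧ c * c = 1 ∧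
        Two.D fr fr' (P ⊓ NN G1 G2 : Subgroup G) c ∧
        (Two.D fr fr' (P ⊓ NN G1 G2 : Subgroup G) (gm F) → c = gm F) := by
      by_cases hg : Two.D fr fr' (P ⊓ NN G1 G2 : Subgroup G) (gm F)
      · refine ⟨gm F, ?_, ?_, hg, fun _ => rfl⟩
        · intro he
          exact absurd (congrArg Prod.snd he) (by show ¬ ((-1 : ℤˣ) = 1); decide)
        · exact Prod.ext (mul_one _) (by show (-1 : ℤˣ) * (-1) = 1; decide)
      · obtain ⟨x, hx, hxN⟩ : ∃ x ∈ (P ⊓ NN G1 G2 : Subgroup G), x ∉ fr.U ⊔ fr'.U := by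
          by_contra hcon
          push Not at hcon
          exact hne (le_antisymm hcon (sup_le W.U_le_S0 W.U'_le_S0))
        obtain ⟨c, h1, h2, h3⟩ := W.exists_diag hx hxN
        exact ⟨c, h1, h2, h3, fun h => absurd h hg⟩
    obtain ⟨y, hy, hyy, hyt, hy1, hy2, hst⟩ := W.exists_inv hcD hcc
    refine ⟨y, hy, hyy, hyt, by rw [hψ, hy1]; exact hc1, ?_, ?_, ?_⟩
    · intro g hg hgy
      obtain ⟨h, e1, e2⟩ := W.fusion hy hyt hg hgy
      refine ⟨h, ?_, ?_⟩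
      · rw [hψ, hψ, e1]
      · rw [hψ, hψ, W.om_t h, e2, hy2, hy1]
    · intro w hw hww e1 e2
      rw [hψ, hψ] at e1
      rw [hψ, hψ, W.om_t hw] at e2
      obtain ⟨n, hn, he⟩ := W.conj_class hy hyy (by rw [hy1]; exact hc1) (hy2.trans hy1.symm)
        (by rw [hy1]; exact hst) hw hww e1 (by rw [e2, hy1, hy2])
      have hnP : n ∈ (P : Subgroup G) := (mem_inf.1 hn).1
      have hmem : ∀ x : cen (P : Subgroup G) w, n⁻¹ * (x : G) * n ∈ cen (P : Subgroup G) y := by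
        rintro ⟨x, hx⟩
        obtain ⟨hxP, hxw⟩ := mem_cen.1 hx
        refine mem_cen.2 ⟨mul_mem (mul_mem (inv_mem hnP) hxP) hnP, ?_⟩
        have hye : y = n⁻¹ * w * n := by rw [he]; group
        calc n⁻¹ * x * n * y = n⁻¹ * (x * w) * n := by rw [hye]; group
          _ = n⁻¹ * (w * x) * n := by rw [hxw]
          _ = y * (n⁻¹ * x * n) := by rw [hye]; group
      refine Nat.card_le_card_of_injective (fun x => (⟨_, hmem x⟩ : cen (P : Subgroup G) y)) ?_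
      intro x x' e
      have e3 : n⁻¹ * (x : G) * n = n⁻¹ * (x' : G) * n := congrArg Subtype.val e
      exact Subtype.ext (mul_left_cancel (mul_right_cancel e3))
    · intro g _ h hne
      rw [hψ, hψ, W.om_t h] at hne
      refine hT.htab hq hy hyy (by rw [hy1]; exact hc1) (hy2.trans hy1.symm)
        (fun hg => by rw [hy1]; exact hcg hg) ?_ h hne
      intro z hz
      exact ⟨t * z * t, W.t_S0 hz, W.om_t hz, W.om_t' hz⟩

end Wr

end Cfsg.Agent.StdRank2.L3W
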