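import Cfsg.Agent.StdRank2.L3W.Defs
import Cfsg.Agent.StdRank2.OutSplit.Final

/-!
# Wreath case of type `L₃(q)`: `OutData` from `Wr`

`S₀ = P ∩ N(G₁) ∩ N(G₂)`, `N = U₁U₂`, `S_i = U_i`, `Z = Z(U₁)`.
-/

set_option autoImplicit false

namespace Cfsg.Agent.StdRank2.L3W

open Subgroup Cfsg.Agent.StdRank2.OutL3Inv Cfsg.Agent.StdRank2.OutL3Je Cfsg.Agent.StdRank2.OutL3Rel
  Cfsg.Agent.StdRank2.OutSplit
open scoped commutatorElement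

variable {G : Type*} [Group G] [Finite G] {F : Type*} [Field F] [Finite F] [CharP F 2] {G1 G2 : Subgroup G}
  {fr : FrameL3 G1 F} {fr' : FrameL3 G2 F} {E : Subgroup G} {P : Sylow 2 G} {t : G}

/-- `Z(U)` -/
def ZU (fr : FrameL3 G1 F) (hZ : Odd (Nat.card (center ↥G1))) : Subgroup G where
  carrier := {g | ∃ t, g = u fr 0 0 t}
  mul_mem' := by
    rintro _ _ ⟨t, rfl⟩ ⟨t', rfl⟩
    exact ⟨_, by rw [u_mul fr hZ, add_zero]⟩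
  one_mem' := ⟨0, (u_zero fr hZ).symm⟩
  inv_mem' := by
    rintro _ ⟨t, rfl⟩
    exact ⟨_, u_inv fr hZ 0 0 t⟩

theorem norm_U {T : Subgroup G} (hZ : Odd (Nat.card (center ↥G1))) (h : Adapted fr T) {x a : G} (hx : x ∈ T)
    (ha : a ∈ fr.U) : x * a * x⁻¹ ∈ fr.U := by
  rcases h.cases hx with ⟨σ, h1⟩ | ⟨σ, h1⟩
  · exact h1.norm hZ ha
  · exact h1.norm hZ ha

theorem isTwo_U (hZ : Odd (Nat.card (center ↥G1))) : IsPGroup 2 fr.U := by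
  rintro ⟨x, hx⟩
  obtain ⟨r, s, t, rfl⟩ := (mem_U fr hZ).1 hx
  refine ⟨2, Subtype.ext ?_⟩
  show u fr r s t ^ (2 ^ 2) = 1
  have h1 : u fr r s t ^ (2 ^ 2) = (u fr r s t * u fr r s t) * (u fr r s t * u fr r s t) := by
    rw [show (2 : ℕ) ^ 2 = 4 from rfl, pow_succ, pow_succ, pow_two]; group
  rw [h1, u_sq fr hZ, u_sq fr hZ, mul_zero, u_zero fr hZ]

namespace Wr

variable (W : Wr fr fr' E P t)
include W

theorem sup_mem {x : G} (hx : x ∈ fr.U ⊔ fr'.U) : ∃ a ∈ fr.U, ∃ b ∈ fr'.U, x = a * b := by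
  have hc : ∀ a ∈ fr.U, ∀ b ∈ fr'.U, a * b = b * a := fun a ha b hb => W.comm a (fr.U_le ha) b (fr'.U_le hb)
  let H : Subgroup G :=
    { carrier := {x | ∃ a ∈ fr.U, ∃ b ∈ fr'.U, x = a * b}
      mul_mem' := by
        rintro _ _ ⟨a, ha, b, hb, rfl⟩ ⟨a', ha', b', hb', rfl⟩
        refine ⟨a * a', mul_mem ha ha', b * b', mul_mem hb hb', ?_⟩
        calc a * b * (a' * b') = a * (b * a') * b' := by group
          _ = a * (a' * b) * b' := by rw [hc a' ha' b hb]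
          _ = a * a' * (b * b') := by group
      one_mem' := ⟨1, one_mem _, 1, one_mem _, (mul_one 1).symm⟩
      inv_mem' := by
        rintro _ ⟨a, ha, b, hb, rfl⟩
        refine ⟨a⁻¹, inv_mem ha, b⁻¹, inv_mem hb, ?_⟩
        rw [mul_inv_rev]
        exact (hc _ (inv_mem ha) _ (inv_mem hb)).symm }
  have h1 : fr.U ⊔ fr'.U ≤ H := sup_le (fun a ha => ⟨a, ha, 1, one_mem _, (mul_one a).symm⟩)
    (fun b hb => ⟨1, one_mem _, b, hb, (one_mul b).symm⟩)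
  exact h1 hx

/-- `t` interchanges `U₁` and `U₂` -/
theorem t_U {a : G} (ha : a ∈ fr.U) : t * a * t⁻¹ ∈ fr'.U := by
  obtain ⟨r, s, v, rfl⟩ := (mem_U fr W.oddZ).1 ha
  have e : t * u fr r s v * t⁻¹ = u fr' r s v := by
    unfold u
    rw [conj_mul3, ← W.frame, ← W.frame, ← W.frame]
  rw [e]
  exact u_mem fr' _ _ _

theorem t_U' {a : G} (ha : a ∈ fr'.U) : t * a * t⁻¹ ∈ fr.U := by
  obtain ⟨r, s, v, rfl⟩ := (mem_U fr' W.oddZ').1 ha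
  have e : t * u fr' r s v * t⁻¹ = u fr r s v := by
    unfold u
    rw [conj_mul3, W.frame, W.frame, W.frame]
    have e2 : ∀ y : G, t * (t * y * t⁻¹) * t⁻¹ = y := by
      intro y
      calc t * (t * y * t⁻¹) * t⁻¹ = (t * t) * y * (t * t)⁻¹ := by group
        _ = y := by rw [W.tt]; group
    rw [e2, e2, e2]
  rw [e]
  exact u_mem fr _ _ _

theorem normS : NormS (P ⊓ NN G1 G2 : Subgroup G) fr.U fr'.U := by
  constructor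
  · intro x hx a ha
    have := norm_U W.oddZ W.adapted (inv_mem hx) ha
    rwa [inv_inv] at this
  · intro x hx a ha
    have := norm_U W.oddZ' W.adapted' (inv_mem hx) ha
    rwa [inv_inv] at this

theorem disj {a : G} (h1 : a ∈ fr.U) (h2 : a ∈ fr'.U) : a = 1 := by
  obtain ⟨k, hk⟩ := isTwo_U W.oddZ ⟨a, h1⟩
  refine W.cent a (fun x hx => ?_) (fun y hy => ?_) ⟨k, congrArg Subtype.val hk⟩
  · exact (W.comm x hx a (fr'.U_le h2)).symm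
  · exact W.comm a (fr.U_le h1) y hy

theorem swap_U {w : G} (hw : w ∈ (P : Subgroup G)) (hw0 : w ∉ (P ⊓ NN G1 G2 : Subgroup G)) {a : G} (ha : a ∈ fr.U) :
    w⁻¹ * a * w ∈ fr'.U := by
  have hwi0 : w⁻¹ ∉ (P ⊓ NN G1 G2 : Subgroup G) := fun h => hw0 ((inv_mem_iff).1 h)
  have h1 : t * w⁻¹ ∈ NN G1 G2 := (W.P_le _ (inv_mem hw)).resolve_left
    (fun h => hwi0 (mem_inf.mpr ⟨inv_mem hw, h⟩))
  have h2 : t * w⁻¹ ∈ (P ⊓ NN G1 G2 : Subgroup G) := mem_inf.2 ⟨mul_mem W.tP (inv_mem hw), h1⟩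
  have h3 := W.t_U (norm_U W.oddZ W.adapted h2 ha)
  have e : t * (t * w⁻¹ * a * (t * w⁻¹)⁻¹) * t⁻¹ = w⁻¹ * a * w := by
    calc t * (t * w⁻¹ * a * (t * w⁻¹)⁻¹) * t⁻¹ = (t * t) * (w⁻¹ * a * w) * (t * t)⁻¹ := by group
      _ = w⁻¹ * a * w := by rw [W.tt]; group
  rwa [e] at h3

theorem swap_U' {w : G} (hw : w ∈ (P : Subgroup G)) (hw0 : w ∉ (P ⊓ NN G1 G2 : Subgroup G)) {a : G}
    (ha : a ∈ fr'.U) : w⁻¹ * a * w ∈ fr.U := by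
  have hwi0 : w⁻¹ ∉ (P ⊓ NN G1 G2 : Subgroup G) := fun h => hw0 ((inv_mem_iff).1 h)
  have h1 : t * w⁻¹ ∈ NN G1 G2 := (W.P_le _ (inv_mem hw)).resolve_left
    (fun h => hwi0 (mem_inf.mpr ⟨inv_mem hw, h⟩))
  have h2 : t * w⁻¹ ∈ (P ⊓ NN G1 G2 : Subgroup G) := mem_inf.2 ⟨mul_mem W.tP (inv_mem hw), h1⟩
  have h3 := W.t_U' (norm_U W.oddZ' W.adapted' h2 ha)
  have e : t * (t * w⁻¹ * a * (t * w⁻¹)⁻¹) * t⁻¹ = w⁻¹ * a * w := by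
    calc t * (t * w⁻¹ * a * (t * w⁻¹)⁻¹) * t⁻¹ = (t * t) * (w⁻¹ * a * w) * (t * t)⁻¹ := by group
      _ = w⁻¹ * a * w := by rw [W.tt]; group
  rwa [e] at h3

/-- `SwapData`: what remains is weak closure and (D) -/
theorem swapData
    (hW : ∀ g : G, (∀ x ∈ fr.U ⊔ fr'.U, g⁻¹ * x * g ∈ (P : Subgroup G)) →
      ∀ x ∈ fr.U ⊔ fr'.U, g⁻¹ * x * g ∈ fr.U ⊔ fr'.U)
    (hD : ∀ a ∈ fr.U, ∀ b ∈ fr'.U, a ≠ 1 → b ≠ 1 → a * a = 1 → b * b = 1 → ∀ g : G,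
      g⁻¹ * (a * b) * g ∉ fr.U ∧ g⁻¹ * (a * b) * g ∉ fr'.U) :
    SwapData (P : Subgroup G) (P ⊓ NN G1 G2 : Subgroup G) (fr.U ⊔ fr'.U) fr.U fr'.U where
  hidx := W.hidx
  hS0 := inf_le_left
  hNS := sup_le W.U_le_S0 W.U'_le_S0
  h1N := le_sup_left
  h2N := le_sup_right
  hsup := fun _ hx => W.sup_mem hx
  hcomm := fun a ha b hb => W.comm a (fr.U_le ha) b (fr'.U_le hb)
  hdisj := fun a h1 h2 => W.disj h1 h2
  hsw1 := fun w hw hw0 a ha => W.swap_U hw hw0 ha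
  hsw2 := fun w hw hw0 a ha => W.swap_U' hw hw0 ha
  hW := hW
  hD := hD

/-- **`OutData` for type `L₃(q)`.** The remaining inputs: weak closure `hW`, `hD` (involutions of `U₁ ∪ U₂` are not
conjugate to mixed ones), the types `ψ` with kernel, `hilb`, `split`, `M3`, and the table `tab`. -/
theorem outData (hF : 4 ≤ Nat.card F) {A : Type*} [CommGroup A] (ψ : ↥(P ⊓ NN G1 G2 : Subgroup G) →* A)
    (hW : ∀ g : G, (∀ x ∈ fr.U ⊔ fr'.U, g⁻¹ * x * g ∈ (P : Subgroup G)) →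
      ∀ x ∈ fr.U ⊔ fr'.U, g⁻¹ * x * g ∈ fr.U ⊔ fr'.U)
    (hD : ∀ a ∈ fr.U, ∀ b ∈ fr'.U, a ≠ 1 → b ≠ 1 → a * a = 1 → b * b = 1 → ∀ g : G,
      g⁻¹ * (a * b) * g ∉ fr.U ∧ g⁻¹ * (a * b) * g ∉ fr'.U)
    (hN : ∀ x (hx : x ∈ (P ⊓ NN G1 G2 : Subgroup G)) (hx' : t * x * t ∈ (P ⊓ NN G1 G2 : Subgroup G)),
      x ∈ fr.U ⊔ fr'.U ↔ ψ ⟨x, hx⟩ = 1 ∧ ψ ⟨_, hx'⟩ = 1)
    (hilb : Hilb (P ⊓ NN G1 G2 : Subgroup G) (fr.U ⊔ fr'.U) fr'.U t)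
    (split : ∀ x ∈ (P ⊓ NN G1 G2 : Subgroup G), x ∉ fr.U ⊔ fr'.U → x * x ∈ fr.U ⊔ fr'.U →
      x * (t * x * t) ∈ fr.U ⊔ fr'.U → ∃ n ∈ fr.U ⊔ fr'.U, x * n * (x * n) = 1)
    (M3 : ∀ y (hyS : y ∈ (P ⊓ NN G1 G2 : Subgroup G)), y * y = 1 → y * t = t * y → y ∉ fr.U ⊔ fr'.U →
      ∀ g : G, g⁻¹ * t * g ∈ (P : Subgroup G) → g⁻¹ * y * g ∈ (P : Subgroup G) →
        ∃ (h : g⁻¹ * y * g ∈ (P ⊓ NN G1 G2 : Subgroup G)) (h' : t * (g⁻¹ * y * g) * t ∈ (P ⊓ NN G1 G2 : Subgroup G)),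
          ψ ⟨_, h⟩ = ψ ⟨y, hyS⟩ ∧ ψ ⟨_, h'⟩ = ψ ⟨y, hyS⟩)
    (tab : ∀ y (hyS : y ∈ (P ⊓ NN G1 G2 : Subgroup G)), y * y = 1 → y * t = t * y → y ∉ fr.U ⊔ fr'.U →
      ∃ B : Subgroup A, ψ ⟨y, hyS⟩ ∉ B ∧ ∀ g ∈ E, ∀ (h : g⁻¹ * y * g ∈ (P ⊓ NN G1 G2 : Subgroup G))
        (h' : t * (g⁻¹ * y * g) * t ∈ (P ⊓ NN G1 G2 : Subgroup G)), ψ ⟨_, h⟩ * ψ ⟨_, h'⟩ ∉ B →
        (cen (P ⊓ NN G1 G2 : Subgroup G) y).map (MulAut.conj g⁻¹).toMonoidHom ≠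
          cen (P ⊓ NN G1 G2 : Subgroup G) (g⁻¹ * y * g)) :
    OutData P (P ⊓ NN G1 G2 : Subgroup G) (fr.U ⊔ fr'.U) fr.U fr'.U E (ZU fr W.oddZ) t ψ where
  swap := W.swapData hW hD
  ht := W.tt
  htP := W.tP
  F1 := fun g h => W.F1 g (mem_inf.1 h).2
  hE := W.perf
  hEn := W.normal
  hGE := W.gen
  norm := W.normS
  hN := hN
  hZ1 := by
    rintro _ ⟨v, rfl⟩
    exact u_mem fr _ _ _
  hZc := by
    rintro _ ⟨v, rfl⟩ a ha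
    obtain ⟨r, s, w, rfl⟩ := (mem_U fr W.oddZ).1 ha
    exact (u_comm_iff fr W.oddZ _ _ _ _ _ _).2 (by ring)
  hZ' := by
    rintro _ ⟨v, rfl⟩
    have e : ⁅u fr v 0 0, u fr 0 1 0⁆ = u fr 0 0 v := by
      rw [commutatorElement_def, u_inv fr W.oddZ, u_inv fr W.oddZ, u_mul fr W.oddZ, u_mul fr W.oddZ, u_mul fr W.oddZ]
      congr 1
      · rw [add_zero, add_zero, CharTwo.add_self_eq_zero]
      · rw [zero_add, add_zero, CharTwo.add_self_eq_zero]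
      · simp only [mul_one, mul_zero, zero_mul, add_zero, zero_add]
        rw [CharTwo.add_self_eq_zero, add_zero]
    rw [← e]
    exact commutator_mem_commutator (u_mem fr _ _ _) (u_mem fr _ _ _)
  hZ2 := by
    rintro _ ⟨v, rfl⟩
    rw [u_sq fr W.oddZ, mul_zero, u_zero fr W.oddZ]
  hZ4 := by
    have : Fintype F := Fintype.ofFinite F
    rw [Nat.card_eq_fintype_card] at hF
    obtain ⟨a, ha0, ha1⟩ : ∃ a : F, a ≠ 0 ∧ a ≠ 1 := by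
      classical
      by_contra h
      push Not at h
      have h2 : (Finset.univ : Finset F) ⊆ {0, 1} := by
        intro a _
        by_cases h0 : a = 0
        · simp [h0]
        · simp [h a h0]
      have h3 := Finset.card_le_card h2
      rw [Finset.card_univ] at h3
      have h4 : ({0, 1} : Finset F).card ≤ 2 := Finset.card_le_two
      omega
    refine ⟨u fr 0 0 1, ⟨1, rfl⟩, u fr 0 0 a, ⟨a, rfl⟩, ?_, ?_, ?_⟩
    · intro h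
      rw [← u_zero fr W.oddZ] at h
      exact one_ne_zero (u_inj fr h).2.2
    · intro h
      rw [← u_zero fr W.oddZ] at h
      exact ha0 (u_inj fr h).2.2
    · intro h
      exact ha1 (u_inj fr h).2.2.symm
  hZn := by
    rintro l hl _ ⟨v, rfl⟩
    rcases W.adapted.cases hl with ⟨σ, h1⟩ | ⟨σ, h1⟩
    · exact ⟨σ v, h1.conj_zero W.oddZ v⟩
    · exact ⟨σ v, h1.conj_zero W.oddZ v⟩
  hilb := hilb
  split := split
  M3 := M3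
  tab := tab

end Wr

end Cfsg.Agent.StdRank2.L3W
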