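import Cfsg.Agent.StdRank2.L3Asm
import Cfsg.Agent.StdRank2.L3W0z
import Cfsg.Agent.StdRank2.L3W.Glue
import Cfsg.Agent.StdRank2.L3W.FOne
import Cfsg.Agent.StdRank2.L3WJ.Le
import Cfsg.Agent.StdRank2.L3W.LastMain

/-!
# S1778, type `L₃(q)`: the wreath case

* `InfEq` : `P ∩ L = U₁U₂` for the complete wreath configuration with `S₀ ≤ L` (helper791);
* `wreathStmt : InfEq → L3Asm.WreathStmt`;
* `wreath : L3Asm.WreathStmt`, unconditional.
-/

set_option autoImplicit false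

namespace Cfsg.Agent.StdRank2.L3W.WrMain

open Subgroup Cfsg.Agent.StdL2.Setup

universe u

/-- `P ∩ E = U₁U₂`. -/
def InfEq : Prop :=
  ∀ (G : Type u) [Group G] [Finite G] (F : Type) [Field F] [Finite F] [CharP F 2] (G1 G2 : Subgroup G)
    (fr : FrameL3 G1 F) (fr' : FrameL3 G2 F) (E : Subgroup G) (P : Sylow 2 G) (t : G), Wr fr fr' E P t →
    4 ≤ Nat.card F → (P ⊓ NN G1 G2 : Subgroup G) ≤ E → (P : Subgroup G) ⊓ E = fr.U ⊔ fr'.U

/-- **The wreath case.** -/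
theorem wreathStmt (h : InfEq.{u}) : L3Asm.WreathStmt.{u} := by
  intro G _ _ L A t F _ _ _ T fr B Ag Bg Zg I C hZ hc
  obtain ⟨G1, G2, fr1, fr2, hWz⟩ := L3W0z.exists_wz B I hc
  have hS := L3Inst.sch B.sit.perfect fr.e
  obtain ⟨fr1', fr2', P, W⟩ := exists_wr C hWz hS (FOne.f1 B.sit hS B.hyp.R hWz)
  have h4 := B.sit.four
  have h0 := L3WJ.le W h4
  exact ⟨W.tE, fr1'.U ⊔ fr2'.U, ⟨P, h G F G1 G2 fr1' fr2' L P t W h4 h0⟩,
    L3Asm.endFacts_prod W.oddZ W.oddZ' W.comm h4 le_sup_left (fun x hx => W.sup_mem hx)⟩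

/-- **The wreath case, unconditional.** -/
theorem wreath : L3Asm.WreathStmt.{u} :=
  wreathStmt fun _ _ _ _ _ _ _ _ _ _ _ _ _ _ W h4 h0 => W.inf_eq h4 h0

end Cfsg.Agent.StdRank2.L3W.WrMain
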