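import Mathlib
import Cfsg.Agent.StdRank2.L3W6.Types
import Cfsg.Agent.StdRank2.OutL3JeMain

/-!
# Counting for one factor of type `L₃(q)`

`x` an element of `N_G(A)` with `x²` centralising `A`.

* `J fr x` : the `v ∈ U` such that `(v x)²` centralises `A`; bounds by type.
* `C fr x` : the `v ∈ U` commuting with `x`; bounds by type.
-/

set_option autoImplicit false

namespace Cfsg.Agent.StdRank2.L3W.Count

open Cfsg.Agent.StdRank2.OutL3Rel Cfsg.Agent.StdRank2.OutField Cfsg.Agent.StdRank2.OutL3Inv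
open Cfsg.Agent.StdRank2.OutL3Je Cfsg.Agent.StdRank2.OutL3JeMain

/-- counting by fibres -/
theorem ncard_fib {α β : Type*} [Finite α] [Finite β] (P : Set (α × β)) (A0 : Set α) (n : ℕ)
    (h1 : ∀ p ∈ P, p.1 ∈ A0) (h2 : ∀ a, {b | (a, b) ∈ P}.ncard ≤ n) : P.ncard ≤ A0.ncard * n := by
  classical
  have := Fintype.ofFinite α
  have := Fintype.ofFinite β
  have e1 : P.ncard = P.toFinset.card := Set.ncard_eq_toFinset_card' P
  rw [e1]
  have h3 := Finset.card_le_mul_card_image (f := Prod.fst) P.toFinset n (by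
    intro a _
    have h4 : (P.toFinset.filter (fun p => p.1 = a)).card = {b | (a, b) ∈ P}.ncard := by
      rw [Set.ncard_eq_toFinset_card']
      refine Finset.card_bij (fun p _ => p.2) ?_ ?_ ?_
      · intro p hp
        obtain ⟨hp1, hp2⟩ := Finset.mem_filter.1 hp
        rw [Set.mem_toFinset] at hp1 ⊢
        show (a, p.2) ∈ P
        rw [← hp2]; exact hp1
      · intro p hp p' hp' e
        exact Prod.ext ((Finset.mem_filter.1 hp).2.trans (Finset.mem_filter.1 hp').2.symm) e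
      · intro b hb
        rw [Set.mem_toFinset] at hb
        exact ⟨(a, b), Finset.mem_filter.2 ⟨Set.mem_toFinset.2 hb, rfl⟩, rfl⟩
    rw [h4]; exact h2 a)
  have h5 : (P.toFinset.image Prod.fst).card ≤ A0.ncard := by
    rw [Set.ncard_eq_toFinset_card']
    apply Finset.card_le_card
    intro a ha
    obtain ⟨p, hp, rfl⟩ := Finset.mem_image.1 ha
    rw [Set.mem_toFinset] at hp ⊢
    exact h1 p hp
  calc P.toFinset.card ≤ n * (P.toFinset.image Prod.fst).card := h3
    _ ≤ n * A0.ncard := Nat.mul_le_mul_left n h5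
    _ = A0.ncard * n := mul_comm _ _

section Field

variable {F : Type*} [Field F] [Finite F] [CharP F 2]

/-- the size of the fixed field -/
noncomputable def fx (σ : F ≃+* F) : ℕ := Nat.card {x : F // σ x = x}

theorem fx_sq {σ : F ≃+* F} (h2 : σ * σ = 1) (h1 : σ ≠ 1) : fx σ * fx σ = Nat.card F := card_fix h2 h1

omit [CharP F 2] in
theorem ncard_fix (σ : F ≃+* F) : {x : F | σ x = x}.ncard = fx σ := rfl

/-- solutions of `σ t + t = c` -/
theorem ncard_sol (σ : F ≃+* F) (c : F) : {t : F | σ t + t = c}.ncard ≤ fx σ := by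
  by_cases h : ∃ t0, σ t0 + t0 = c
  · obtain ⟨t0, h0⟩ := h
    rw [← ncard_fix]
    apply Set.ncard_le_ncard_of_injOn (fun t => t + t0)
    · intro t ht
      have ht' : σ t + t = c := ht
      show σ (t + t0) = t + t0
      rw [map_add]
      have e : σ t + σ t0 + (t + t0) = 0 := by
        calc σ t + σ t0 + (t + t0) = (σ t + t) + (σ t0 + t0) := by ring
          _ = 0 := by rw [ht', h0, CharTwo.add_self_eq_zero]
      exact CharTwo.add_eq_zero.1 e
    · intro t _ t' _ e
      exact add_right_cancel e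
  · have : {t : F | σ t + t = c} = ∅ := by
      ext t
      constructor
      · intro ht; exact absurd ⟨t, ht⟩ h
      · intro ht; exact absurd ht (Set.notMem_empty _)
    rw [this, Set.ncard_empty]
    exact Nat.zero_le _

end Field

variable {G : Type*} [Group G] [Finite G] {A : Subgroup G} {F : Type*} [Field F] [Finite F] [CharP F 2]
  {fr : FrameL3 A F} (hZ : Odd (Nat.card (Subgroup.center ↥A)))

/-- the `v ∈ U` such that `(v x)²` centralises `A` -/
def J (fr : FrameL3 A F) (x : G) : Set G :=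
  {v | v ∈ fr.U ∧ (v * x) * (v * x) ∈ Subgroup.centralizer (A : Set G)}

/-- the `v ∈ U` which commute with `x` -/
def C (fr : FrameL3 A F) (x : G) : Set G := {v | v ∈ fr.U ∧ v * x = x * v}

include hZ

/-- the set `J fr x` in coordinates -/
theorem J_sub {u x f : G} (hu : u ∈ fr.U) (hf : f = u * x) (hff : f * f ∈ Subgroup.centralizer (A : Set G))
    (φ : F → F → F → G) (hφ : ∀ r s t, f * OutL3Rel.u fr r s t * f⁻¹ = φ r s t) (hφU : ∀ r s t, φ r s t ∈ fr.U) :
    J fr x ⊆ (fun p : (F × F) × F => OutL3Rel.u fr p.1.1 p.1.2 p.2 * u) ''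
      {p | OutL3Rel.u fr p.1.1 p.1.2 p.2 * φ p.1.1 p.1.2 p.2 = 1} := by
  rintro v ⟨hv, hvx⟩
  obtain ⟨r, s, t, h⟩ := (mem_U fr hZ).1 (mul_mem hv (inv_mem hu))
  refine ⟨((r, s), t), ?_, ?_⟩
  · show OutL3Rel.u fr r s t * φ r s t = 1
    apply eq_one_of_centralizer hZ (mul_mem (OutL3Rel.u_mem fr r s t) (hφU r s t))
    rw [← hφ, ← h]
    have e : v * u⁻¹ * (f * (v * u⁻¹) * f⁻¹) = (v * x) * (v * x) * (f * f)⁻¹ := by
      rw [hf]; group
    rw [e]
    exact mul_mem hvx (inv_mem hff)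
  · show OutL3Rel.u fr r s t * u = v
    rw [← h]; group

theorem ncard_J_of {x : G} (u : G) (P : Set ((F × F) × F)) (n : ℕ) (hP : P.ncard ≤ n)
    (h : J fr x ⊆ (fun p : (F × F) × F => OutL3Rel.u fr p.1.1 p.1.2 p.2 * u) '' P) : (J fr x).ncard ≤ n := by
  have h1 := Set.ncard_le_ncard h (Set.toFinite _)
  have h2 := Set.ncard_image_le (f := fun p : (F × F) × F => OutL3Rel.u fr p.1.1 p.1.2 p.2 * u) (Set.toFinite P)
  omega

variable (hA : _root_.commutator ↥A = ⊤)
include hA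

/-- field type -/
theorem J_ft {x : G} (hxN : x ∈ Subgroup.normalizer (A : Set G)) (hxx : x * x ∈ Subgroup.centralizer (A : Set G))
    {σ : F ≃+* F} (h : FT fr x σ) : (J fr x).ncard ≤ fx σ * fx σ * fx σ := by
  obtain ⟨u, hu, hf⟩ := h
  have hff := sq_mem_fld hZ hA hu hxN hxx hf
  refine ncard_J_of hZ u _ _ ?_ (J_sub hZ hu rfl hff (fun r s t => OutL3Rel.u fr (σ r) (σ s) (σ t)) hf.u
    (fun r s t => u_mem fr _ _ _))
  have h1 : ∀ r s t, OutL3Rel.u fr r s t * OutL3Rel.u fr (σ r) (σ s) (σ t) = 1 →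
      σ r = r ∧ σ s = s ∧ σ t + t = r * s := by
    intro r s t h
    rw [u_mul fr hZ, ← u_zero fr hZ] at h
    obtain ⟨e1, e2, e3⟩ := u_inj fr h
    have e1' := CharTwo.add_eq_zero.1 e1
    have e2' := CharTwo.add_eq_zero.1 e2
    refine ⟨e1'.symm, e2'.symm, ?_⟩
    rw [← e2'] at e3
    have := CharTwo.add_eq_zero.1 e3
    rw [← this]; ring
  refine (ncard_fib _ ({r | σ r = r} ×ˢ {s | σ s = s}) (fx σ) ?_ ?_).trans ?_
  · rintro ⟨⟨r, s⟩, t⟩ hp
    obtain ⟨e1, e2, -⟩ := h1 r s t hp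
    exact ⟨e1, e2⟩
  · rintro ⟨r, s⟩
    refine (Set.ncard_le_ncard ?_ (Set.toFinite _)).trans (ncard_sol σ (r * s))
    intro t ht
    exact (h1 r s t ht).2.2
  · rw [Set.ncard_prod, ncard_fix]

/-- pure graph type -/
theorem J_gt_one {x : G} (hxN : x ∈ Subgroup.normalizer (A : Set G)) (hxx : x * x ∈ Subgroup.centralizer (A : Set G))
    (h : GT fr x 1) : (J fr x).ncard ≤ Nat.card F * Nat.card F := by
  obtain ⟨u, hu, hf⟩ := h
  have hff := sq_mem_grf hZ hA hu hxN hxx hf
  refine ncard_J_of hZ u _ _ ?_ (J_sub hZ hu rfl hff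
    (fun r s t => OutL3Rel.u fr ((1 : F ≃+* F) s) ((1 : F ≃+* F) r) ((1 : F ≃+* F) (t + r * s))) (hf.u hZ)
    (fun r s t => u_mem fr _ _ _))
  refine (ncard_fib _ {p | p.1 = p.2} (Nat.card F) ?_ ?_).trans ?_
  · rintro ⟨⟨r, s⟩, t⟩ hp
    have hp' : OutL3Rel.u fr r s t * OutL3Rel.u fr s r (t + r * s) = 1 := hp
    rw [u_mul fr hZ, ← u_zero fr hZ] at hp'
    exact CharTwo.add_eq_zero.1 (u_inj fr hp').1
  · intro p
    refine (Set.ncard_le_ncard (Set.subset_univ _) (Set.toFinite _)).trans ?_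
    rw [Set.ncard_univ]
  · refine Nat.mul_le_mul_right _ ?_
    rw [← Set.ncard_univ]
    apply Set.ncard_le_ncard_of_injOn (fun p : F × F => p.1)
    · intro p _; trivial
    · rintro ⟨a, b⟩ h1 ⟨c, d⟩ h2 e
      have h1' : a = b := h1
      have h2' : c = d := h2
      have e' : a = c := e
      exact Prod.ext e' (by show b = d; rw [← h1', ← h2']; exact e')

/-- graph-field type -/
theorem J_gt {x : G} (hxN : x ∈ Subgroup.normalizer (A : Set G)) (hxx : x * x ∈ Subgroup.centralizer (A : Set G))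
    {σ : F ≃+* F} (h : GT fr x σ) : (J fr x).ncard ≤ Nat.card F * fx σ := by
  obtain ⟨u, hu, hf⟩ := h
  have hff := sq_mem_grf hZ hA hu hxN hxx hf
  have hσσ := sq_eq_one_grf hf hff
  refine ncard_J_of hZ u _ _ ?_ (J_sub hZ hu rfl hff
    (fun r s t => OutL3Rel.u fr (σ s) (σ r) (σ (t + r * s))) (hf.u hZ) (fun r s t => u_mem fr _ _ _))
  have h1 : ∀ r s t, OutL3Rel.u fr r s t * OutL3Rel.u fr (σ s) (σ r) (σ (t + r * s)) = 1 →
      r = σ s ∧ σ t + t = r * s + σ (r * s) := by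
    intro r s t h
    rw [u_mul fr hZ, ← u_zero fr hZ] at h
    obtain ⟨e1, e2, e3⟩ := u_inj fr h
    have e1' := CharTwo.add_eq_zero.1 e1
    have e2' := CharTwo.add_eq_zero.1 e2
    refine ⟨e1', ?_⟩
    rw [map_add] at e3
    have : (σ t + t) + (r * s + σ (r * s)) = 0 := by
      rw [← e3, ← e2']; ring
    exact CharTwo.add_eq_zero.1 this
  refine (ncard_fib _ {p | p.1 = σ p.2} (fx σ) ?_ ?_).trans ?_
  · rintro ⟨⟨r, s⟩, t⟩ hp
    exact (h1 r s t hp).1
  · rintro ⟨r, s⟩
    refine (Set.ncard_le_ncard ?_ (Set.toFinite _)).trans (ncard_sol σ (r * s + σ (r * s)))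
    intro t ht
    exact (h1 r s t ht).2
  · refine Nat.mul_le_mul_right _ ?_
    rw [← Set.ncard_univ]
    apply Set.ncard_le_ncard_of_injOn (fun p : F × F => p.2)
    · intro p _; trivial
    · rintro ⟨a, b⟩ h1 ⟨c, d⟩ h2 e
      have h1' : a = σ b := h1
      have h2' : c = σ d := h2
      have e' : b = d := e
      exact Prod.ext (by show a = c; rw [h1', h2', e']) e'

/-- inner type -/
theorem J_one {x : G} (hxN : x ∈ Subgroup.normalizer (A : Set G)) (hxx : x * x ∈ Subgroup.centralizer (A : Set G))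
    (h : FT fr x 1) : (J fr x).ncard + Nat.card F ≤ 2 * Nat.card F * Nat.card F := by
  obtain ⟨u, hu, hf⟩ := h
  have hff := sq_mem_fld hZ hA hu hxN hxx hf
  suffices hs : (J fr x).ncard ≤ (2 * Nat.card F - 1) * Nat.card F by
    have h1 : 1 ≤ Nat.card F := Nat.card_pos
    have h2 : (2 * Nat.card F - 1) * Nat.card F + Nat.card F = 2 * Nat.card F * Nat.card F := by
      rw [← Nat.succ_mul]
      congr 1
      omega
    omega
  refine ncard_J_of hZ u _ _ ?_ (J_sub hZ hu rfl hff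
    (fun r s t => OutL3Rel.u fr ((1 : F ≃+* F) r) ((1 : F ≃+* F) s) ((1 : F ≃+* F) t)) hf.u
    (fun r s t => u_mem fr _ _ _))
  refine (ncard_fib _ {p | p.1 * p.2 = 0} (Nat.card F) ?_ ?_).trans ?_
  · rintro ⟨⟨r, s⟩, t⟩ hp
    have hp' : OutL3Rel.u fr r s t * OutL3Rel.u fr r s t = 1 := hp
    rw [u_sq fr hZ, ← u_zero fr hZ] at hp'
    exact (u_inj fr hp').2.2
  · intro p
    refine (Set.ncard_le_ncard (Set.subset_univ _) (Set.toFinite _)).trans ?_
    rw [Set.ncard_univ]
  · refine Nat.mul_le_mul_right _ ?_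
    have h3 : {p : F × F | p.1 * p.2 = 0} = (fun a => (a, 0)) '' Set.univ ∪ (fun b => (0, b)) '' {b | b ≠ 0} := by
      ext ⟨a, b⟩
      constructor
      · intro hab
        have hab' : a * b = 0 := hab
        by_cases hb : b = 0
        · left; exact ⟨a, trivial, by rw [hb]⟩
        · right
          refine ⟨b, hb, ?_⟩
          have : a = 0 := (mul_eq_zero.1 hab').resolve_right hb
          rw [this]
      · rintro (⟨a', -, h⟩ | ⟨b', -, h⟩)
        · obtain ⟨-, rfl⟩ := Prod.mk.inj h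
          exact mul_zero a
        · obtain ⟨rfl, -⟩ := Prod.mk.inj h
          exact zero_mul b
    rw [h3]
    refine (Set.ncard_union_le _ _).trans ?_
    have h4 : ((fun a : F => (a, (0 : F))) '' Set.univ).ncard = Nat.card F := by
      rw [Set.ncard_image_of_injective _ (fun a b h => (Prod.mk.inj h).1), Set.ncard_univ]
    have h5 : ((fun b : F => ((0 : F), b)) '' {b | b ≠ 0}).ncard + 1 = Nat.card F := by
      rw [Set.ncard_image_of_injective _ (fun a b h => (Prod.mk.inj h).2)]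
      have h6 : {b : F | b ≠ 0} = Set.univ \ {0} := by
        ext b; simp
      rw [h6, Set.ncard_sdiff_singleton_add_one (Set.mem_univ _) (Set.toFinite _), Set.ncard_univ]
    omega

/-! ### Centralisers in `U` -/

omit hA in
/-- the set `C fr x` in coordinates, type field -/
theorem C_ft {x : G} {σ : F ≃+* F} (h : FT fr x σ) : (C fr x).ncard ≤ fx σ * fx σ * fx σ := by
  have h0 : C fr x = (fun p : (F × F) × F => OutL3Rel.u fr p.1.1 p.1.2 p.2) ''
      {p | OutL3Rel.u fr p.1.1 p.1.2 p.2 ∈ C fr x} := by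
    ext v
    constructor
    · intro hv
      obtain ⟨r, s, t, rfl⟩ := (mem_U fr hZ).1 hv.1
      exact ⟨((r, s), t), hv, rfl⟩
    · rintro ⟨p, hp, rfl⟩
      exact hp
  rw [h0]
  refine (Set.ncard_image_le (Set.toFinite _)).trans ?_
  have h1 : ∀ r s t, OutL3Rel.u fr r s t ∈ C fr x → σ r = r ∧ σ s = s := by
    intro r s t hv
    obtain ⟨t', ht'⟩ := h.conj hZ r s t
    rw [← hv.2, mul_inv_cancel_right] at ht'
    obtain ⟨e1, e2, -⟩ := u_inj fr ht'
    exact ⟨e1.symm, e2.symm⟩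
  refine (ncard_fib _ ({r | σ r = r} ×ˢ {s | σ s = s}) (fx σ) ?_ ?_).trans ?_
  · rintro ⟨⟨r, s⟩, t⟩ hp
    exact h1 r s t hp
  · rintro ⟨r, s⟩
    by_cases he : ∃ t0, OutL3Rel.u fr r s t0 ∈ C fr x
    · obtain ⟨t0, ht0⟩ := he
      rw [← ncard_fix]
      apply Set.ncard_le_ncard_of_injOn (fun t => t + t0)
      · intro t ht
        have ht' : OutL3Rel.u fr r s t ∈ C fr x := ht
        have h2 : OutL3Rel.u fr r s t * (OutL3Rel.u fr r s t0)⁻¹ = OutL3Rel.u fr 0 0 (t + t0) := by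
          rw [u_inv fr hZ, u_mul fr hZ, CharTwo.add_self_eq_zero, CharTwo.add_self_eq_zero]
          congr 1
          calc t + (t0 + r * s) + r * s = t + t0 + (r * s + r * s) := by ring
            _ = t + t0 := by rw [CharTwo.add_self_eq_zero, add_zero]
        have h3 : OutL3Rel.u fr 0 0 (t + t0) * x = x * OutL3Rel.u fr 0 0 (t + t0) := by
          rw [← h2]
          exact (show Commute _ _ from (show Commute (OutL3Rel.u fr r s t) x from ht'.2).mul_left
            (show Commute (OutL3Rel.u fr r s t0) x from ht0.2).inv_left)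
        have h4 := h.conj_zero hZ (t + t0)
        rw [← h3, mul_inv_cancel_right] at h4
        exact (u_inj fr h4).2.2.symm
      · intro t _ t' _ e
        exact add_right_cancel e
    · have : {t | ((r, s), t) ∈ {p : (F × F) × F | OutL3Rel.u fr p.1.1 p.1.2 p.2 ∈ C fr x}} = ∅ := by
        ext t
        constructor
        · intro ht; exact absurd ⟨t, ht⟩ he
        · intro ht; exact absurd ht (Set.notMem_empty _)
      rw [this, Set.ncard_empty]
      exact Nat.zero_le _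
  · rw [Set.ncard_prod, ncard_fix]

omit hA in
/-- graph-field type -/
theorem C_gt {x : G} {σ : F ≃+* F} (h : GT fr x σ) : (C fr x).ncard ≤ Nat.card F * fx σ := by
  have h0 : C fr x = (fun p : (F × F) × F => OutL3Rel.u fr p.1.1 p.1.2 p.2) ''
      {p | OutL3Rel.u fr p.1.1 p.1.2 p.2 ∈ C fr x} := by
    ext v
    constructor
    · intro hv
      obtain ⟨r, s, t, rfl⟩ := (mem_U fr hZ).1 hv.1
      exact ⟨((r, s), t), hv, rfl⟩
    · rintro ⟨p, hp, rfl⟩
      exact hp
  rw [h0]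
  refine (Set.ncard_image_le (Set.toFinite _)).trans ?_
  have h1 : ∀ r s t, OutL3Rel.u fr r s t ∈ C fr x → r = σ s := by
    intro r s t hv
    obtain ⟨t', ht'⟩ := h.conj hZ r s t
    rw [← hv.2, mul_inv_cancel_right] at ht'
    exact (u_inj fr ht').1
  refine (ncard_fib _ {p | p.1 = σ p.2} (fx σ) ?_ ?_).trans ?_
  · rintro ⟨⟨r, s⟩, t⟩ hp
    exact h1 r s t hp
  · rintro ⟨r, s⟩
    by_cases he : ∃ t0, OutL3Rel.u fr r s t0 ∈ C fr x
    · obtain ⟨t0, ht0⟩ := he
      rw [← ncard_fix]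
      apply Set.ncard_le_ncard_of_injOn (fun t => t + t0)
      · intro t ht
        have ht' : OutL3Rel.u fr r s t ∈ C fr x := ht
        have h2 : OutL3Rel.u fr r s t * (OutL3Rel.u fr r s t0)⁻¹ = OutL3Rel.u fr 0 0 (t + t0) := by
          rw [u_inv fr hZ, u_mul fr hZ, CharTwo.add_self_eq_zero, CharTwo.add_self_eq_zero]
          congr 1
          calc t + (t0 + r * s) + r * s = t + t0 + (r * s + r * s) := by ring
            _ = t + t0 := by rw [CharTwo.add_self_eq_zero, add_zero]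
        have h3 : OutL3Rel.u fr 0 0 (t + t0) * x = x * OutL3Rel.u fr 0 0 (t + t0) := by
          rw [← h2]
          exact (show Commute _ _ from (show Commute (OutL3Rel.u fr r s t) x from ht'.2).mul_left
            (show Commute (OutL3Rel.u fr r s t0) x from ht0.2).inv_left)
        have h4 := h.conj_zero hZ (t + t0)
        rw [← h3, mul_inv_cancel_right] at h4
        exact (u_inj fr h4).2.2.symm
      · intro t _ t' _ e
        exact add_right_cancel e
    · have : {t | ((r, s), t) ∈ {p : (F × F) × F | OutL3Rel.u fr p.1.1 p.1.2 p.2 ∈ C fr x}} = ∅ := by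
        ext t
        constructor
        · intro ht; exact absurd ⟨t, ht⟩ he
        · intro ht; exact absurd ht (Set.notMem_empty _)
      rw [this, Set.ncard_empty]
      exact Nat.zero_le _
  · refine Nat.mul_le_mul_right _ ?_
    rw [← Set.ncard_univ]
    apply Set.ncard_le_ncard_of_injOn (fun p : F × F => p.2)
    · intro p _; trivial
    · rintro ⟨a, b⟩ h1 ⟨c, d⟩ h2 e
      have h1' : a = σ b := h1
      have h2' : c = σ d := h2
      have e' : b = d := e
      exact Prod.ext (by show a = c; rw [h1', h2', e']) e'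

/-- standardisation, graph type -/
theorem std_gt {x : G} (hxN : x ∈ Subgroup.normalizer (A : Set G)) (hxx : x * x ∈ Subgroup.centralizer (A : Set G))
    {σ : F ≃+* F} (h : GT fr x σ) : ∃ w ∈ fr.U, Grf fr (w * x * w⁻¹) σ := by
  obtain ⟨u, hu, hf⟩ := h
  have h2 := sq_mem_grf hZ hA hu hxN hxx hf
  have hv : (u * x)⁻¹ * u⁻¹ * (u * x) ∈ fr.U := by
    rw [conj_inv_eq h2 (fr.U_le (inv_mem hu))]
    obtain ⟨a, b, c, hu'⟩ := (mem_U fr hZ).1 (inv_mem hu)
    rw [hu', hf.u hZ]
    exact u_mem fr _ _ _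
  obtain ⟨w, hw, h4⟩ := conj_of_sq_grf hZ hf h2 hv (by
    have : u * x * ((u * x)⁻¹ * u⁻¹ * (u * x)) = x := by group
    rw [this]
    exact hxx)
  refine ⟨w⁻¹, inv_mem hw, ?_⟩
  have h5 : x = w * (u * x) * w⁻¹ := by
    rw [← h4]
    group
  have h6 : w⁻¹ * x * w⁻¹⁻¹ = u * x := by
    conv_lhs => rw [h5]
    group
  rw [h6]
  exact hf

/-- standardisation, field type -/
theorem std_ft {x : G} (hxN : x ∈ Subgroup.normalizer (A : Set G)) (hxx : x * x ∈ Subgroup.centralizer (A : Set G))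
    {σ : F ≃+* F} (h1 : σ ≠ 1) (h : FT fr x σ) : ∃ w ∈ fr.U, Fld fr (w * x * w⁻¹) σ := by
  obtain ⟨u, hu, hf⟩ := h
  have h2 := sq_mem_fld hZ hA hu hxN hxx hf
  have hv : (u * x)⁻¹ * u⁻¹ * (u * x) ∈ fr.U := by
    rw [conj_inv_eq h2 (fr.U_le (inv_mem hu))]
    obtain ⟨a, b, c, hu'⟩ := (mem_U fr hZ).1 (inv_mem hu)
    rw [hu', hf.u]
    exact u_mem fr _ _ _
  obtain ⟨w, hw, h4⟩ := conj_of_sq_fld hZ hf h1 h2 hv (by
    have : u * x * ((u * x)⁻¹ * u⁻¹ * (u * x)) = x := by group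
    rw [this]
    exact hxx)
  refine ⟨w⁻¹, inv_mem hw, ?_⟩
  have h5 : x = w * (u * x) * w⁻¹ := by
    rw [← h4]
    group
  have h6 : w⁻¹ * x * w⁻¹⁻¹ = u * x := by
    conv_lhs => rw [h5]
    group
  rw [h6]
  exact hf

/-- pure graph type -/
theorem C_gt_one {x : G} (hxN : x ∈ Subgroup.normalizer (A : Set G))
    (hxx : x * x ∈ Subgroup.centralizer (A : Set G)) (h : GT fr x 1) : (C fr x).ncard ≤ Nat.card F := by
  obtain ⟨w, hw, hf⟩ := std_gt hZ hA hxN hxx h
  rw [← Set.ncard_univ]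
  have h1 : C fr x ⊆ (fun t => w⁻¹ * OutL3Rel.u fr 0 0 t * w) '' Set.univ := by
    rintro v ⟨hv, hvx⟩
    obtain ⟨r, s, t, h2⟩ := (mem_U fr hZ).1 (mul_mem (mul_mem hw hv) (inv_mem hw))
    have h3 : w * x * w⁻¹ * OutL3Rel.u fr r s t = OutL3Rel.u fr r s t * (w * x * w⁻¹) := by
      rw [← h2]
      calc w * x * w⁻¹ * (w * v * w⁻¹) = w * (x * v) * w⁻¹ := by group
        _ = w * (v * x) * w⁻¹ := by rw [hvx]
        _ = w * v * w⁻¹ * (w * x * w⁻¹) := by group
    obtain ⟨rfl, rfl⟩ := (comm_iff_graph hZ hf r s t).1 h3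
    refine ⟨t, trivial, ?_⟩
    show w⁻¹ * OutL3Rel.u fr 0 0 t * w = v
    rw [← h2]; group
  exact (Set.ncard_le_ncard h1 (Set.toFinite _)).trans (Set.ncard_image_le (Set.toFinite _))

end Cfsg.Agent.StdRank2.L3W.Count
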