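import Cfsg.Agent.StdRank2.L3W.Count

/-!
# Elementary abelian subgroups, one factor of type `L₃(q)`

Upper bounds for `|om(X)| |W|` (`X ≤ T` elementary, `W ≤ U` elementary, centralised by `X`), and elementary subgroups
of `C_U(x)`.
-/

set_option autoImplicit false

namespace Cfsg.Agent.StdRank2.L3W.Elem

open Cfsg.Agent.StdRank2.OutL3Rel Cfsg.Agent.StdRank2.OutField Cfsg.Agent.StdRank2.OutL3Inv
open Cfsg.Agent.StdRank2.OutL3Je Cfsg.Agent.StdRank2.OutL3JeMain Cfsg.Agent.StdRank2.L3W6.Types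
open Cfsg.Agent.StdRank2.L3W.Count

variable {G : Type*} [Group G] [Finite G] {A : Subgroup G} {F : Type*} [Field F] [Finite F] [CharP F 2]
  {fr : FrameL3 A F} (hZ : Odd (Nat.card (Subgroup.center ↥A)))

/-- the types -/
abbrev Ty (F : Type*) [Field F] : Type _ := (F ≃+* F) × ℤˣ

omit [Finite F] [CharP F 2] in
theorem units_cases (ε : ℤˣ) : ε = 1 ∨ ε = -1 := Int.units_eq_one_or ε

section Upper

omit [Finite F] [CharP F 2] [Group G] [Finite G] in
theorem pair_le {α : Type*} (a b : α) : ({a, b} : Set α).ncard ≤ 2 := by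
  have h1 := Set.ncard_insert_le a {b}
  rw [Set.ncard_singleton] at h1
  exact h1

omit [Finite F] [CharP F 2] [Group G] [Finite G] in
theorem ncard_pair {α : Type*} (a b : α) (T : Set α) (h : ∀ x ∈ T, x = a ∨ x = b) : T.ncard ≤ 2 := by
  have h1 : T ⊆ {a, b} := fun x hx => h x hx
  exact (Set.ncard_le_ncard h1 (Set.toFinite _)).trans (pair_le a b)

theorem ncard_four (σ : F ≃+* F) (T : Set (Ty F)) (h : ∀ p ∈ T, p.1 = 1 ∨ p.1 = σ) : T.ncard ≤ 4 := by
  have h1 : T ⊆ ({1, σ} : Set (F ≃+* F)) ×ˢ ({1, -1} : Set ℤˣ) := by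
    rintro ⟨a, ε⟩ hp
    exact ⟨h _ hp, units_cases ε⟩
  refine (Set.ncard_le_ncard h1 (Set.toFinite _)).trans ?_
  rw [Set.ncard_prod]
  have h2 := pair_le (1 : F ≃+* F) σ
  have h3 := pair_le (1 : ℤˣ) (-1)
  calc _ ≤ 2 * 2 := Nat.mul_le_mul h2 h3
    _ = 4 := rfl

include hZ

/-- a subgroup of `Z(U)` centralised by an element with field part `σ` -/
theorem card_le_fx {W : Subgroup G} (hW : (W : Set G) ⊆ S0 fr) {x : G} {σ : F ≃+* F} (hx : FT fr x σ ∨ GT fr x σ)
    (hxW : ∀ w ∈ W, x * w = w * x) : Nat.card W ≤ fx σ := by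
  have h0 : ∀ t, x * u fr 0 0 t * x⁻¹ = u fr 0 0 (σ t) := by
    rcases hx with hx | hx
    · exact hx.conj_zero hZ
    · exact hx.conj_zero hZ
  have h1 : (W : Set G) ⊆ (fun t => u fr 0 0 t) '' {t | σ t = t} := by
    intro w hw
    obtain ⟨t, rfl⟩ := hW hw
    refine ⟨t, ?_, rfl⟩
    have h2 := h0 t
    rw [hxW _ hw, mul_inv_cancel_right] at h2
    exact (u_inj fr h2).2.2.symm
  have h2 : Nat.card W = (W : Set G).ncard := rfl
  rw [h2]
  refine (Set.ncard_le_ncard h1 (Set.toFinite _)).trans ((Set.ncard_image_le (Set.toFinite _)).trans ?_)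
  exact le_of_eq (ncard_fix σ)

omit hZ in
theorem card_le_q [CharP F 2] {W : Subgroup G} (hW : (W : Set G) ⊆ S0 fr) : Nat.card W ≤ Nat.card F := by
  have h2 : Nat.card W = (W : Set G).ncard := rfl
  rw [h2]
  exact (Set.ncard_le_ncard hW (Set.toFinite _)).trans (le_of_eq ncard_S0)

variable {T : Subgroup G} (had : Adapted fr T) (hTA : T ≤ Subgroup.normalizer (A : Set G))
  {X W : Subgroup G} (hXT : X ≤ T) (hX2 : ∀ x ∈ X, x * x = 1) (hWU : W ≤ fr.U)
  (hW2 : ∀ w ∈ W, w * w = 1) (hXW : ∀ x ∈ X, ∀ w ∈ W, x * w = w * x)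

include had hTA in
omit hZ in
theorem ft_or_gt {x : G} (hx : x ∈ T) : FT fr x (om fr x).1 ∨ GT fr x (om fr x).1 := by
  rcases units_cases (om fr x).2 with h | h
  · left
    exact ft_of_om had hTA hx (Prod.ext rfl h)
  · right
    exact gt_of_om had hTA hx (Prod.ext rfl h)

include had hTA hXT hX2 in
omit hZ [Finite G] in
theorem om_sq {x : G} (hx : x ∈ X) : om fr x * om fr x = 1 := by
  rw [← om_mul fr (hTA (hXT hx)) (hTA (hXT hx)), hX2 x hx, om_one]

include had hTA hXT hX2 hWU hW2 hXW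

/-- pure graph type -/
theorem bound_gt_one (hq : 4 ≤ Nat.card F) {y : G} (hy : y ∈ X) (hom : om fr y = (1, -1)) :
    (om fr '' (X : Set G)).ncard * Nat.card W ≤ 2 * Nat.card F := by
  have hW2' := hW2
  have hWc : ∀ x ∈ W, ∀ y ∈ W, x * y = y * x := by
    intro x hx y hy
    have h1 := hW2 _ (mul_mem hx hy)
    have h2 := hW2 x hx
    have h3 := hW2 y hy
    calc x * y = x * y * ((x * y) * (y * x)) := by
          rw [show (x * y) * (y * x) = 1 by
            calc (x * y) * (y * x) = x * (y * y) * x := by group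
              _ = 1 := by rw [h3, mul_one, h2], mul_one]
      _ = (x * y) * (x * y) * (y * x) := by group
      _ = y * x := by rw [h1, one_mul]
  have hWZ : (W : Set G) ⊆ S0 fr :=
    subset_of_gt hZ hWU hWc hW2 (gt_of_om had hTA (hXT hy) hom) (hXW y hy)
  by_cases hall : ∀ x ∈ X, (om fr x).1 = 1
  · have h1 : (om fr '' (X : Set G)).ncard ≤ 2 := by
      apply ncard_pair ((1 : F ≃+* F), (1 : ℤˣ)) ((1 : F ≃+* F), (-1 : ℤˣ))
      rintro _ ⟨x, hx, rfl⟩
      rcases units_cases (om fr x).2 with h | h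
      · left; exact Prod.ext (hall x hx) h
      · right; exact Prod.ext (hall x hx) h
    exact Nat.mul_le_mul h1 (card_le_q hWZ)
  · push Not at hall
    obtain ⟨x, hx, hσ1⟩ := hall
    set σ := (om fr x).1 with hσ
    have hσσ : σ * σ = 1 := congrArg Prod.fst (om_sq had hTA hXT hX2 hx)
    have h1 : (om fr '' (X : Set G)).ncard ≤ 4 := by
      apply ncard_four σ
      rintro _ ⟨z, hz, rfl⟩
      by_cases h : (om fr z).1 = 1
      · exact Or.inl h
      · exact Or.inr (unique_invol (congrArg Prod.fst (om_sq had hTA hXT hX2 hz)) hσσ h hσ1)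
    have h2 : Nat.card W ≤ fx σ := card_le_fx hZ hWZ (ft_or_gt had hTA (hXT hx)) (hXW x hx)
    have h3 := fx_sq hσσ hσ1
    have h4 : 2 ≤ fx σ := by
      by_contra hcon
      have h5 : fx σ ≤ 1 := by omega
      have h6 : fx σ * fx σ ≤ 1 * 1 := Nat.mul_le_mul h5 h5
      omega
    calc (om fr '' (X : Set G)).ncard * Nat.card W ≤ 4 * fx σ := Nat.mul_le_mul h1 h2
      _ = 2 * (2 * fx σ) := by ring
      _ ≤ 2 * (fx σ * fx σ) := Nat.mul_le_mul_left 2 (Nat.mul_le_mul_right _ h4)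
      _ = 2 * Nat.card F := by rw [h3]

/-- field type -/
theorem bound_ft (hq : 4 ≤ Nat.card F) {y : G} (hy : y ∈ X) {σ : F ≃+* F} (hσ1 : σ ≠ 1) (hom : om fr y = (σ, 1)) :
    (om fr '' (X : Set G)).ncard * Nat.card W ≤ 2 * Nat.card F := by
  have hWc : ∀ x ∈ W, ∀ y ∈ W, x * y = y * x := by
    intro x hx y hy
    have h1 := hW2 _ (mul_mem hx hy)
    have h2 := hW2 x hx
    have h3 := hW2 y hy
    calc x * y = x * y * ((x * y) * (y * x)) := by
          rw [show (x * y) * (y * x) = 1 by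
            calc (x * y) * (y * x) = x * (y * y) * x := by group
              _ = 1 := by rw [h3, mul_one, h2], mul_one]
      _ = (x * y) * (x * y) * (y * x) := by group
      _ = y * x := by rw [h1, one_mul]
  have hσσ : σ * σ = 1 := by
    have := om_sq had hTA hXT hX2 hy
    rw [hom] at this
    exact congrArg Prod.fst this
  have hft := ft_of_om had hTA (hXT hy) hom
  have h3 := fx_sq hσσ hσ1
  have hdich : ∀ z ∈ X, (om fr z).1 = 1 ∨ (om fr z).1 = σ := by
    intro z hz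
    by_cases h : (om fr z).1 = 1
    · exact Or.inl h
    · exact Or.inr (unique_invol (congrArg Prod.fst (om_sq had hTA hXT hX2 hz)) hσσ h hσ1)
  by_cases hall : ∀ x ∈ X, (om fr x).2 = 1
  · have h1 : (om fr '' (X : Set G)).ncard ≤ 2 := by
      apply ncard_pair ((1 : F ≃+* F), (1 : ℤˣ)) (σ, (1 : ℤˣ))
      rintro _ ⟨x, hx, rfl⟩
      rcases hdich x hx with h | h
      · left; exact Prod.ext h (hall x hx)
      · right; exact Prod.ext h (hall x hx)
    have h2 : Nat.card W ≤ Nat.card F := by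
      rw [← h3]
      exact card_le_of_ft hZ hWU hWc hW2 hft (hXW y hy)
    exact Nat.mul_le_mul h1 h2
  · push Not at hall
    obtain ⟨x, hx, hx2⟩ := hall
    have hx2' : (om fr x).2 = -1 := (units_cases _).resolve_left hx2
    have hWZ : (W : Set G) ⊆ S0 fr :=
      subset_of_gt hZ hWU hWc hW2 (gt_of_om had hTA (hXT hx) (Prod.ext rfl hx2')) (hXW x hx)
    have h1 : (om fr '' (X : Set G)).ncard ≤ 4 := by
      apply ncard_four σ
      rintro _ ⟨z, hz, rfl⟩
      exact hdich z hz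
    have h2 : Nat.card W ≤ fx σ := card_le_fx hZ hWZ (Or.inl hft) (hXW y hy)
    have h4 : 2 ≤ fx σ := by
      by_contra hcon
      have h5 : fx σ ≤ 1 := by omega
      have h6 : fx σ * fx σ ≤ 1 * 1 := Nat.mul_le_mul h5 h5
      omega
    calc (om fr '' (X : Set G)).ncard * Nat.card W ≤ 4 * fx σ := Nat.mul_le_mul h1 h2
      _ = 2 * (2 * fx σ) := by ring
      _ ≤ 2 * (fx σ * fx σ) := Nat.mul_le_mul_left 2 (Nat.mul_le_mul_right _ h4)
      _ = 2 * Nat.card F := by rw [h3]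

/-- graph-field type, all types in `{1, (σ, -1)}` -/
theorem bound_gt {y : G} (hy : y ∈ X) {σ : F ≃+* F} (hom : om fr y = (σ, -1))
    (hT : ∀ x ∈ X, om fr x = 1 ∨ om fr x = (σ, -1)) :
    (om fr '' (X : Set G)).ncard * Nat.card W ≤ 2 * fx σ := by
  have hWc : ∀ x ∈ W, ∀ y ∈ W, x * y = y * x := by
    intro x hx y hy
    have h1 := hW2 _ (mul_mem hx hy)
    have h2 := hW2 x hx
    have h3 := hW2 y hy
    calc x * y = x * y * ((x * y) * (y * x)) := by
          rw [show (x * y) * (y * x) = 1 by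
            calc (x * y) * (y * x) = x * (y * y) * x := by group
              _ = 1 := by rw [h3, mul_one, h2], mul_one]
      _ = (x * y) * (x * y) * (y * x) := by group
      _ = y * x := by rw [h1, one_mul]
  have hgt := gt_of_om had hTA (hXT hy) hom
  have hWZ : (W : Set G) ⊆ S0 fr := subset_of_gt hZ hWU hWc hW2 hgt (hXW y hy)
  refine Nat.mul_le_mul ?_ (card_le_fx hZ hWZ (Or.inr hgt) (hXW y hy))
  apply ncard_pair (1 : Ty F) (σ, (-1 : ℤˣ))
  rintro _ ⟨x, hx, rfl⟩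
  exact hT x hx

end Upper

section Lower

include hZ

/-- pure graph type: `Z(U)` -/
theorem exists_gt {x : G} {σ : F ≃+* F} (h : GT fr x σ) : ∃ W : Subgroup G, W ≤ fr.U ∧ (∀ w ∈ W, w * w = 1) ∧
    (∀ w ∈ W, w * x = x * w) ∧ fx σ ≤ Nat.card W := by
  let W : Subgroup G :=
    { carrier := {g | ∃ t, σ t = t ∧ g = u fr 0 0 t}
      one_mem' := ⟨0, map_zero σ, (u_zero fr hZ).symm⟩
      mul_mem' := by
        rintro _ _ ⟨a, ha, rfl⟩ ⟨b, hb, rfl⟩
        refine ⟨a + b, by rw [map_add, ha, hb], ?_⟩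
        rw [u_mul fr hZ, add_zero, mul_zero, add_zero]
      inv_mem' := by
        rintro _ ⟨a, ha, rfl⟩
        refine ⟨a, ha, ?_⟩
        rw [u_inv fr hZ, mul_zero, add_zero] }
  refine ⟨W, ?_, ?_, ?_, ?_⟩
  · rintro _ ⟨t, -, rfl⟩
    exact u_mem fr _ _ _
  · rintro _ ⟨t, -, rfl⟩
    rw [u_sq fr hZ, mul_zero, u_zero fr hZ]
  · rintro _ ⟨t, ht, rfl⟩
    have h1 := h.conj_zero hZ t
    rw [ht] at h1
    rw [mul_inv_eq_iff_eq_mul] at h1
    exact h1.symm
  · have h1 : Function.Injective (fun t : {x : F // σ x = x} => (⟨u fr 0 0 t, t, t.2, rfl⟩ : W)) := by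
      intro a b e
      exact Subtype.ext (u_inj fr (congrArg Subtype.val e)).2.2
    exact Nat.card_le_card_of_injective _ h1

variable (hA : _root_.commutator ↥A = ⊤)
include hA

/-- field type: `{x(r) z(t) : r, t fixed}` up to conjugation -/
theorem exists_ft {x : G} (hxN : x ∈ Subgroup.normalizer (A : Set G)) (hxx : x * x ∈ Subgroup.centralizer (A : Set G))
    {σ : F ≃+* F} (h1 : σ ≠ 1) (h : FT fr x σ) : ∃ W : Subgroup G, W ≤ fr.U ∧ (∀ w ∈ W, w * w = 1) ∧
    (∀ w ∈ W, w * x = x * w) ∧ fx σ * fx σ ≤ Nat.card W := by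
  obtain ⟨v, hv, hf⟩ := std_ft hZ hA hxN hxx h1 h
  let W : Subgroup G :=
    { carrier := {g | ∃ r t, σ r = r ∧ σ t = t ∧ g = v⁻¹ * u fr r 0 t * v}
      one_mem' := ⟨0, 0, map_zero σ, map_zero σ, by rw [u_zero fr hZ]; group⟩
      mul_mem' := by
        rintro _ _ ⟨a, b, ha, hb, rfl⟩ ⟨c, d, hc, hd, rfl⟩
        refine ⟨a + c, b + d, by rw [map_add, ha, hc], by rw [map_add, hb, hd], ?_⟩
        have e : u fr (a + c) 0 (b + d) = u fr a 0 b * u fr c 0 d := by
          rw [u_mul fr hZ, add_zero, mul_zero, add_zero]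
        rw [e]; group
      inv_mem' := by
        rintro _ ⟨a, b, ha, hb, rfl⟩
        refine ⟨a, b, ha, hb, ?_⟩
        have e : (u fr a 0 b)⁻¹ = u fr a 0 b := by rw [u_inv fr hZ, mul_zero, add_zero]
        rw [mul_inv_rev, mul_inv_rev, inv_inv, e, mul_assoc] }
  refine ⟨W, ?_, ?_, ?_, ?_⟩
  · rintro _ ⟨r, t, -, -, rfl⟩
    exact mul_mem (mul_mem (inv_mem hv) (u_mem fr _ _ _)) hv
  · rintro _ ⟨r, t, -, -, rfl⟩
    have e := u_sq fr hZ r 0 t
    rw [mul_zero, u_zero fr hZ] at e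
    calc v⁻¹ * u fr r 0 t * v * (v⁻¹ * u fr r 0 t * v) = v⁻¹ * (u fr r 0 t * u fr r 0 t) * v := by group
      _ = 1 := by rw [e]; group
  · rintro _ ⟨r, t, hr, ht, rfl⟩
    have h2 := (comm_iff_fld hZ hf r 0 t).2 ⟨hr, map_zero σ, ht⟩
    calc v⁻¹ * u fr r 0 t * v * x = v⁻¹ * (u fr r 0 t * (v * x * v⁻¹)) * v := by group
      _ = v⁻¹ * (v * x * v⁻¹ * u fr r 0 t) * v := by rw [h2]
      _ = x * (v⁻¹ * u fr r 0 t * v) := by group
  · have h2 : Function.Injective (fun t : {x : F // σ x = x} × {x : F // σ x = x} =>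
        (⟨v⁻¹ * u fr t.1 0 t.2 * v, t.1, t.2, t.1.2, t.2.2, rfl⟩ : W)) := by
      intro a b e
      have e1 : v⁻¹ * u fr a.1 0 a.2 * v = v⁻¹ * u fr b.1 0 b.2 * v := congrArg Subtype.val e
      have e2 := u_inj fr (mul_left_cancel (mul_right_cancel e1))
      exact Prod.ext (Subtype.ext e2.1) (Subtype.ext e2.2.2)
    have h3 := Nat.card_le_card_of_injective _ h2
    rw [Nat.card_prod] at h3
    exact h3

/-- inner type -/
theorem exists_one {x : G} (hxN : x ∈ Subgroup.normalizer (A : Set G)) (hxx : x * x = 1)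
    (h : FT fr x 1) : ∃ W : Subgroup G, W ≤ fr.U ∧ (∀ w ∈ W, w * w = 1) ∧
    (∀ w ∈ W, w * x = x * w) ∧ Nat.card F * Nat.card F ≤ Nat.card W := by
  obtain ⟨v, hv, hc⟩ := FT.exists_of_one hZ hA hxN h
  have hcv : v * (v⁻¹ * x) = (v⁻¹ * x) * v := Subgroup.mem_centralizer_iff.1 hc v (fr.U_le hv)
  have hv2 : v * v = 1 := by
    apply eq_one_of_centralizer hZ (mul_mem hv hv)
    have e : v * v = ((v⁻¹ * x) * (v⁻¹ * x))⁻¹ := by
      rw [eq_inv_iff_mul_eq_one]
      calc v * v * ((v⁻¹ * x) * (v⁻¹ * x)) = v * (v * (v⁻¹ * x)) * (v⁻¹ * x) := by group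
        _ = v * ((v⁻¹ * x) * v) * (v⁻¹ * x) := by rw [hcv]
        _ = x * x := by group
        _ = 1 := hxx
    rw [e]
    exact inv_mem (mul_mem hc hc)
  have key : ∀ w ∈ fr.U, w * v = v * w → w * x = x * w := by
    intro w hw hwv
    have h1 : w * (v⁻¹ * x) = (v⁻¹ * x) * w := Subgroup.mem_centralizer_iff.1 hc w (fr.U_le hw)
    calc w * x = (w * v) * (v⁻¹ * x) := by group
      _ = v * (w * (v⁻¹ * x)) := by rw [hwv]; group
      _ = x * w := by rw [h1]; group
  obtain ⟨a, b, c, rfl⟩ := (mem_U fr hZ).1 hv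
  have hab : a * b = 0 := by
    rw [u_sq fr hZ, ← u_zero fr hZ] at hv2
    exact (u_inj fr hv2).2.2
  rcases mul_eq_zero.1 hab with ha | hb
  · subst ha
    let W : Subgroup G :=
      { carrier := {g | ∃ s t, g = u fr 0 s t}
        one_mem' := ⟨0, 0, (u_zero fr hZ).symm⟩
        mul_mem' := by
          rintro _ _ ⟨a, b, rfl⟩ ⟨c, d, rfl⟩
          refine ⟨a + c, b + d, ?_⟩
          rw [u_mul fr hZ, add_zero, zero_mul, add_zero]
        inv_mem' := by
          rintro _ ⟨a, b, rfl⟩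
          refine ⟨a, b, ?_⟩
          rw [u_inv fr hZ, zero_mul, add_zero] }
    refine ⟨W, ?_, ?_, ?_, ?_⟩
    · rintro _ ⟨s, t, rfl⟩
      exact u_mem fr _ _ _
    · rintro _ ⟨s, t, rfl⟩
      rw [u_sq fr hZ, zero_mul, u_zero fr hZ]
    · rintro _ ⟨s, t, rfl⟩
      refine key _ (u_mem fr _ _ _) ?_
      rw [u_comm_iff fr hZ, zero_mul, zero_mul]
    · have h2 : Function.Injective (fun t : F × F => (⟨u fr 0 t.1 t.2, t.1, t.2, rfl⟩ : W)) := by
        intro a b e
        have e1 : u fr 0 a.1 a.2 = u fr 0 b.1 b.2 := congrArg Subtype.val e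
        have e2 := u_inj fr e1
        exact Prod.ext e2.2.1 e2.2.2
      have h3 := Nat.card_le_card_of_injective _ h2
      rw [Nat.card_prod] at h3
      exact h3
  · subst hb
    let W : Subgroup G :=
      { carrier := {g | ∃ s t, g = u fr s 0 t}
        one_mem' := ⟨0, 0, (u_zero fr hZ).symm⟩
        mul_mem' := by
          rintro _ _ ⟨a, b, rfl⟩ ⟨c, d, rfl⟩
          refine ⟨a + c, b + d, ?_⟩
          rw [u_mul fr hZ, add_zero, mul_zero, add_zero]
        inv_mem' := by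
          rintro _ ⟨a, b, rfl⟩
          refine ⟨a, b, ?_⟩
          rw [u_inv fr hZ, mul_zero, add_zero] }
    refine ⟨W, ?_, ?_, ?_, ?_⟩
    · rintro _ ⟨s, t, rfl⟩
      exact u_mem fr _ _ _
    · rintro _ ⟨s, t, rfl⟩
      rw [u_sq fr hZ, mul_zero, u_zero fr hZ]
    · rintro _ ⟨s, t, rfl⟩
      refine key _ (u_mem fr _ _ _) ?_
      rw [u_comm_iff fr hZ, mul_zero, mul_zero]
    · have h2 : Function.Injective (fun t : F × F => (⟨u fr t.1 0 t.2, t.1, t.2, rfl⟩ : W)) := by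
        intro a b e
        have e1 : u fr a.1 0 a.2 = u fr b.1 0 b.2 := congrArg Subtype.val e
        have e2 := u_inj fr e1
        exact Prod.ext e2.1 e2.2.2
      have h3 := Nat.card_le_card_of_injective _ h2
      rw [Nat.card_prod] at h3
      exact h3

end Lower

end Cfsg.Agent.StdRank2.L3W.Elem
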