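import Mathlib
import Cfsg.Agent.StdRank2.OutL3Outer

/-!
# Perfect subgroups of `A` centralised by an outer involution, type `L₃(q)`

Variant of `OutL3Outer.Good` with the subgroup inside of `A`; the graph-field involutions for `q = 4`.
-/

set_option autoImplicit false
set_option linter.unusedSectionVars false
set_option linter.dupNamespace false

namespace Cfsg.Agent.StdRank2.L3W.GoodIn

open Subgroup
open scoped commutatorElement
open Cfsg.Agent.StdRank2.OutL3Rel Cfsg.Agent.StdRank2.OutField Cfsg.Agent.StdRank2.OutL3Inv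
open Cfsg.Agent.StdRank2.OutL3Je Cfsg.Agent.StdRank2.OutL3Outer

variable {G : Type*} [Group G]

/-- a perfect subgroup of `A`, generated by 2-elements, containing an involution, commuting with `f`. -/
def GoodIn (A : Subgroup G) (f : G) : Prop :=
  ∃ B : Subgroup G, B ≤ A ∧ ⁅B, B⁆ = B ∧ (∀ x ∈ B, x * f = f * x) ∧
    B ≤ closure {x | x ∈ B ∧ ∃ k : ℕ, x ^ 2 ^ k = 1} ∧ ∃ w ∈ B, w * w = 1 ∧ w ≠ 1

theorem GoodIn.conj {A : Subgroup G} {f : G} {g : G} (hg : g ∈ A) (h : GoodIn A (g * f * g⁻¹)) : GoodIn A f := by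
  obtain ⟨B, h0, h1, h2, h3, w, hw, h4, h5⟩ := h
  have hmem : ∀ x, x ∈ B → g⁻¹ * x * g ∈ B.map (MulAut.conj g⁻¹).toMonoidHom := by
    intro x hx
    refine ⟨x, hx, ?_⟩
    show g⁻¹ * x * g⁻¹⁻¹ = _
    rw [inv_inv]
  have hpow : ∀ (x : G) (k : ℕ), (g⁻¹ * x * g) ^ k = g⁻¹ * x ^ k * g := by
    intro x k
    have := (map_pow (MulAut.conj g⁻¹) x k)
    rw [MulAut.conj_apply, MulAut.conj_apply, inv_inv] at this
    exact this.symm
  refine ⟨B.map (MulAut.conj g⁻¹).toMonoidHom, ?_, ?_, ?_, ?_, g⁻¹ * w * g, hmem w hw, ?_, ?_⟩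
  · rintro _ ⟨x, hx, rfl⟩
    exact mul_mem (mul_mem (inv_mem hg) (h0 hx)) (inv_mem (inv_mem hg))
  · rw [← Subgroup.map_commutator, h1]
  · rintro _ ⟨x, hx, rfl⟩
    show g⁻¹ * x * g⁻¹⁻¹ * f = f * (g⁻¹ * x * g⁻¹⁻¹)
    rw [inv_inv]
    have := h2 x hx
    calc g⁻¹ * x * g * f = g⁻¹ * (x * (g * f * g⁻¹)) * g := by group
      _ = g⁻¹ * ((g * f * g⁻¹) * x) * g := by rw [this]
      _ = f * (g⁻¹ * x * g) := by group
  · rw [Subgroup.map_le_iff_le_comap]
    refine h3.trans ?_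
    rw [closure_le]
    rintro x ⟨hx, k, hk⟩
    refine subset_closure ⟨⟨x, hx, rfl⟩, k, ?_⟩
    show (g⁻¹ * x * g⁻¹⁻¹) ^ 2 ^ k = 1
    rw [inv_inv, hpow, hk]
    group
  · have : g⁻¹ * w * g * (g⁻¹ * w * g) = g⁻¹ * (w * w) * g := by group
    rw [this, h4]
    group
  · intro h
    apply h5
    have : w = g * (g⁻¹ * w * g) * g⁻¹ := by group
    rw [this, h]
    group

variable [Finite G] {A : Subgroup G} {F : Type*} [Field F] [Finite F] [CharP F 2]
  {fr : FrameL3 A F} (hZ : Odd (Nat.card (Subgroup.center ↥A)))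
include hZ

/-- Field type. -/
theorem good_fld {f : G} {σ : F ≃+* F} (hf : Fld fr f σ) : GoodIn A f := by
  set S : Set G := {g | ∃ (i j : Fin 3) (_ : i ≠ j) (s : F), σ s = s ∧ g = fr.x i j s} with hS
  have hmem : ∀ {i j : Fin 3} (h : i ≠ j) {s : F}, σ s = s → fr.x i j s ∈ closure S :=
    fun h s hs => subset_closure ⟨_, _, h, _, hs, rfl⟩
  have hcomm : ∀ s ∈ S, s * f = f * s := by
    rintro _ ⟨i, j, h, s, hs, rfl⟩
    have := hf i j h s
    rw [hs, mul_inv_eq_iff_eq_mul] at this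
    exact this.symm
  have hper : ∀ g ∈ S, g ∈ ⁅closure S, closure S⁆ := by
    rintro _ ⟨i, j, h, s, hs, rfl⟩
    obtain ⟨k, hki, hkj⟩ : ∃ k : Fin 3, i ≠ k ∧ k ≠ j := by
      revert i j; decide
    have e1 := fr.conj hZ hki hkj h s 1
    have e2 : fr.x i j s = ⁅fr.x i k s, fr.x k j 1⁆ := by
      rw [commutatorElement_def, e1, mul_one, mul_inv_cancel_right]
    rw [e2]
    exact Subgroup.commutator_mem_commutator (hmem hki hs) (hmem hkj (map_one σ))
  have h02 : (0 : Fin 3) ≠ 2 := by decide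
  refine ⟨closure S, ?_, perfect_closure hper, centralizes_closure hcomm, closure_two ?_, fr.x 0 2 1,
    hmem h02 (map_one σ), fr.two h02 1, x_ne_one hZ h02⟩
  · rw [closure_le]
    rintro _ ⟨i, j, h, s, hs, rfl⟩
    exact fr.mem h s
  · rintro _ ⟨i, j, h, s, hs, rfl⟩
    exact x_pow hZ h s

/-- Graph or graph-field type, with a fixed element of the field. -/
theorem good_grf_of {f : G} {σ : F ≃+* F} (hf : Grf fr f σ) {v : F} (hv : σ v = v) (hv0 : v ≠ 0) (hv1 : v ≠ 1) :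
    GoodIn A f := by
  have h02 : (0 : Fin 3) ≠ 2 := by decide
  have h20 : (2 : Fin 3) ≠ 0 := by decide
  have hper := perfect_sl hZ (fr := fr) (σ := σ) hv hv0 hv1
  set S : Set G := {g | ∃ s : F, σ s = s ∧ (g = fr.x 0 2 s ∨ g = fr.x 2 0 s)} with hS
  have hcomm : ∀ s ∈ S, s * f = f * s := by
    rintro _ ⟨s, hs, rfl | rfl⟩
    · have := hf 0 2 h02 s
      rw [hs, mul_inv_eq_iff_eq_mul] at this
      exact this.symm
    · have := hf 2 0 h20 s
      rw [hs, mul_inv_eq_iff_eq_mul] at this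
      exact this.symm
  refine ⟨closure S, ?_, hper, centralizes_closure hcomm, closure_two ?_, fr.x 0 2 1,
    subset_closure ⟨1, map_one σ, Or.inl rfl⟩, fr.two h02 1, x_ne_one hZ h02⟩
  · rw [closure_le]
    rintro _ ⟨s, -, rfl | rfl⟩
    · exact fr.mem h02 s
    · exact fr.mem h20 s
  · rintro _ ⟨s, -, rfl | rfl⟩
    · exact x_pow hZ h02 s
    · exact x_pow hZ h20 s

omit hZ in
/-- if an automorphism of order dividing 2 fixes only `0`, `1`, and `4 ≤ |F|`, it is nontrivial and `|F| = 4` -/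
theorem exists_fixed_or {σ : F ≃+* F} (h2 : σ * σ = 1) (hq : 4 ≤ Nat.card F) :
    (∃ v, σ v = v ∧ v ≠ 0 ∧ v ≠ 1) ∨ (σ ≠ 1 ∧ Nat.card F = 4 ∧ ∀ v, σ v = v → v = 0 ∨ v = 1) := by
  by_cases hex : ∃ v, σ v = v ∧ v ≠ 0 ∧ v ≠ 1
  · exact Or.inl hex
  · right
    push Not at hex
    have hfix : ∀ v, σ v = v → v = 0 ∨ v = 1 := by
      intro v hv
      by_cases h0 : v = 0
      · exact Or.inl h0
      · exact Or.inr (hex v hv h0)
    have h1 : {x : F | σ x = x} ⊆ {0, 1} := fun v hv => hfix v hv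
    have hc2 : Nat.card {x : F // σ x = x} ≤ 2 := by
      have h3 : Nat.card {x : F // σ x = x} = ({x : F | σ x = x}).ncard := rfl
      rw [h3]
      exact (Set.ncard_le_ncard h1 (Set.toFinite _)).trans ((Set.ncard_insert_le _ _).trans (by simp))
    have hne : σ ≠ 1 := by
      rintro rfl
      have h3 : Nat.card {x : F // (1 : F ≃+* F) x = x} = Nat.card F :=
        Nat.card_congr (Equiv.subtypeUnivEquiv (fun _ => rfl))
      omega
    have hc := card_fix h2 hne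
    refine ⟨hne, ?_, hfix⟩
    have h5 : Nat.card {x : F // σ x = x} * Nat.card {x : F // σ x = x} ≤ 2 * 2 := Nat.mul_le_mul hc2 hc2
    omega

/-- graph-field involution over `F₄` -/
def GF (fr : FrameL3 A F) (f : G) : Prop :=
  ∃ w ∈ fr.U, ∃ σ : F ≃+* F, σ ≠ 1 ∧ σ * σ = 1 ∧ Nat.card F = 4 ∧ (∀ v, σ v = v → v = 0 ∨ v = 1) ∧
    Grf fr (w * f * w⁻¹) σ

/-- An involution of `T` inducing an outer automorphism, `q ≥ 4`. -/
theorem good_or {T : Subgroup G} (had : Adapted fr T) (hTA : T ≤ Subgroup.normalizer (A : Set G))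
    (hA : _root_.commutator ↥A = ⊤) (hq : 4 ≤ Nat.card F) {f : G} (hfT : f ∈ T) (hff : f * f = 1)
    (hout : ¬ ∃ a ∈ A, a⁻¹ * f ∈ centralizer (A : Set G)) : GoodIn A f ∨ GF fr f := by
  rcases had.invol hZ hTA hA hfT (by rw [hff]; exact one_mem _) with ⟨v, hv, h⟩ | ⟨w, hw, σ, h2, h⟩
  · exact absurd ⟨v, fr.U_le hv, h⟩ hout
  · rcases h with ⟨h1, h⟩ | h
    · exact Or.inl ((good_fld hZ h).conj (fr.U_le hw))
    · rcases exists_fixed_or h2 hq with ⟨v, hv, hv0, hv1⟩ | ⟨h1, h4, hfix⟩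
      · exact Or.inl ((good_grf_of hZ h hv hv0 hv1).conj (fr.U_le hw))
      · exact Or.inr ⟨w, hw, σ, h1, h2, h4, hfix, h⟩

end Cfsg.Agent.StdRank2.L3W.GoodIn
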