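import Cfsg.Agent.StdRank2.L3W.TabEnd
import Cfsg.Agent.StdRank2.L3W.Main

/-!
# Wreath case of type `L₃(q)`: `P ∩ E = U₁ U₂` from `Wr` and `S₀ ≤ E`

Type homomorphism `ψ = om fr` on `S₀ = P ∩ N(G₁) ∩ N(G₂)`, existence of the diagonal involution `y`, uniqueness of its
class, fusion (M3'), and the table `Two.htab`.
-/

set_option autoImplicit false

namespace Cfsg.Agent.StdRank2.L3W

open Subgroup Cfsg.Agent.StdRank2.OutL3Inv Cfsg.Agent.StdRank2.OutL3Je Cfsg.Agent.StdRank2.OutL3Rel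
  Cfsg.Agent.StdRank2.OutSplit Cfsg.Agent.StdRank2.L3W6.Types Cfsg.Agent.StdRank2.L3W.Tab
  Cfsg.Agent.StdRank2.L3W.Elem Cfsg.Agent.StdRank2.OutField

variable {G : Type*} [Group G] [Finite G] {F : Type*} [Field F] [Finite F] [CharP F 2] {G1 G2 : Subgroup G}
  {fr : FrameL3 G1 F} {fr' : FrameL3 G2 F} {E : Subgroup G} {P : Sylow 2 G} {t : G}

/-- the types form a commutative group -/
noncomputable abbrev tyComm (F : Type*) [Field F] [Finite F] [CharP F 2] : CommGroup (Ty F) :=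
  { (inferInstance : Group (Ty F)) with mul_comm := ty_comm }

namespace Wr

variable (W : Wr fr fr' E P t)
include W

theorem two : Two fr fr' (P ⊓ NN G1 G2 : Subgroup G) where
  odd1 := W.oddZ
  odd2 := W.oddZ'
  perf1 := W.perf1
  perf2 := W.perf2
  comm := W.comm
  norm1 := fun _ hx => (mem_inf.1 (mem_inf.1 hx).2).1
  norm2 := fun _ hx => (mem_inf.1 (mem_inf.1 hx).2).2
  ad1 := W.adapted
  ad2 := W.adapted'
  U1 := W.U_le_S0
  U2 := W.U'_le_S0
  cent := by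
    intro c hc h1 h2
    obtain ⟨k, hk⟩ := P.isPGroup' ⟨c, (mem_inf.1 hc).1⟩
    refine W.cent c (fun x hx => (mem_centralizer_iff.1 h1 x hx).symm)
      (fun x hx => (mem_centralizer_iff.1 h2 x hx).symm) ⟨k, congrArg Subtype.val hk⟩

/-- transport of exact elements by `t` -/
theorem fld_t {f : G} {σ : F ≃+* F} (h : Fld fr' f σ) : Fld fr (t * f * t) σ := by
  intro i j hij s
  have ht := W.ti
  have e1 : t * fr'.x i j (σ s) * t⁻¹ = fr.x i j (σ s) := by
    rw [W.frame, ht]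
    calc t * (t * fr.x i j (σ s) * t) * t = (t * t) * fr.x i j (σ s) * (t * t) := by group
      _ = fr.x i j (σ s) := by rw [W.tt, one_mul, mul_one]
  rw [← e1, ← h i j hij s, W.frame, mul_inv_rev, mul_inv_rev, ht]
  group

theorem grf_t {f : G} {σ : F ≃+* F} (h : Grf fr' f σ) : Grf fr (t * f * t) σ := by
  intro i j hij s
  have ht := W.ti
  have e1 : t * fr'.x j.rev i.rev (σ s) * t⁻¹ = fr.x j.rev i.rev (σ s) := by
    rw [W.frame, ht]
    calc t * (t * fr.x j.rev i.rev (σ s) * t) * t = (t * t) * fr.x j.rev i.rev (σ s) * (t * t) := by group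
      _ = fr.x j.rev i.rev (σ s) := by rw [W.tt, one_mul, mul_one]
  rw [← e1, ← h i j hij s, W.frame, mul_inv_rev, mul_inv_rev, ht]
  group

theorem fld_t' {f : G} {σ : F ≃+* F} (h : Fld fr f σ) : Fld fr' (t * f * t) σ := by
  intro i j hij s
  have ht := W.ti
  have e : t * f * t * fr'.x i j s * (t * f * t)⁻¹ = t * (f * fr.x i j s * f⁻¹) * t := by
    rw [W.frame, mul_inv_rev, mul_inv_rev, ht]
    calc t * f * t * (t * fr.x i j s * t) * (t * (f⁻¹ * t)) =
          t * f * (t * t) * fr.x i j s * (t * t) * f⁻¹ * t := by group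
      _ = t * (f * fr.x i j s * f⁻¹) * t := by rw [W.tt]; group
  rw [e, h i j hij s, W.frame, ht]

theorem grf_t' {f : G} {σ : F ≃+* F} (h : Grf fr f σ) : Grf fr' (t * f * t) σ := by
  intro i j hij s
  have ht := W.ti
  have e : t * f * t * fr'.x i j s * (t * f * t)⁻¹ = t * (f * fr.x i j s * f⁻¹) * t := by
    rw [W.frame, mul_inv_rev, mul_inv_rev, ht]
    calc t * f * t * (t * fr.x i j s * t) * (t * (f⁻¹ * t)) =
          t * f * (t * t) * fr.x i j s * (t * t) * f⁻¹ * t := by group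
      _ = t * (f * fr.x i j s * f⁻¹) * t := by rw [W.tt]; group
  rw [e, h i j hij s, W.frame, ht]

theorem om_t {x : G} (hx : x ∈ (P ⊓ NN G1 G2 : Subgroup G)) : om fr (t * x * t) = om fr' x := by
  have hx' := W.t_S0 hx
  have hT := W.two
  obtain ⟨u, hu, σ, -, h | h⟩ := W.adapted' x hx
  · have h1 : FT fr' x σ := ⟨u, hu, h⟩
    have h2 : FT fr (t * x * t) σ := by
      refine ⟨t * u * t, ?_, ?_⟩
      · have := W.t_U' hu
        rwa [W.ti] at this
      · have e : t * u * t * (t * x * t) = t * (u * x) * t := by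
          calc t * u * t * (t * x * t) = t * u * (t * t) * x * t := by group
            _ = t * (u * x) * t := by rw [W.tt]; group
        rw [e]
        exact W.fld_t h
    rw [om_ft fr (hT.norm1 hx') h2, om_ft fr' (hT.norm2 hx) h1]
  · have h1 : GT fr' x σ := ⟨u, hu, h⟩
    have h2 : GT fr (t * x * t) σ := by
      refine ⟨t * u * t, ?_, ?_⟩
      · have := W.t_U' hu
        rwa [W.ti] at this
      · have e : t * u * t * (t * x * t) = t * (u * x) * t := by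
          calc t * u * t * (t * x * t) = t * u * (t * t) * x * t := by group
            _ = t * (u * x) * t := by rw [W.tt]; group
        rw [e]
        exact W.grf_t h
    rw [om_gt fr (hT.norm1 hx') h2, om_gt fr' (hT.norm2 hx) h1]

omit [Finite G] [Finite F] [CharP F 2] in
theorem tt_conj (x : G) : t * (t * x * t) * t = x := by
  calc t * (t * x * t) * t = (t * t) * x * (t * t) := by group
    _ = x := by rw [W.tt, one_mul, mul_one]

theorem om_t' {x : G} (hx : x ∈ (P ⊓ NN G1 G2 : Subgroup G)) : om fr' (t * x * t) = om fr x := by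
  have h := W.om_t (W.t_S0 hx)
  rw [W.tt_conj] at h
  exact h.symm

/-- the kernel -/
theorem mem_N_iff {x : G} (hx : x ∈ (P ⊓ NN G1 G2 : Subgroup G)) :
    x ∈ fr.U ⊔ fr'.U ↔ om fr x = 1 ∧ om fr' x = 1 := by
  have hT := W.two
  constructor
  · intro h
    obtain ⟨a, ha, b, hb, rfl⟩ := W.sup_mem h
    have na1 := hT.norm1 (hT.U1 ha)
    have na2 := hT.norm2 (hT.U1 ha)
    have nb1 := hT.norm1 (hT.U2 hb)
    have nb2 := hT.norm2 (hT.U2 hb)
    refine ⟨?_, ?_⟩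
    · rw [om_mul fr na1 nb1, om_mem fr (fr.U_le ha), om_centralizer fr (hT.cA1 (fr'.U_le hb)) nb1, mul_one]
    · rw [om_mul fr' na2 nb2, om_mem fr' (fr'.U_le hb), om_centralizer fr' (hT.cA2 (fr.U_le ha)) na2, mul_one]
  · rintro ⟨h1, h2⟩
    obtain ⟨a, ha, b, hb, rfl⟩ := hT.exists_mul hx h1 h2
    exact mul_mem (mem_sup_left ha) (mem_sup_right hb)

/-- an element of `P ∖ S₀` centralising `x ∈ S₀` -/
theorem om_eq_of_comm {u x : G} (hu : u ∈ (P : Subgroup G)) (hu0 : u ∉ (P ⊓ NN G1 G2 : Subgroup G))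
    (hx : x ∈ (P ⊓ NN G1 G2 : Subgroup G)) (hc : u * x = x * u) : om fr' x = om fr x := by
  have hT := W.two
  have hs : t * u ∈ (P ⊓ NN G1 G2 : Subgroup G) :=
    mem_inf.2 ⟨mul_mem W.tP hu, (W.P_le u hu).resolve_left (fun h => hu0 (mem_inf.mpr ⟨hu, h⟩))⟩
  have e : t * x * t = (t * u) * x * (t * u)⁻¹ := by
    rw [mul_inv_rev, W.ti]
    calc t * x * t = t * (x * u) * u⁻¹ * t := by group
      _ = t * (u * x) * u⁻¹ * t := by rw [hc]
      _ = t * u * x * (u⁻¹ * t) := by group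
  rw [← W.om_t hx, e, om_conj fr (hT.norm1 hx) (hT.norm1 hs)]

/-- (M3') -/
theorem fusion {y g : G} (hy : y ∈ (P ⊓ NN G1 G2 : Subgroup G)) (hyt : y * t = t * y)
    (hg : g⁻¹ * t * g ∈ (P : Subgroup G)) (hgy : g⁻¹ * y * g ∈ (P : Subgroup G)) :
    g⁻¹ * y * g ∈ (P ⊓ NN G1 G2 : Subgroup G) ∧ om fr (g⁻¹ * y * g) = om fr y ∧ om fr' (g⁻¹ * y * g) = om fr' y := by
  have key : ∀ m ∈ NN G1 G2, m⁻¹ * y * m ∈ NN G1 G2 ∧ om fr (m⁻¹ * y * m) = om fr y ∧
      om fr' (m⁻¹ * y * m) = om fr' y := by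
    intro m hm
    have hyN := (mem_inf.1 hy).2
    refine ⟨mul_mem (mul_mem (inv_mem hm) hyN) hm, ?_, ?_⟩
    · exact om_conj' fr (mem_inf.1 hyN).1 (mem_inf.1 hm).1
    · exact om_conj' fr' (mem_inf.1 hyN).2 (mem_inf.1 hm).2
  rcases W.fix g (W.P_le _ hg) with h | h
  · obtain ⟨h1, h2, h3⟩ := key g h
    exact ⟨mem_inf.2 ⟨hgy, h1⟩, h2, h3⟩
  · have e : (t * g)⁻¹ * y * (t * g) = g⁻¹ * y * g := by
      rw [mul_inv_rev, W.ti]
      calc g⁻¹ * t * y * (t * g) = g⁻¹ * (t * y) * t * g := by group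
        _ = g⁻¹ * (y * t) * t * g := by rw [hyt]
        _ = g⁻¹ * y * (t * t) * g := by group
        _ = g⁻¹ * y * g := by rw [W.tt, mul_one]
    obtain ⟨h1, h2, h3⟩ := key (t * g) h
    rw [e] at h1 h2 h3
    exact ⟨mem_inf.2 ⟨hgy, h1⟩, h2, h3⟩

omit [Finite G] [Finite F] [CharP F 2] in
theorem conj_mul_comm {u v z x : G} (hv : v * (z * x * z⁻¹) = (z * x * z⁻¹) * v) :
    (u * v * z) * x * (u * v * z)⁻¹ = (u * z) * x * (u * z)⁻¹ := by
  calc (u * v * z) * x * (u * v * z)⁻¹ = u * (v * (z * x * z⁻¹)) * v⁻¹ * u⁻¹ := by group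
    _ = u * ((z * x * z⁻¹) * v) * v⁻¹ * u⁻¹ := by rw [hv]
    _ = (u * z) * x * (u * z)⁻¹ := by group

/-- **existence of the diagonal involution** of type `(c, c)` commuting with `t`, exact on both frames -/
theorem exists_inv {c : Ty F} (hc : Two.D fr fr' (P ⊓ NN G1 G2 : Subgroup G) c) (hcc : c * c = 1) :
    ∃ y ∈ (P ⊓ NN G1 G2 : Subgroup G), y * y = 1 ∧ y * t = t * y ∧ om fr y = c ∧ om fr' y = c ∧
      ((Fld fr y c.1 ∧ Fld fr' y c.1) ∨ (Grf fr y c.1 ∧ Grf fr' y c.1)) := by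
  have hT := W.two
  obtain ⟨z, hz, h1, h2⟩ := hc
  have hσσ : c.1 * c.1 = 1 := congrArg Prod.fst hcc
  -- exact elements on the two frames
  have main : ∀ k ∈ (P ⊓ NN G1 G2 : Subgroup G),
      ((Fld fr k c.1 ∧ Fld fr' k c.1) ∨ (Grf fr k c.1 ∧ Grf fr' k c.1)) → k * k = 1 ∧ k * t = t * k := by
    intro k hk hkk
    have hcen : ∀ w ∈ (P ⊓ NN G1 G2 : Subgroup G), Fld fr w 1 → Fld fr' w 1 → w = 1 := fun w hw e1 e2 =>
      hT.cent w hw (mem_centralizer_of_fld_one hT.perf1 (hT.norm1 hw) e1)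
        (mem_centralizer_of_fld_one hT.perf2 (hT.norm2 hw) e2)
    have hkt := W.t_S0 hk
    have h3 : k * k = 1 := by
      rcases hkk with ⟨e1, e2⟩ | ⟨e1, e2⟩
      · have e3 := e1.mul e1
        have e4 := e2.mul e2
        rw [hσσ] at e3 e4
        exact hcen _ (mul_mem hk hk) e3 e4
      · have e3 := e1.mul e1
        have e4 := e2.mul e2
        rw [hσσ] at e3 e4
        exact hcen _ (mul_mem hk hk) e3 e4
    refine ⟨h3, ?_⟩
    have h4 : (t * k * t) * k = 1 := by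
      rcases hkk with ⟨e1, e2⟩ | ⟨e1, e2⟩
      · have e3 := (W.fld_t e2).mul e1
        have e4 := (W.fld_t' e1).mul e2
        rw [hσσ] at e3 e4
        exact hcen _ (mul_mem hkt hk) e3 e4
      · have e3 := (W.grf_t e2).mul e1
        have e4 := (W.grf_t' e1).mul e2
        rw [hσσ] at e3 e4
        exact hcen _ (mul_mem hkt hk) e3 e4
    have h5 : t * k * t = k := by
      calc t * k * t = (t * k * t) * (k * k) := by rw [h3, mul_one]
        _ = (t * k * t * k) * k := by group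
        _ = k := by rw [h4, one_mul]
    calc k * t = (t * k * t) * t := by rw [h5]
      _ = t * k * (t * t) := by group
      _ = t * k := by rw [W.tt, mul_one]
  have hnorm1 : ∀ x ∈ G1, z * x * z⁻¹ ∈ G1 := fun x hx => (mem_normalizer_iff.1 (hT.norm1 hz) x).1 hx
  have hnorm2 : ∀ x ∈ G2, z * x * z⁻¹ ∈ G2 := fun x hx => (mem_normalizer_iff.1 (hT.norm2 hz) x).1 hx
  rcases units_cases c.2 with e | e
  · obtain ⟨u1, hu1, f1⟩ := ft_of_om hT.ad1 hT.norm1 hz (σ := c.1) (h1.trans (Prod.ext rfl e))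
    obtain ⟨u2, hu2, f2⟩ := ft_of_om hT.ad2 hT.norm2 hz (σ := c.1) (h2.trans (Prod.ext rfl e))
    have hcomm : u1 * u2 = u2 * u1 := W.comm _ (fr.U_le hu1) _ (fr'.U_le hu2)
    have g1 : Fld fr (u1 * u2 * z) c.1 := by
      intro i j hij s
      rw [W.conj_mul_comm (W.comm _ (hnorm1 _ (fr.mem hij s)) _ (fr'.U_le hu2)).symm]
      exact f1 i j hij s
    have g2 : Fld fr' (u1 * u2 * z) c.1 := by
      intro i j hij s
      rw [hcomm, W.conj_mul_comm (W.comm _ (fr.U_le hu1) _ (hnorm2 _ (fr'.mem hij s)))]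
      exact f2 i j hij s
    have hk : u1 * u2 * z ∈ (P ⊓ NN G1 G2 : Subgroup G) := mul_mem (mul_mem (hT.U1 hu1) (hT.U2 hu2)) hz
    obtain ⟨h3, h4⟩ := main _ hk (Or.inl ⟨g1, g2⟩)
    exact ⟨_, hk, h3, h4, (om_fld fr (hT.norm1 hk) g1).trans (Prod.ext rfl e.symm),
      (om_fld fr' (hT.norm2 hk) g2).trans (Prod.ext rfl e.symm), Or.inl ⟨g1, g2⟩⟩
  · obtain ⟨u1, hu1, f1⟩ := gt_of_om hT.ad1 hT.norm1 hz (σ := c.1) (h1.trans (Prod.ext rfl e))
    obtain ⟨u2, hu2, f2⟩ := gt_of_om hT.ad2 hT.norm2 hz (σ := c.1) (h2.trans (Prod.ext rfl e))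
    have hcomm : u1 * u2 = u2 * u1 := W.comm _ (fr.U_le hu1) _ (fr'.U_le hu2)
    have g1 : Grf fr (u1 * u2 * z) c.1 := by
      intro i j hij s
      rw [W.conj_mul_comm (W.comm _ (hnorm1 _ (fr.mem hij s)) _ (fr'.U_le hu2)).symm]
      exact f1 i j hij s
    have g2 : Grf fr' (u1 * u2 * z) c.1 := by
      intro i j hij s
      rw [hcomm, W.conj_mul_comm (W.comm _ (fr.U_le hu1) _ (hnorm2 _ (fr'.mem hij s)))]
      exact f2 i j hij s
    have hk : u1 * u2 * z ∈ (P ⊓ NN G1 G2 : Subgroup G) := mul_mem (mul_mem (hT.U1 hu1) (hT.U2 hu2)) hz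
    obtain ⟨h3, h4⟩ := main _ hk (Or.inr ⟨g1, g2⟩)
    exact ⟨_, hk, h3, h4, (om_grf fr (hT.norm1 hk) g1).trans (Prod.ext rfl e.symm),
      (om_grf fr' (hT.norm2 hk) g2).trans (Prod.ext rfl e.symm), Or.inr ⟨g1, g2⟩⟩

end Wr

end Cfsg.Agent.StdRank2.L3W
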