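import Mathlib
import Cfsg.Agent.StdRank2.L3Data
import Cfsg.Agent.StdRank2.OutL3Outer
import Cfsg.Agent.StdEven.StepFourW

/-!
# `StepFourW.OuterW` for type `L₃(q)`, all `q ≥ 4`

For `q = 4` and a graph-field involution `f = g t g⁻¹` the perfect subgroup of `C_A(f)` is missing; `C_U(f)` is a quaternion
group with involution `z`, `m = n g⁻¹` maps `C_T(f)` into `T` and `f` to `t`, and `m z m⁻¹ ∈ {z, t, z t}`.
-/

set_option autoImplicit false
set_option linter.unusedSectionVars false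
set_option linter.dupNamespace false

namespace Cfsg.Agent.StdRank2.L3W.OuterFour

open Subgroup
open scoped commutatorElement
open Cfsg.Agent.SignalizersComponents Cfsg.Agent.StdEven.Syl Cfsg.Agent.StdEven.Loc
open Cfsg.Agent.StdRank2.OutL3Rel Cfsg.Agent.StdRank2.OutField Cfsg.Agent.StdRank2.OutL3Inv
open Cfsg.Agent.StdRank2.OutL3Je Cfsg.Agent.StdRank2.L3Data
open Cfsg.Agent.StdEven.StepFourW

variable {G : Type*} [Group G] [Finite G] {L A : Subgroup G} {t : G} {T : Subgroup G}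
  {F : Type*} [Field F] [Finite F] [CharP F 2] {fr : FrameL3 A F}

theorem hfix_of {σ : F ≃+* F} (h8 : Nat.card F < 8) (h1 : σ ≠ 1) (h2 : σ * σ = 1) : ∀ z, σ z = z → z = 0 ∨ z = 1 := by
  intro z hz
  by_contra hcon
  push Not at hcon
  have hfix := card_fix h2 h1
  have h3 : ({0, 1, z} : Set F) ⊆ {x : F | σ x = x} := by
    rintro x (rfl | rfl | rfl)
    · exact map_zero σ
    · exact map_one σ
    · exact hz
  have h4 := Set.ncard_le_ncard h3 (Set.toFinite _)
  have h5 : ({0, 1, z} : Set F).ncard = 3 := by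
    rw [Set.ncard_eq_three]
    exact ⟨0, 1, z, zero_ne_one, fun e => hcon.1 e.symm, fun e => hcon.2 e.symm, rfl⟩
  have h6 : ({x : F | σ x = x}).ncard = Nat.card {x : F // σ x = x} := rfl
  rw [h5, h6] at h4
  nlinarith

/-- `C_U(f)` is not abelian, `z = u 0 0 1` is a commutator. -/
theorem exists_ab (hZ : Odd (Nat.card (center ↥A))) {f : G} {σ : F ≃+* F} (hf : Grf fr f σ) (h1 : σ ≠ 1)
    (h2 : σ * σ = 1) (hfix : ∀ z, σ z = z → z = 0 ∨ z = 1) :
    ∃ a ∈ fr.U, ∃ b ∈ fr.U, f * a = a * f ∧ f * b = b * f ∧ a * b * a⁻¹ * b⁻¹ = u fr 0 0 1 := by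
  obtain ⟨v, hv⟩ : ∃ v, σ v ≠ v := by
    by_contra hcon
    push Not at hcon
    apply h1
    ext v
    exact hcon v
  have hσσ : ∀ r, σ (σ r) = r := fun r => invol_apply h2 r
  obtain ⟨t1, ht1⟩ := exists_trace h2 h1 (map_one σ)
  obtain ⟨t2, ht2⟩ := exists_trace h2 h1 (a := v * σ v) (by rw [map_mul, hσσ, mul_comm])
  refine ⟨u fr 1 1 t1, u_mem fr _ _ _, u fr v (σ v) t2, u_mem fr _ _ _, ?_, ?_, ?_⟩
  · rw [comm_iff_grf hZ hf]
    refine ⟨map_one σ, map_one σ, ?_⟩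
    rw [map_add, mul_one, map_one, ← ht1]
    have h6 : σ t1 + (t1 + σ t1) = t1 + (σ t1 + σ t1) := by ring
    rw [h6, CharTwo.add_self_eq_zero, add_zero]
  · rw [comm_iff_grf hZ hf]
    refine ⟨hσσ v, rfl, ?_⟩
    rw [map_add, map_mul, hσσ, mul_comm (σ v), ← ht2]
    have h6 : σ t2 + (t2 + σ t2) = t2 + (σ t2 + σ t2) := by ring
    rw [h6, CharTwo.add_self_eq_zero, add_zero]
  · rw [u_inv fr hZ, u_inv fr hZ, u_mul fr hZ, u_mul fr hZ, u_mul fr hZ]
    have hx : ∀ x : F, x + x = 0 := fun x => CharTwo.add_self_eq_zero x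
    have hone : v + σ v = 1 := by
      rcases hfix (v + σ v) (by rw [map_add, hσσ, add_comm]) with e | e
      · exfalso
        apply hv
        rw [CharTwo.add_eq_zero] at e
        exact e.symm
      · exact e
    congr 1
    · linear_combination hx 1 + hx v
    · linear_combination hx 1 + hx (σ v)
    · linear_combination hone + hx t1 + hx t2 + hx 1 + hx (v * σ v) + hx (σ v)

/-- the involution of `C_U(s)` is unique. -/
theorem inv_unique (hZ : Odd (Nat.card (center ↥A))) {s : G} {σ : F ≃+* F} (hs : Grf fr s σ)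
    (hfix : ∀ z, σ z = z → z = 0 ∨ z = 1) {v : G} (hv : v ∈ fr.U) (hvv : v * v = 1) (hc : s * v = v * s) :
    v = 1 ∨ v = u fr 0 0 1 := by
  obtain ⟨a, b, c, rfl⟩ := (mem_U fr hZ).1 hv
  rw [comm_iff_grf hZ hs] at hc
  obtain ⟨e1, e2, e3⟩ := hc
  rw [u_sq fr hZ, ← u_zero fr hZ] at hvv
  have hab := (u_inj fr hvv).2.2
  have ha : a = 0 := by
    rcases mul_eq_zero.1 hab with h | h
    · exact h
    · rw [← e1, h, map_zero]
  subst ha
  have hb : b = 0 := by rw [← e2, map_zero]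
  subst hb
  rw [mul_zero, add_zero] at e3
  rcases hfix c e3 with rfl | rfl
  · exact Or.inl (u_zero fr hZ)
  · exact Or.inr rfl

/-- types commute -/
theorem ft_commutator (h : Sit L A t T fr) {x y : G} (hx : x ∈ T) (hy : y ∈ T) : FT fr (x * y * x⁻¹ * y⁻¹) 1 := by
  have hc : ∀ σ τ : F ≃+* F, σ * τ * σ⁻¹ * τ⁻¹ = 1 := by
    intro σ τ
    rw [OutField.comm σ τ]
    group
  rcases h.had.cases hx with ⟨σ, h1⟩ | ⟨σ, h1⟩ <;> rcases h.had.cases hy with ⟨τ, h2⟩ | ⟨τ, h2⟩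
  · have := ((h1.mul h.hZ h2).mul h.hZ (h1.inv h.hZ)).mul h.hZ (h2.inv h.hZ)
    rwa [hc] at this
  · have := ((h1.mul_gt h.hZ h2).mul_ft h.hZ (h1.inv h.hZ)).mul h.hZ (h2.inv h.hZ)
    rwa [hc] at this
  · have := ((h1.mul_ft h.hZ h2).mul h.hZ (h1.inv h.hZ)).mul h.hZ (h2.inv h.hZ)
    rwa [hc] at this
  · have := ((h1.mul h.hZ h2).mul_gt h.hZ (h1.inv h.hZ)).mul h.hZ (h2.inv h.hZ)
    rwa [hc] at this

/-- 2-subgroups of `C(t)` are conjugate into `T`. -/
theorem exists_conj_T (h : Sit L A t T fr) {P : Subgroup G} (hP : IsPGroup 2 P) (hPt : ∀ x ∈ P, x * t = t * x) :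
    ∃ n : G, n * t = t * n ∧ ∀ x ∈ P, n * x * n⁻¹ ∈ T := by
  have hs := h.isT.syl_cent h.conf.std h.conf.ht h.conf.htA
  obtain ⟨n, hn, hc⟩ := hs.exists_conj hP (fun x hx => mem_centralizer_singleton_iff.2 (hPt x hx))
  exact ⟨n, mem_centralizer_singleton_iff.1 hn, hc⟩

/-- The conclusion of `OuterW`. -/
def Out (A : Subgroup G) (t : G) : Prop :=
  ∃ a ∈ A, a * a = 1 ∧ a ≠ 1 ∧ ((∃ g : G, g * t * g⁻¹ = a) ∨ ∃ g : G, g * t * g⁻¹ = t * a)

theorem out_of_good (h : Sit L A t T fr) (hS : Schreier.Basic.Sch ↥A) {f g : G} (hg : g * t * g⁻¹ = f)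
    (hf : OutL3Outer.Good f) : Out A t := by
  obtain ⟨B, h1, h2, h3, w, hw, h4, h5, c, hc⟩ := hf
  obtain ⟨a, ha, haa, ha1, y, hy⟩ := StdEven.Perf.exists_conj_mul h.conf.std h.conf.ht h.conf.htA h.conf.cyc hS hg
    h1 h2 h3 hw h4 h5 hc
  exact ⟨a, ha, haa, ha1, Or.inr ⟨y, hy⟩⟩

/-- two graph-field involutions: `m` maps `f` to `t`, `C_T(f)` into `T`, and `m t m⁻¹` is standard. -/
theorem out_aux (h : Sit L A t T fr) (h8 : Nat.card F < 8) {f g m : G} {σ σ' : F ≃+* F} (hfT : f ∈ T) (hff : f * f = 1)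
    (h1 : σ ≠ 1) (h2 : σ * σ = 1) (hf : Grf fr f σ) (h1' : σ' ≠ 1) (h2' : σ' * σ' = 1)
    (hm : Grf fr (m * t * m⁻¹) σ') (hg : g * t * g⁻¹ = f) (hmf : m * f * m⁻¹ = t)
    (hmT : ∀ x ∈ T, f * x = x * f → m * x * m⁻¹ ∈ T) : Out A t := by
  have hfix := hfix_of h8 h1 h2
  have hfix' := hfix_of h8 h1' h2'
  obtain ⟨a, ha, b, hb, hfa, hfb, hab⟩ := exists_ab h.hZ hf h1 h2 hfix
  set z := u fr 0 0 1 with hz
  have hzU : z ∈ fr.U := u_mem fr _ _ _
  have hzz : z * z = 1 := by rw [hz, u_sq fr h.hZ, mul_zero, u_zero fr h.hZ]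
  have hz1 : z ≠ 1 := by
    rw [hz, ← u_zero fr h.hZ]
    intro e
    exact one_ne_zero (u_inj fr e).2.2
  have hzt : t * z = z * t := h.t_comm (fr.U_le hzU)
  have hfz : f * z = z * f := by
    rw [← hab]
    have ha' : a⁻¹ * f = f * a⁻¹ := by
      rw [inv_mul_eq_iff_eq_mul, ← mul_assoc, ← hfa, mul_inv_cancel_right]
    have hb' : b⁻¹ * f = f * b⁻¹ := by
      rw [inv_mul_eq_iff_eq_mul, ← mul_assoc, ← hfb, mul_inv_cancel_right]
    calc f * (a * b * a⁻¹ * b⁻¹) = (f * a) * b * a⁻¹ * b⁻¹ := by group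
      _ = a * (f * b) * a⁻¹ * b⁻¹ := by rw [hfa]; group
      _ = a * b * (f * a⁻¹) * b⁻¹ := by rw [hfb]; group
      _ = a * b * a⁻¹ * (f * b⁻¹) := by rw [← ha']; group
      _ = _ := by rw [← hb']; group
  obtain ⟨x, hx, hfx⟩ := conj_of_sq_grf h.hZ hf (by rw [hff]; exact one_mem _) hzU (by
    have : f * z * (f * z) = 1 := by
      calc f * z * (f * z) = f * (z * f) * z := by group
        _ = f * (f * z) * z := by rw [hfz]
        _ = (f * f) * (z * z) := by group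
        _ = 1 := by rw [hff, hzz, one_mul]
    rw [this]; exact one_mem _)
  have haT := hmT a (h.U_le ha) hfa
  have hbT := hmT b (h.U_le hb) hfb
  have hzT := hmT z (h.U_le hzU) hfz
  have htT := hmT t h.isT.mem (h.isT.cent f hfT)
  set z1 := m * z * m⁻¹ with hz1def
  have hz1c : z1 = m * a * m⁻¹ * (m * b * m⁻¹) * (m * a * m⁻¹)⁻¹ * (m * b * m⁻¹)⁻¹ := by
    rw [hz1def, ← hab]; group
  have hft : FT fr z1 1 := by
    rw [hz1c]
    exact ft_commutator h haT hbT
  obtain ⟨v, hv, hvr⟩ := FT.exists_of_one h.hZ h.perfect (h.isT.norm hzT) hft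
  set r := v⁻¹ * z1 with hr
  have hz1v : z1 = v * r := by rw [hr]; group
  have hvA := fr.U_le hv
  have hrT : r ∈ T := mul_mem (inv_mem (h.U_le hv)) hzT
  have hrv : r * v = v * r := comm_of_centralizer hvr hvA
  have hz1z1 : z1 * z1 = 1 := by
    calc z1 * z1 = m * (z * z) * m⁻¹ := by rw [hz1def]; group
      _ = 1 := by rw [hzz]; group
  have hvvrr : (v * v) * (r * r) = 1 := by
    rw [← hz1z1, hz1v]
    calc v * v * (r * r) = v * (v * r) * r := by group
      _ = v * (r * v) * r := by rw [hrv]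
      _ = v * r * (v * r) := by group
  have hvv : v * v = 1 := by
    apply h.isT.eq_one_of_mem h.hZ (mul_mem (h.U_le hv) (h.U_le hv)) (mul_mem hvA hvA)
    rw [eq_inv_of_mul_eq_one_left hvvrr]
    exact inv_mem (mul_mem hvr hvr)
  rw [hvv, one_mul] at hvvrr
  -- `v` commutes with `m t m⁻¹`
  have hs : (m * t * m⁻¹) * z1 = z1 * (m * t * m⁻¹) := by
    calc (m * t * m⁻¹) * z1 = m * (t * z) * m⁻¹ := by rw [hz1def]; group
      _ = m * (z * t) * m⁻¹ := by rw [hzt]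
      _ = _ := by rw [hz1def]; group
  have hst := h.isT.cent _ htT
  have hsv : (m * t * m⁻¹) * v = v * (m * t * m⁻¹) := by
    rcases h.isT.uniq r hrT hvr hvvrr with e | e
    · rwa [hz1v, e, mul_one] at hs
    · rw [hz1v, e] at hs
      have h3 : (m * t * m⁻¹) * v * t = v * (m * t * m⁻¹) * t := by
        calc (m * t * m⁻¹) * v * t = (m * t * m⁻¹) * (v * t) := by rw [mul_assoc]
          _ = v * t * (m * t * m⁻¹) := hs
          _ = v * (t * (m * t * m⁻¹)) := by rw [mul_assoc]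
          _ = v * ((m * t * m⁻¹) * t) := by rw [hst]
          _ = _ := by rw [mul_assoc v]
      exact mul_right_cancel h3
  have hfin : ∀ y, m * (f * z) * m⁻¹ = y → (m * x * g) * t * (m * x * g)⁻¹ = y := by
    intro y hy
    rw [← hy, hfx, ← hg]
    group
  have hmfz : m * (f * z) * m⁻¹ = t * z1 := by
    rw [← hmf, hz1def]; group
  refine ⟨z, fr.U_le hzU, hzz, hz1, ?_⟩
  rcases inv_unique h.hZ hm hfix' hv hvv hsv with e | e
  · -- `z1 = r`
    rw [e, one_mul] at hz1v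
    rcases h.isT.uniq r hrT hvr hvvrr with e' | e'
    · exfalso
      rw [e'] at hz1v
      apply hz1
      have : z = m⁻¹ * z1 * m := by rw [hz1def]; group
      rw [this, hz1v]; group
    · left
      refine ⟨m⁻¹, ?_⟩
      rw [← e', ← hz1v, hz1def]
      group
  · rcases h.isT.uniq r hrT hvr hvvrr with e' | e'
    · right
      refine ⟨m * x * g, hfin _ ?_⟩
      rw [hmfz, hz1v, e, e', mul_one]
    · left
      refine ⟨m * x * g, hfin _ ?_⟩
      rw [hmfz, hz1v, e, e', ← mul_assoc, hzt, mul_assoc, h.tt, mul_one]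

/-- **`OuterW` for type `L₃(q)`, all `q ≥ 4`.** -/
theorem outerW (h : Sit L A t T fr) (hS : Schreier.Basic.Sch ↥A) : OuterW A t T := by
  rintro f hfT hff hout ⟨g, hg⟩
  show Out A t
  rcases OutL3Outer.good_or h.hZ h.had h.isT.norm h.perfect h.four hfT hff hout with hgood | ⟨h8, w, hw, σ, h1, h2, hgrf⟩
  · exact out_of_good h hS hg hgood
  -- replace `f` by `w f w⁻¹`
  have hwT := h.U_le hw
  have hwt : t * w = w * t := h.t_comm (fr.U_le hw)
  set f' := w * f * w⁻¹ with hf'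
  have hf'T : f' ∈ T := mul_mem (mul_mem hwT hfT) (inv_mem hwT)
  have hf'f' : f' * f' = 1 := by
    calc f' * f' = w * (f * f) * w⁻¹ := by rw [hf']; group
      _ = 1 := by rw [hff]; group
  have hg' : (w * g) * t * (w * g)⁻¹ = f' := by
    rw [hf', ← hg]; group
  have hf't : f' ≠ t := by
    intro e
    apply hout
    refine ⟨1, one_mem _, ?_⟩
    have : f = t := by
      have h3 : f = w⁻¹ * f' * w := by rw [hf']; group
      rw [h3, e, mul_assoc, hwt, inv_mul_cancel_left]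
    rw [this, inv_one, one_mul]
    exact h.conf.htA
  set k := w * g with hk
  -- `C_T(f')` is mapped into `T`
  have hP : IsPGroup 2 (T ⊓ centralizer {f'} : Subgroup G) := h.isT.syl.two.to_le inf_le_left
  obtain ⟨n, hnt, hn⟩ := exists_conj_T h (isPGroup_map hP k⁻¹) (by
    rintro _ ⟨x, hx, rfl⟩
    show k⁻¹ * x * k⁻¹⁻¹ * t = t * (k⁻¹ * x * k⁻¹⁻¹)
    rw [inv_inv]
    have hxc : x * f' = f' * x := mem_centralizer_singleton_iff.1 hx.2
    have ht : t = k⁻¹ * f' * k := by rw [← hg']; group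
    calc k⁻¹ * x * k * t = k⁻¹ * (x * f') * k := by rw [ht]; group
      _ = k⁻¹ * (f' * x) * k := by rw [hxc]
      _ = t * (k⁻¹ * x * k) := by rw [ht]; group)
  set m := n * k⁻¹ with hm
  have hmT : ∀ x ∈ T, f' * x = x * f' → m * x * m⁻¹ ∈ T := by
    intro x hx hxf
    have h3 := hn _ (conj_mem_map k⁻¹ (X := T ⊓ centralizer {f'})
      (mem_inf.2 ⟨hx, mem_centralizer_singleton_iff.2 hxf.symm⟩))
    have h4 : m * x * m⁻¹ = n * (k⁻¹ * x * k⁻¹⁻¹) * n⁻¹ := by rw [hm]; group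
    rw [h4]; exact h3
  have hmf : m * f' * m⁻¹ = t := by
    calc m * f' * m⁻¹ = n * (k⁻¹ * f' * k) * n⁻¹ := by rw [hm]; group
      _ = n * t * n⁻¹ := by rw [← hg']; group
      _ = t := by rw [hnt]; group
  have hs := hmT t h.isT.mem (h.isT.cent f' hf'T)
  set s := m * t * m⁻¹ with hsdef
  have hst : s ≠ t := by
    intro e
    apply hf't
    have h3 : m * f' * m⁻¹ = m * t * m⁻¹ := by rw [hmf, ← hsdef, e]
    exact mul_left_cancel (mul_right_cancel h3)
  have hss : s * s = 1 := by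
    calc s * s = m * (t * t) * m⁻¹ := by rw [hsdef]; group
      _ = 1 := by rw [h.tt]; group
  have hs1 : s ≠ 1 := by
    intro e
    apply h.t_ne
    have : t = m⁻¹ * s * m := by rw [hsdef]; group
    rw [this, e]; group
  by_cases hin : ∃ a ∈ A, a⁻¹ * s ∈ centralizer (A : Set G)
  · obtain ⟨v, -, hvA, hvv, hv1, hconj⟩ := inner_of_inner h.hZ h.isT hs hst hsdef.symm hss hs1 hin
    exact ⟨v, hvA, hvv, hv1, hconj⟩
  rcases OutL3Outer.good_or h.hZ h.had h.isT.norm h.perfect h.four hs hss hin with hgood |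
    ⟨-, w', hw', σ', h1', h2', hgrf'⟩
  · exact out_of_good h hS hsdef.symm hgood
  have hw't : t * w' = w' * t := h.t_comm (fr.U_le hw')
  refine out_aux h h8 hf'T hf'f' h1 h2 hgrf h1' h2' (m := w' * m) ?_ hg' ?_ ?_
  · have : w' * m * t * (w' * m)⁻¹ = w' * s * w'⁻¹ := by rw [hsdef]; group
    rw [this]; exact hgrf'
  · calc w' * m * f' * (w' * m)⁻¹ = w' * (m * f' * m⁻¹) * w'⁻¹ := by group
      _ = t := by rw [hmf, ← hw't]; group
  · intro x hx hxf
    have : w' * m * x * (w' * m)⁻¹ = w' * (m * x * m⁻¹) * w'⁻¹ := by group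
    rw [this]
    exact mul_mem (mul_mem (h.U_le hw') (hmT x hx hxf)) (inv_mem (h.U_le hw'))

end Cfsg.Agent.StdRank2.L3W.OuterFour
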