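import Mathlib
import Cfsg.Agent.StdRank2.L3W.OuterFour
import Cfsg.Agent.StdRank2.L3Inst

/-!
# Type `L₃(q)`: the start for all `q ≥ 4` (no hypothesis `Outer`)
-/

set_option autoImplicit false
set_option linter.unusedSectionVars false
set_option linter.dupNamespace false

namespace Cfsg.Agent.StdRank2.L3W.StartAll

open Subgroup Cfsg.Agent.SignalizersComponents Cfsg.Agent.StdEven.Syl Cfsg.Agent.StdEven.Loc
open Cfsg.Agent.StdEven.StepFourW Cfsg.Agent.StdRank2.L3W.OuterFour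
open Cfsg.Agent.StdEven.CoreQuot Cfsg.Agent.StdRank2.L3Data Cfsg.Agent.StdRank2.L3X Cfsg.Agent.StdRank2.L3Inst
open Cfsg.Agent.StdRank2.FrameL3

variable {G : Type*} [Group G] [Finite G] {L A : Subgroup G} {t : G} {T : Subgroup G}
  {F : Type*} [Field F] [Finite F] [CharP F 2]

section Sit

variable {fr : FrameL3 A F} (h : Sit L A t T fr)
include h

/-- `|R| = 2`. -/
theorem hypW (hS : Cfsg.Agent.Schreier.Basic.Sch ↥A) :
    Cfsg.Agent.StdEven.CoreQuot.Hyp A t T where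
  std := h.conf.std
  ht := h.conf.ht
  htA := h.conf.htA
  hZ := h.hZ
  isT := h.isT
  R := by
    intro r hr hrK
    have hu := fr.U_le (fr.x_mem_U (i := 0) (j := 2) (by decide) 1)
    refine R_eqW h.data h.conf (fun hsyl => exists_innerW h.conf h.hZ h.isT (outerW h hS) hu
      (h.x02_ne_one one_ne_zero) (fr.two (by decide) 1) hsyl) (X := T ⊓ centralizer (J fr t : Set G)) ?_ ?_ ?_ hr hrK
    · intro r hr hrK
      refine mem_inf.mpr ⟨hr, ?_⟩
      rw [mem_centralizer_iff]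
      intro j hj
      rcases h.mem_J.mp hj with h1 | h1
      · exact (comm_of_centralizer hrK (fr.U_le h1)).symm
      · have h2 := comm_of_centralizer hrK (fr.U_le h1)
        have h3 := h.isT.cent r hr
        have h4 : t * (j * r) = t * (r * j) := by
          calc t * (j * r) = r * (t * j) := by rw [h2]; group
            _ = (r * t) * j := by group
            _ = t * (r * j) := by rw [h3]; group
        exact mul_left_cancel h4
    · intro x hx
      have hxU : ∀ v ∈ fr.U, x * v = v * x := fun v hv => comm_of_centralizer hx.2 (h.U_mem_J hv)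
      obtain ⟨v, hv, hvx⟩ := OutL3Facts.exists_of_trivial fr h.hZ h.perfect (h.isT.syl.le hx.1)
        (fun r s z => ⟨z, by rw [hxU _ (OutL3Rel.u_mem fr _ _ _), mul_inv_cancel_right]⟩)
      have hvW : v ∈ W fr := by
        refine mem_inf.mpr ⟨hv, ?_⟩
        rw [mem_centralizer_iff]
        intro y hy
        have h1 := comm_of_centralizer hvx (fr.U_le hy)
        have h2 := hxU y hy
        calc y * v = x * (x⁻¹ * (y * x)) * x⁻¹ * v := by group
          _ = x * y * (v⁻¹ * x)⁻¹ := by rw [← h2]; group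
          _ = v * ((v⁻¹ * x) * y) * (v⁻¹ * x)⁻¹ := by group
          _ = v * y := by rw [h1]; group
      obtain ⟨c, rfl⟩ := h.mem_W.mp hvW
      refine ⟨_, fr.U_le hv, fr.two (by decide) c, (fr.x 0 2 c)⁻¹ * x,
        mul_mem (inv_mem (h.U_le hv)) hx.1, hvx, by group⟩
    · intro g hg x hx
      have hgJ := h.data.normalizer_T_le hg
      exact mem_inf.mpr ⟨conj_mem_of_mem_normalizer hg hx.1,
        conj_mem_of_mem_normalizer (normalizer_le_normalizer_centralizer _ hgJ) hx.2⟩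

/-- The 2-element `n` with `t ^ n = t z`. -/
theorem exists_nW (hS : Cfsg.Agent.Schreier.Basic.Sch ↥A) :
    ∃ g ∈ normalizer (T : Set G), (∃ k : ℕ, g ^ 2 ^ k = 1) ∧ ∃ c : F, c ≠ 0 ∧
      (∀ x ∈ T, x * fr.x 0 2 c = fr.x 0 2 c * x) ∧ g * t * g⁻¹ = t * fr.x 0 2 c := by
  have hu := fr.U_le (fr.x_mem_U (i := 0) (j := 2) (by decide) 1)
  have h1 := not_sylW h.data h.conf (fun hsyl => exists_innerW h.conf h.hZ h.isT (outerW h hS) hu
      (h.x02_ne_one one_ne_zero) (fr.two (by decide) 1) hsyl)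
  obtain ⟨g, hg, hk, v, hv, hv1, hvT, hgt⟩ := h.data.exists_normalizer h.conf h1
  obtain ⟨c, rfl⟩ := h.mem_W.mp hv
  refine ⟨g, hg, hk, c, ?_, hvT, hgt⟩
  rintro rfl
  exact hv1 (fr.x_zero h.hZ (by decide))

end Sit

/-- `Both` from `Sit`, all `q ≥ 4`. -/
theorem exists_bothW {fr : FrameL3 A F} (h : Sit L A t T fr) : Nonempty (Both L A t T fr) := by
  have H := hypW h (sch h.perfect fr.e)
  obtain ⟨frX, hx⟩ := exists_frX H fr
  exact ⟨⟨h, H, frX, hx⟩⟩

section Both

variable {fr : FrameL3 A F} (B : Both L A t T fr)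
include B

/-- **The element of part I in `X`.** -/
theorem both_exists_nW :
    ∃ g : G, ∃ hg : g ∈ NO A t, g ∈ normalizer (T : Set G) ∧ (∃ k : ℕ, g ^ 2 ^ k = 1) ∧
      (∃ c : F, c ≠ 0 ∧ (∀ x ∈ T, x * fr.x 0 2 c = fr.x 0 2 c * x) ∧ g * t * g⁻¹ = t * fr.x 0 2 c) ∧
      pr A t ⟨g, hg⟩ ∈ normalizer (B.xsit.env.J : Set (XQ A t)) ∧
      pr A t ⟨g, hg⟩ * B.xsit.env.t ≠ B.xsit.env.t * pr A t ⟨g, hg⟩ := by
  obtain ⟨g, hgT, hk, c, hc0, hcT, hgt⟩ := exists_nW B.sit (sch B.sit.perfect fr.e)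
  have hgJ := B.sit.data.normalizer_T_le hgT
  have hg := B.normalizer_J_le hgJ
  refine ⟨g, hg, hgT, hk, ⟨c, hc0, hcT, hgt⟩, ?_, ?_⟩
  · rw [← B.imJ_eq]
    exact B.hyp.pr_mem_normalizer hgJ
  · intro h1
    have h2 : g * t = t * g := B.hyp.pr_comm_iff.mp h1
    rw [h2, mul_inv_cancel_right, left_eq_mul] at hgt
    exact B.sit.x02_ne_one hc0 hgt

/-- **Part I in `X`.** -/
theorem exists_seedW : Nonempty (L3Zh.Seed B.xsit.env) := by
  obtain ⟨g, hg, -, -, -, h1, h2⟩ := both_exists_nW B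
  exact L3Zh.exists_seed_of_mem B.xsit.exists_ne h1 h2

end Both

/-- **Type `L₃(q)`, `q ≥ 4`: everything up to the input of part II.** -/
theorem exists_allW (C : Cfsg.Agent.StdL2.Setup.Conf L A t) (hZ : Odd (Nat.card (center ↥A)))
    (e : (↥A ⧸ center ↥A) ≃* Matrix.ProjectiveSpecialLinearGroup (Fin 3) F) (h4 : 4 ≤ Nat.card F) :
    ∃ (T : Subgroup G) (fr : FrameL3 A F) (B : Both L A t T fr), Nonempty (L3Zh.Seed B.xsit.env) := by
  obtain ⟨T, fr, h⟩ := L3Data.exists_sit C hZ e h4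
  obtain ⟨B⟩ := exists_bothW h
  exact ⟨T, fr, B, exists_seedW B⟩

end Cfsg.Agent.StdRank2.L3W.StartAll
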