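import Cfsg.Agent.StdRank2.L3W.Elem
import Cfsg.Agent.StdRank2.OutSplit.Table

/-!
# The order and rank table for `L₃(q)`, wreath case (`q ≥ 4`)

`Two fr1 fr2 S` : `S` normalises the commuting subgroups `A1`, `A2` of type `L₃(F)` and is adapted to both frames.

* `htab` : `y ∈ S` an involution of types `(s, s)`, `s ≠ 1`, `s` the pure graph type if this occurs, `g⁻¹ y g ∈ S` of
  types `a ≠ b`. Then `C_S(y) ^ g ≠ C_S(g⁻¹ y g)`.
-/

set_option autoImplicit false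

namespace Cfsg.Agent.StdRank2.L3W.Tab

open Cfsg.Agent.StdRank2.OutL3Rel Cfsg.Agent.StdRank2.OutField Cfsg.Agent.StdRank2.OutL3Inv
open Cfsg.Agent.StdRank2.OutL3Je Cfsg.Agent.StdRank2.OutL3JeMain Cfsg.Agent.StdRank2.L3W6.Types
open Cfsg.Agent.StdRank2.L3W.Count Cfsg.Agent.StdRank2.L3W.Elem Cfsg.Agent.StdRank2.OutSplit

variable {G : Type*} [Group G] {A1 A2 : Subgroup G} {F : Type*} [Field F]

/-- `S` acts on two commuting subgroups of type `L₃(F)`. -/
structure Two (fr1 : FrameL3 A1 F) (fr2 : FrameL3 A2 F) (S : Subgroup G) : Prop where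
  odd1 : Odd (Nat.card (Subgroup.center ↥A1))
  odd2 : Odd (Nat.card (Subgroup.center ↥A2))
  perf1 : _root_.commutator ↥A1 = ⊤
  perf2 : _root_.commutator ↥A2 = ⊤
  comm : ∀ x ∈ A1, ∀ y ∈ A2, x * y = y * x
  norm1 : S ≤ Subgroup.normalizer (A1 : Set G)
  norm2 : S ≤ Subgroup.normalizer (A2 : Set G)
  ad1 : Adapted fr1 S
  ad2 : Adapted fr2 S
  U1 : fr1.U ≤ S
  U2 : fr2.U ≤ S
  cent : ∀ c ∈ S, c ∈ Subgroup.centralizer (A1 : Set G) → c ∈ Subgroup.centralizer (A2 : Set G) → c = 1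

/-! ### Two counting lemmas -/

theorem card_le_orbit [Finite G] (S : Subgroup G) (x : G) (P : Set G) (hP : ∀ s ∈ S, s * x * s⁻¹ ∈ P) :
    Nat.card S ≤ Nat.card (cen S x) * P.ncard := by
  classical
  have := Fintype.ofFinite S
  have h1 := Finset.card_le_mul_card_image (f := fun s : S => (s : G) * x * (s : G)⁻¹) Finset.univ
    (Nat.card (cen S x)) (by
      intro a _
      have h2 : (Finset.univ.filter (fun s : S => (s : G) * x * (s : G)⁻¹ = a)).card =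
          Nat.card {s : S // (s : G) * x * (s : G)⁻¹ = a} := by
        rw [Nat.card_eq_fintype_card, Fintype.card_subtype]
      rw [h2]
      by_cases hne : Nonempty {s : S // (s : G) * x * (s : G)⁻¹ = a}
      · obtain ⟨⟨s0, hs0⟩⟩ := hne
        have hmem : ∀ s : {s : S // (s : G) * x * (s : G)⁻¹ = a}, (s0 : G)⁻¹ * (s.1 : G) ∈ cen S x := by
          rintro ⟨s, hs⟩
          refine mem_cen.2 ⟨mul_mem (inv_mem s0.2) s.2, ?_⟩
          show (s0 : G)⁻¹ * (s : G) * x = x * ((s0 : G)⁻¹ * (s : G))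
          have e : (s : G) * x * (s : G)⁻¹ = (s0 : G) * x * (s0 : G)⁻¹ := hs.trans hs0.symm
          calc (s0 : G)⁻¹ * (s : G) * x = (s0 : G)⁻¹ * ((s : G) * x * (s : G)⁻¹) * s := by group
            _ = (s0 : G)⁻¹ * ((s0 : G) * x * (s0 : G)⁻¹) * s := by rw [e]
            _ = x * ((s0 : G)⁻¹ * (s : G)) := by group
        refine Nat.card_le_card_of_injective (fun s => (⟨(s0 : G)⁻¹ * (s.1 : G), hmem s⟩ : cen S x)) ?_
        intro s s' e
        have e1 : (s0 : G)⁻¹ * (s.1 : G) = (s0 : G)⁻¹ * (s'.1 : G) := congrArg Subtype.val e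
        exact Subtype.ext (Subtype.ext (mul_left_cancel e1))
      · rw [not_nonempty_iff] at hne
        rw [Nat.card_of_isEmpty]
        exact Nat.zero_le _)
  have h3 : (Finset.univ.image (fun s : S => (s : G) * x * (s : G)⁻¹)).card ≤ P.ncard := by
    rw [← Set.ncard_coe_finset]
    apply Set.ncard_le_ncard
    · intro a ha
      obtain ⟨s, -, rfl⟩ := Finset.mem_image.1 (Finset.mem_coe.1 ha)
      exact hP s s.2
    · exact Set.toFinite _
  have h4 : (Finset.univ : Finset S).card = Nat.card S := by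
    rw [Nat.card_eq_fintype_card]; rfl
  rw [h4] at h1
  exact h1.trans (Nat.mul_le_mul_left _ h3)

theorem card_mul_le [Finite G] (S H U V : Subgroup G) (hH : H ≤ S) (hU : U ≤ S) (hV : V ≤ S)
    (P Q : Set G) (hUV : ∀ u ∈ U, ∀ v ∈ V, u * v = v * u)
    (h : ∀ u ∈ U, ∀ v ∈ V, u * v ∈ H → u ∈ P ∧ v ∈ Q) :
    Nat.card H * (Nat.card U * Nat.card V) ≤ P.ncard * Q.ncard * Nat.card S := by
  classical
  have := Fintype.ofFinite G
  have h1 := Finset.card_le_mul_card_image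
    (f := fun p : H × U × V => (⟨(p.1 : G) * ((p.2.1 : G) * p.2.2), mul_mem (hH p.1.2)
      (mul_mem (hU p.2.1.2) (hV p.2.2.2))⟩ : S)) Finset.univ (P.ncard * Q.ncard) (by
      intro a _
      rw [← Set.ncard_prod, ← Set.ncard_coe_finset]
      by_cases hne : ∃ p0 : H × U × V, (⟨(p0.1 : G) * ((p0.2.1 : G) * p0.2.2), mul_mem (hH p0.1.2)
      (mul_mem (hU p0.2.1.2) (hV p0.2.2.2))⟩ : S) = a
      · obtain ⟨⟨h0, u0, v0⟩, hp0⟩ := hne
        apply Set.ncard_le_ncard_of_injOn (fun p : H × U × V => ((u0 : G) * (p.2.1 : G)⁻¹, (v0 : G) * (p.2.2 : G)⁻¹))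
        · rintro ⟨h', u', v'⟩ hp
          have hp' : (⟨(h' : G) * ((u' : G) * v'), _⟩ : S) = a := (Finset.mem_filter.1 (Finset.mem_coe.1 hp)).2
          have e : (h' : G) * ((u' : G) * v') = (h0 : G) * ((u0 : G) * v0) := by
            have := hp'.trans hp0.symm
            exact congrArg Subtype.val this
          have e2 : ((u0 : G) * (u' : G)⁻¹) * ((v0 : G) * (v' : G)⁻¹) = (h0 : G)⁻¹ * h' := by
            have e3 : (v0 : G) * (v' : G)⁻¹ * (u' : G)⁻¹ = (u' : G)⁻¹ * ((v0 : G) * (v' : G)⁻¹) :=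
              (hUV _ (inv_mem u'.2) _ (mul_mem v0.2 (inv_mem v'.2))).symm
            calc ((u0 : G) * (u' : G)⁻¹) * ((v0 : G) * (v' : G)⁻¹)
                = (u0 : G) * ((u' : G)⁻¹ * ((v0 : G) * (v' : G)⁻¹)) := by group
              _ = (u0 : G) * ((v0 : G) * (v' : G)⁻¹ * (u' : G)⁻¹) := by rw [e3]
              _ = (h0 : G)⁻¹ * ((h0 : G) * ((u0 : G) * v0)) * ((v' : G)⁻¹ * (u' : G)⁻¹) := by group
              _ = (h0 : G)⁻¹ * ((h' : G) * ((u' : G) * v')) * ((v' : G)⁻¹ * (u' : G)⁻¹) := by rw [e]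
              _ = (h0 : G)⁻¹ * h' := by group
          exact h _ (mul_mem u0.2 (inv_mem u'.2)) _ (mul_mem v0.2 (inv_mem v'.2))
            (by rw [e2]; exact mul_mem (inv_mem h0.2) h'.2)
        · rintro ⟨h', u', v'⟩ hp ⟨h'', u'', v''⟩ hp2 e
          have hp' : (⟨(h' : G) * ((u' : G) * v'), _⟩ : S) = a := (Finset.mem_filter.1 (Finset.mem_coe.1 hp)).2
          have hp2' : (⟨(h'' : G) * ((u'' : G) * v''), _⟩ : S) = a := (Finset.mem_filter.1 (Finset.mem_coe.1 hp2)).2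
          have e1 : (u0 : G) * (u' : G)⁻¹ = (u0 : G) * (u'' : G)⁻¹ := congrArg Prod.fst e
          have e2 : (v0 : G) * (v' : G)⁻¹ = (v0 : G) * (v'' : G)⁻¹ := congrArg Prod.snd e
          have e3 : u' = u'' := Subtype.ext (inv_injective (mul_left_cancel e1))
          have e4 : v' = v'' := Subtype.ext (inv_injective (mul_left_cancel e2))
          subst e3 e4
          have e5 : (h' : G) * ((u' : G) * v') = (h'' : G) * ((u' : G) * v') :=
            congrArg Subtype.val (hp'.trans hp2'.symm)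
          have e6 : h' = h'' := Subtype.ext (mul_right_cancel e5)
          rw [e6]
      · have h0 : (Finset.univ.filter (fun p : H × U × V => (⟨(p.1 : G) * ((p.2.1 : G) * p.2.2), mul_mem (hH p.1.2)
      (mul_mem (hU p.2.1.2) (hV p.2.2.2))⟩ : S) = a)) = ∅ := by
          rw [Finset.filter_eq_empty_iff]
          intro p _ hp
          exact hne ⟨p, hp⟩
        rw [h0, Finset.coe_empty, Set.ncard_empty]
        exact Nat.zero_le _)
  have h3 : (Finset.univ : Finset (H × U × V)).card = Nat.card H * (Nat.card U * Nat.card V) := by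
    rw [Finset.card_univ, ← Nat.card_eq_fintype_card, Nat.card_prod, Nat.card_prod]
  rw [h3] at h1
  refine h1.trans (Nat.mul_le_mul_left _ ?_)
  rw [Nat.card_eq_fintype_card]
  exact Finset.card_le_univ _

namespace Two

variable {fr1 : FrameL3 A1 F} {fr2 : FrameL3 A2 F} {S : Subgroup G}

theorem symm (h : Two fr1 fr2 S) : Two fr2 fr1 S where
  odd1 := h.odd2
  odd2 := h.odd1
  perf1 := h.perf2
  perf2 := h.perf1
  comm := fun x hx y hy => (h.comm y hy x hx).symm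
  norm1 := h.norm2
  norm2 := h.norm1
  ad1 := h.ad2
  ad2 := h.ad1
  U1 := h.U2
  U2 := h.U1
  cent := fun c hc h1 h2 => h.cent c hc h2 h1

variable [Finite G] [Finite F] [CharP F 2] (h : Two fr1 fr2 S)
include h

omit [Finite G] [Finite F] [CharP F 2] in
theorem cA1 {y : G} (hy : y ∈ A2) : y ∈ Subgroup.centralizer (A1 : Set G) := by
  rw [Subgroup.mem_centralizer_iff]
  intro a ha
  exact h.comm a ha y hy

omit [Finite G] [Finite F] [CharP F 2] in
theorem cA2 {y : G} (hy : y ∈ A1) : y ∈ Subgroup.centralizer (A2 : Set G) := h.symm.cA1 hy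

theorem inter {v : G} (h1 : v ∈ fr1.U) (h2 : v ∈ fr2.U) : v = 1 :=
  eq_one_of_centralizer h.odd1 h1 (h.cA1 (fr2.U_le h2))

theorem uniq {a a' b b' : G} (ha : a ∈ fr1.U) (ha' : a' ∈ fr1.U) (hb : b ∈ fr2.U) (hb' : b' ∈ fr2.U)
    (e : a * b = a' * b') : a = a' ∧ b = b' := by
  have e1 : a'⁻¹ * a = b' * b⁻¹ := by
    calc a'⁻¹ * a = a'⁻¹ * (a * b) * b⁻¹ := by group
      _ = b' * b⁻¹ := by rw [e]; group
  have e2 := h.inter (mul_mem (inv_mem ha') ha) (by rw [e1]; exact mul_mem hb' (inv_mem hb))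
  have e3 : a = a' := (inv_mul_eq_one.1 e2).symm
  refine ⟨e3, ?_⟩
  rw [e3] at e
  exact mul_left_cancel e

theorem conjU1 {x v : G} (hx : x ∈ S) (hv : v ∈ fr1.U) : x * v * x⁻¹ ∈ fr1.U := by
  rcases h.ad1.cases hx with ⟨σ, hσ⟩ | ⟨σ, hσ⟩
  · exact hσ.norm h.odd1 hv
  · exact hσ.norm h.odd1 hv

theorem conjU2 {x v : G} (hx : x ∈ S) (hv : v ∈ fr2.U) : x * v * x⁻¹ ∈ fr2.U := h.symm.conjU1 hx hv

/-- components of an element of `U1 U2` commuting with `x` -/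
theorem comp {x a b : G} (hx : x ∈ S) (ha : a ∈ fr1.U) (hb : b ∈ fr2.U) (hc : a * b * x = x * (a * b)) :
    a * x = x * a ∧ b * x = x * b := by
  have e : x * a * x⁻¹ * (x * b * x⁻¹) = a * b := by
    calc x * a * x⁻¹ * (x * b * x⁻¹) = x * (a * b) * x⁻¹ := by group
      _ = a * b := by rw [← hc]; group
  obtain ⟨e1, e2⟩ := h.uniq (h.conjU1 hx ha) ha (h.conjU2 hx hb) hb e
  rw [mul_inv_eq_iff_eq_mul] at e1 e2
  exact ⟨e1.symm, e2.symm⟩

/-- the kernel of the types -/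
theorem exists_mul {z : G} (hz : z ∈ S) (h1 : om fr1 z = 1) (h2 : om fr2 z = 1) :
    ∃ v1 ∈ fr1.U, ∃ v2 ∈ fr2.U, z = v1 * v2 := by
  obtain ⟨v1, hv1, hc1⟩ := exists_of_om_one h.odd1 h.perf1 h.ad1 h.norm1 hz h1
  obtain ⟨v2, hv2, hc2⟩ := exists_of_om_one h.odd2 h.perf2 h.ad2 h.norm2 hz h2
  refine ⟨v1, hv1, v2, hv2, ?_⟩
  have hcomm : v1 * v2 = v2 * v1 := h.comm _ (fr1.U_le hv1) _ (fr2.U_le hv2)
  have e := h.cent (v2⁻¹ * (v1⁻¹ * z)) (mul_mem (inv_mem (h.U2 hv2)) (mul_mem (inv_mem (h.U1 hv1)) hz))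
    (mul_mem (inv_mem (h.cA1 (fr2.U_le hv2))) hc1) (by
      have e : v2⁻¹ * (v1⁻¹ * z) = v1⁻¹ * (v2⁻¹ * z) := by
        calc v2⁻¹ * (v1⁻¹ * z) = (v1 * v2)⁻¹ * z := by group
          _ = (v2 * v1)⁻¹ * z := by rw [hcomm]
          _ = v1⁻¹ * (v2⁻¹ * z) := by group
      rw [e]
      exact mul_mem (inv_mem (h.cA2 (fr1.U_le hv1))) hc2)
  calc z = v1 * v2 * (v2⁻¹ * (v1⁻¹ * z)) := by group
    _ = v1 * v2 := by rw [e, mul_one]

theorem om_comm1 {s x : G} (hs : s ∈ S) (hx : x ∈ S) : om fr1 (s * x * s⁻¹ * x⁻¹) = 1 := by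
  rw [om_mul fr1 (mul_mem (mul_mem (h.norm1 hs) (h.norm1 hx)) (inv_mem (h.norm1 hs))) (inv_mem (h.norm1 hx)),
    om_conj fr1 (h.norm1 hx) (h.norm1 hs), om_inv fr1 (h.norm1 hx), mul_inv_cancel]

/-- **lower bound for the order of a centraliser** -/
theorem card_le_cen {x : G} (hx : x ∈ S) (hxx : x * x = 1) :
    Nat.card S ≤ Nat.card (cen S x) * ((J fr1 x).ncard * (J fr2 x).ncard) := by
  have h1 := card_le_orbit S x ((fun p : G × G => p.1 * p.2 * x) '' (J fr1 x ×ˢ J fr2 x)) (by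
    intro s hs
    obtain ⟨v1, hv1, v2, hv2, e⟩ := h.exists_mul (mul_mem (mul_mem (mul_mem hs hx) (inv_mem hs)) (inv_mem hx))
      (h.om_comm1 hs hx) (h.symm.om_comm1 hs hx)
    have e' : s * x * s⁻¹ = v1 * v2 * x := by rw [← e]; group
    have hsq : (v1 * v2 * x) * (v1 * v2 * x) = 1 := by
      rw [← e']
      calc s * x * s⁻¹ * (s * x * s⁻¹) = s * (x * x) * s⁻¹ := by group
        _ = 1 := by rw [hxx]; group
    have hcomm : v1 * v2 = v2 * v1 := h.comm _ (fr1.U_le hv1) _ (fr2.U_le hv2)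
    refine ⟨(v1, v2), ⟨⟨hv1, ?_⟩, ⟨hv2, ?_⟩⟩, e'.symm⟩
    · -- `(v1 x)² = ((x v2 x⁻¹) v2)⁻¹ `-like element of `A2`
      have hw : x * v2 * x⁻¹ ∈ fr2.U := h.conjU2 hx hv2
      have e2 : v1 * x * (v1 * x) = v2⁻¹ * (v1 * (x * v2 * x⁻¹)⁻¹ * v1⁻¹) := by
        have e3 : v1 * v2 * x * (v1 * v2 * x) = v2 * ((v1 * x) * (v1 * x)) * (x⁻¹ * v2 * x) := by
          calc v1 * v2 * x * (v1 * v2 * x) = v2 * v1 * x * (v1 * v2 * x) := by rw [hcomm]
            _ = v2 * ((v1 * x) * (v1 * x)) * (x⁻¹ * v2 * x) := by group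
        rw [hsq] at e3
        have hxi : x⁻¹ = x := inv_eq_of_mul_eq_one_right hxx
        have e4 : v1 * x * (v1 * x) = v2⁻¹ * (x⁻¹ * v2 * x)⁻¹ := by
          calc v1 * x * (v1 * x) = v2⁻¹ * (v2 * (v1 * x * (v1 * x)) * (x⁻¹ * v2 * x)) * (x⁻¹ * v2 * x)⁻¹ := by group
            _ = v2⁻¹ * (x⁻¹ * v2 * x)⁻¹ := by rw [← e3, mul_one]
        rw [e4]
        congr 1
        have e5 : x⁻¹ * v2 * x = x * v2 * x⁻¹ := by rw [hxi]
        rw [e5]
        have e6 := h.comm _ (fr1.U_le hv1) _ (inv_mem (fr2.U_le hw))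
        rw [e6, mul_inv_cancel_right]
      rw [e2]
      refine mul_mem (inv_mem (h.cA1 (fr2.U_le hv2))) ?_
      have e6 := h.comm _ (fr1.U_le hv1) _ (inv_mem (fr2.U_le hw))
      rw [e6, mul_inv_cancel_right]
      exact inv_mem (h.cA1 (fr2.U_le hw))
    · have hw : x * v1 * x⁻¹ ∈ fr1.U := h.conjU1 hx hv1
      have hxi : x⁻¹ = x := inv_eq_of_mul_eq_one_right hxx
      have e3 : v1 * v2 * x * (v1 * v2 * x) = v1 * ((v2 * x) * (v2 * x)) * (x⁻¹ * v1 * x) := by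
        calc v1 * v2 * x * (v1 * v2 * x) = v1 * v2 * x * (v2 * v1 * x) := by rw [hcomm]
          _ = v1 * ((v2 * x) * (v2 * x)) * (x⁻¹ * v1 * x) := by group
      rw [hsq] at e3
      have e4 : v2 * x * (v2 * x) = v1⁻¹ * (x⁻¹ * v1 * x)⁻¹ := by
        calc v2 * x * (v2 * x) = v1⁻¹ * (v1 * (v2 * x * (v2 * x)) * (x⁻¹ * v1 * x)) * (x⁻¹ * v1 * x)⁻¹ := by group
          _ = v1⁻¹ * (x⁻¹ * v1 * x)⁻¹ := by rw [← e3, mul_one]
      rw [e4]
      have e5 : x⁻¹ * v1 * x = x * v1 * x⁻¹ := by rw [hxi]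
      rw [e5]
      exact mul_mem (inv_mem (h.cA2 (fr1.U_le hv1))) (inv_mem (h.cA2 (fr1.U_le hw))))
  refine h1.trans (Nat.mul_le_mul_left _ ?_)
  refine (Set.ncard_image_le (Set.toFinite _)).trans ?_
  rw [Set.ncard_prod]

/-- **upper bound for the order of a centraliser** -/
theorem cen_le {x : G} (hx : x ∈ S) :
    Nat.card (cen S x) * (Nat.card F ^ 3 * Nat.card F ^ 3) ≤
      (C fr1 x).ncard * (C fr2 x).ncard * Nat.card S := by
  have h1 := card_mul_le S (cen S x) fr1.U fr2.U inf_le_left h.U1 h.U2 (C fr1 x) (C fr2 x)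
    (fun u hu v hv => h.comm _ (fr1.U_le hu) _ (fr2.U_le hv)) (by
      intro u hu v hv huv
      obtain ⟨e1, e2⟩ := h.comp hx hu hv (mem_cen.1 huv).2
      exact ⟨⟨hu, e1⟩, ⟨hv, e2⟩⟩)
  rwa [fr1.card_U h.odd1, fr2.card_U h.odd2] at h1

end Two

end Cfsg.Agent.StdRank2.L3W.Tab
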