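import Cfsg.Agent.StdRank2.L3W.TabMain

/-!
# The order and rank table for `L₃(q)`, wreath case: `htab`
-/

set_option autoImplicit false

namespace Cfsg.Agent.StdRank2.L3W.Tab

open Cfsg.Agent.StdRank2.OutL3Rel Cfsg.Agent.StdRank2.OutField Cfsg.Agent.StdRank2.OutL3Inv
open Cfsg.Agent.StdRank2.OutL3Je Cfsg.Agent.StdRank2.OutL3JeMain Cfsg.Agent.StdRank2.L3W6.Types
open Cfsg.Agent.StdRank2.L3W.Count Cfsg.Agent.StdRank2.L3W.Elem Cfsg.Agent.StdRank2.OutSplit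

variable {G : Type*} [Group G] {A1 A2 : Subgroup G} {F : Type*} [Field F]

/-- the pure graph type -/
def gm (F : Type*) [Field F] : Ty F := (1, -1)

theorem fx_one [Finite F] [CharP F 2] : fx (1 : F ≃+* F) = Nat.card F := by
  have : {x : F | (1 : F ≃+* F) x = x} = Set.univ := by
    ext x; exact ⟨fun _ => trivial, fun _ => rfl⟩
  rw [← ncard_fix, this, Set.ncard_univ]

/-! ### arithmetic -/

theorem num1 {q : ℕ} (hq : 4 ≤ q) (h : 2 * (q * (q * q)) ≤ (2 * q) * (2 * q)) : False := by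
  have h1 : (2 * q) * (2 * q) = 4 * (q * q) := by ring
  have h2 : 2 * (q * (q * q)) = (2 * q) * (q * q) := by ring
  rw [h1, h2] at h
  have h3 : 0 < q * q := Nat.mul_pos (by omega) (by omega)
  have h4 := Nat.le_of_mul_le_mul_right h h3
  omega

theorem num2 {q f : ℕ} (hq : 4 ≤ q) (hf : f * f = q) (h : 2 * (f * (q * q)) ≤ (2 * f) * (2 * f)) : False := by
  have hf0 : 0 < f := by
    rcases Nat.eq_zero_or_pos f with h0 | h0
    · rw [h0] at hf; omega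
    · exact h0
  have h1 : (2 * f) * (2 * f) = (4 * f) * f := by ring
  have h2 : 2 * (f * (q * q)) = (2 * (q * q)) * f := by ring
  rw [h1, h2] at h
  have h4 := Nat.le_of_mul_le_mul_right h hf0
  have h5 : f ≤ q := by rw [← hf]; exact Nat.le_mul_of_pos_left f hf0
  have h6 : 4 * q ≤ q * q := Nat.mul_le_mul_right q hq
  omega

/-- `q⁶ |S| ≤ q² |S| J1 J2` gives `q⁴ ≤ J1 J2` -/
theorem num3 {q s c j1 j2 c1 c2 : ℕ} (hq : 4 ≤ q) (hs : 0 < s) (h1 : s ≤ c * (j1 * j2))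
    (h2 : c * (q ^ 3 * q ^ 3) ≤ c1 * c2 * s) (hc1 : c1 ≤ q) (hc2 : c2 ≤ q) : q ^ 4 ≤ j1 * j2 := by
  have h3 : c1 * c2 * s ≤ q * q * s := Nat.mul_le_mul_right s (Nat.mul_le_mul hc1 hc2)
  have h4 : (q ^ 4) * (q * q * s) ≤ (j1 * j2) * (q * q * s) := by
    calc (q ^ 4) * (q * q * s) = (q ^ 3 * q ^ 3) * s := by ring
      _ ≤ (q ^ 3 * q ^ 3) * (c * (j1 * j2)) := Nat.mul_le_mul_left _ h1
      _ = (c * (q ^ 3 * q ^ 3)) * (j1 * j2) := by ring
      _ ≤ (q * q * s) * (j1 * j2) := Nat.mul_le_mul_right _ (h2.trans h3)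
      _ = (j1 * j2) * (q * q * s) := by ring
  refine Nat.le_of_mul_le_mul_right h4 ?_
  exact Nat.mul_pos (Nat.mul_pos (by omega) (by omega)) hs

theorem num4 {q f j1 j2 : ℕ} (hq : 4 ≤ q) (hf : f * f = q) (h : q ^ 4 ≤ j1 * j2) (h1 : j1 ≤ f * f * f)
    (h2 : j2 + q ≤ 2 * q * q) : False := by
  have hf2 : 2 ≤ f := by
    by_contra hcon
    have h5 : f ≤ 1 := by omega
    have h6 : f * f ≤ 1 * 1 := Nat.mul_le_mul h5 h5
    omega
  have h3 : j2 < 2 * q * q := by omega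
  have h4 : j1 * j2 < (f * f * f) * (2 * q * q) := by
    calc j1 * j2 ≤ (f * f * f) * j2 := Nat.mul_le_mul_right _ h1
      _ < (f * f * f) * (2 * q * q) := Nat.mul_lt_mul_of_pos_left h3 (by positivity)
  have h5 : (f * f * f) * (2 * q * q) ≤ q ^ 4 := by
    calc (f * f * f) * (2 * q * q) = (2 * f) * (f * f) * (q * q) := by ring
      _ = (2 * f) * q * (q * q) := by rw [hf]
      _ ≤ (f * f) * q * (q * q) :=
          Nat.mul_le_mul_right _ (Nat.mul_le_mul_right _ (Nat.mul_le_mul_right _ hf2))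
      _ = q ^ 4 := by rw [hf]; ring
  omega

theorem num5 {q f j1 j2 : ℕ} (hq : 4 ≤ q) (hf : f * f = q) (h : q ^ 4 ≤ j1 * j2) (h1 : j1 ≤ f * f * f)
    (h2 : j2 ≤ f * f * f) : False := by
  have h3 : j1 * j2 ≤ (f * f * f) * (f * f * f) := Nat.mul_le_mul h1 h2
  have h4 : (f * f * f) * (f * f * f) = q ^ 3 := by
    rw [← hf]; ring
  have h5 : q ^ 3 < q ^ 4 := Nat.pow_lt_pow_right (by omega) (by omega)
  omega

theorem num6 {q f s c j1 j2 c1 c2 : ℕ} (hq : 4 ≤ q) (hf : f * f = q) (hs : 0 < s) (h1 : s ≤ c * (j1 * j2))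
    (hj1 : j1 ≤ f * f * f) (hj2 : j2 ≤ f * f * f)
    (h2 : c * (q ^ 3 * q ^ 3) ≤ c1 * c2 * s) (hc1 : c1 ≤ f * f * f) (hc2 : c2 ≤ q) : False := by
  have hf2 : 2 ≤ f := by
    by_contra hcon
    have h5 : f ≤ 1 := by omega
    have h6 : f * f ≤ 1 * 1 := Nat.mul_le_mul h5 h5
    omega
  have h3 : s * (q ^ 3 * q ^ 3) ≤ s * (f ^ 11) := by
    calc s * (q ^ 3 * q ^ 3) ≤ (c * (j1 * j2)) * (q ^ 3 * q ^ 3) := Nat.mul_le_mul_right _ h1
      _ ≤ (c * ((f * f * f) * (f * f * f))) * (q ^ 3 * q ^ 3) :=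
          Nat.mul_le_mul_right _ (Nat.mul_le_mul_left _ (Nat.mul_le_mul hj1 hj2))
      _ = (c * (q ^ 3 * q ^ 3)) * ((f * f * f) * (f * f * f)) := by ring
      _ ≤ (c1 * c2 * s) * ((f * f * f) * (f * f * f)) := Nat.mul_le_mul_right _ h2
      _ ≤ ((f * f * f) * (f * f) * s) * ((f * f * f) * (f * f * f)) :=
          Nat.mul_le_mul_right _ (Nat.mul_le_mul_right _ (Nat.mul_le_mul hc1 (by rw [hf]; exact hc2)))
      _ = s * (f ^ 11) := by ring
  have h4 := Nat.le_of_mul_le_mul_left h3 hs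
  have h5 : q ^ 3 * q ^ 3 = f ^ 12 := by rw [← hf]; ring
  rw [h5] at h4
  have h6 : f ^ 11 < f ^ 12 := Nat.pow_lt_pow_right (by omega) (by omega)
  omega

section Single

variable [Finite G] [Finite F] [CharP F 2] {fr : FrameL3 A1 F} {S : Subgroup G}

/-- the bound for `J` in the presence of a field part -/
theorem J_field (hZ : Odd (Nat.card (Subgroup.center ↥A1))) (hA : _root_.commutator ↥A1 = ⊤)
    (hS : S ≤ Subgroup.normalizer (A1 : Set G)) (had : Adapted fr S) {x : G} (hx : x ∈ S) (hxx : x * x = 1)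
    (h1 : (om fr x).1 ≠ 1) : (J fr x).ncard ≤ fx (om fr x).1 * fx (om fr x).1 * fx (om fr x).1 := by
  have hxc : x * x ∈ Subgroup.centralizer (A1 : Set G) := by rw [hxx]; exact one_mem _
  rcases units_cases (om fr x).2 with h | h
  · exact J_ft hZ hA (hS hx) hxc (ft_of_om had hS hx (Prod.ext rfl h))
  · have h2 : om fr x * om fr x = 1 := by rw [← om_mul fr (hS hx) (hS hx), hxx, om_one]
    rw [fx_sq (congrArg Prod.fst h2) h1]
    exact J_gt hZ hA (hS hx) hxc (gt_of_om had hS hx (Prod.ext rfl h))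

/-- the bound for `C` in the presence of a field part -/
theorem C_field (hZ : Odd (Nat.card (Subgroup.center ↥A1)))
    (hS : S ≤ Subgroup.normalizer (A1 : Set G)) (had : Adapted fr S) {x : G} (hx : x ∈ S) (hxx : x * x = 1)
    (h1 : (om fr x).1 ≠ 1) : (C fr x).ncard ≤ fx (om fr x).1 * fx (om fr x).1 * fx (om fr x).1 := by
  rcases units_cases (om fr x).2 with h | h
  · exact C_ft hZ (ft_of_om had hS hx (Prod.ext rfl h))
  · have h2 : om fr x * om fr x = 1 := by rw [← om_mul fr (hS hx) (hS hx), hxx, om_one]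
    rw [fx_sq (congrArg Prod.fst h2) h1]
    exact C_gt hZ (gt_of_om had hS hx (Prod.ext rfl h))

/-- the bound for `J` without field part -/
theorem J_nofield (hZ : Odd (Nat.card (Subgroup.center ↥A1))) (hA : _root_.commutator ↥A1 = ⊤)
    (hS : S ≤ Subgroup.normalizer (A1 : Set G)) (had : Adapted fr S) {x : G} (hx : x ∈ S) (hxx : x * x = 1)
    (h1 : (om fr x).1 = 1) : (J fr x).ncard + Nat.card F ≤ 2 * Nat.card F * Nat.card F := by
  have hxc : x * x ∈ Subgroup.centralizer (A1 : Set G) := by rw [hxx]; exact one_mem _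
  rcases units_cases (om fr x).2 with h | h
  · exact J_one hZ hA (hS hx) hxc (ft_of_om had hS hx (Prod.ext h1 h))
  · have h3 := J_gt_one hZ hA (hS hx) hxc (gt_of_om had hS hx (Prod.ext h1 h))
    have h4 : 1 ≤ Nat.card F := Nat.card_pos
    have h5 : Nat.card F ≤ Nat.card F * Nat.card F := Nat.le_mul_of_pos_left _ h4
    have h6 : 2 * Nat.card F * Nat.card F = Nat.card F * Nat.card F + Nat.card F * Nat.card F := by ring
    omega

end Single

/-- transport of an elementary abelian subgroup -/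
theorem move {S X : Subgroup G} {x y g : G} (hX : X ≤ cen S x) (hx : x ∈ X) (hX2 : ∀ z ∈ X, z * z = 1)
    (hxe : x = g⁻¹ * y * g) (hmap : ∀ z ∈ cen S x, g * z * g⁻¹ ∈ cen S y) :
    ∃ X' : Subgroup G, X' ≤ S ∧ y ∈ X' ∧ (∀ z ∈ X', z * z = 1) ∧ Nat.card X' = Nat.card X := by
  refine ⟨X.map (MulAut.conj g).toMonoidHom, ?_, ?_, ?_, ?_⟩
  · rintro _ ⟨z, hz, rfl⟩
    exact (mem_cen.1 (hmap z (hX hz))).1
  · refine ⟨x, hx, ?_⟩
    show g * x * g⁻¹ = y
    rw [hxe]; group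
  · rintro _ ⟨z, hz, rfl⟩
    show g * z * g⁻¹ * (g * z * g⁻¹) = 1
    calc g * z * g⁻¹ * (g * z * g⁻¹) = g * (z * z) * g⁻¹ := by group
      _ = 1 := by rw [hX2 z hz]; group
  · exact Subgroup.card_map_of_injective (MulEquiv.injective _)

namespace Two

variable {fr1 : FrameL3 A1 F} {fr2 : FrameL3 A2 F} {S : Subgroup G}
variable [Finite G] [Finite F] [CharP F 2] (h : Two fr1 fr2 S)
include h

/-- types `(γ, γ)` against `(γ, 1)` -/
theorem rank_gm (hq : 4 ≤ Nat.card F) {x y g : G} (hx : x ∈ S) (hxx : x * x = 1)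
    (hxe : x = g⁻¹ * y * g) (hmap : ∀ z ∈ cen S x, g * z * g⁻¹ ∈ cen S y)
    (hy1 : om fr1 y = gm F) (hy2 : om fr2 y = gm F) (hx1 : om fr1 x = gm F) (hx2 : om fr2 x = 1) : False := by
  obtain ⟨W, hW, hW2, hWx, hWc⟩ := exists_gt h.odd1 (gt_of_om h.ad1 h.norm1 hx hx1)
  obtain ⟨V, hV, hV2, hVx, hVc⟩ := exists_one h.odd2 h.perf2 (h.norm2 hx) hxx (ft_of_om h.ad2 h.norm2 hx hx2)
  obtain ⟨X, hXc, hxX, hX2, hXcard⟩ := h.exists_big hx hxx (by
    rw [hx1]; intro he; exact absurd (congrArg Prod.snd he) (by show ¬ ((-1 : ℤˣ) = 1); decide)) hW hV hW2 hV2 hWx hVx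
  obtain ⟨X', hXS, hyX, hX'2, hcard⟩ := move hXc hxX hX2 hxe hmap
  obtain ⟨W1, W2, hU1, hU2, hs1, hs2, hc1, hc2, hbound⟩ := h.exists_parts hXS hX'2
  have b1 := bound_gt_one h.odd1 h.ad1 h.norm1 hXS hX'2 hU1 hs1 hc1 hq hyX hy1
  have b2 := bound_gt_one h.odd2 h.ad2 h.norm2 hXS hX'2 hU2 hs2 hc2 hq hyX hy2
  rw [fx_one] at hWc
  apply num1 hq
  calc 2 * (Nat.card F * (Nat.card F * Nat.card F)) ≤ 2 * (Nat.card W * Nat.card V) :=
        Nat.mul_le_mul_left _ (Nat.mul_le_mul hWc hVc)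
    _ ≤ Nat.card X := hXcard
    _ = Nat.card X' := hcard.symm
    _ ≤ _ := hbound
    _ ≤ (2 * Nat.card F) * (2 * Nat.card F) := Nat.mul_le_mul b1 b2

/-- types `(φ, φ)` against `(φ, 1)` -/
theorem rank_ft (hq : 4 ≤ Nat.card F) {x y g : G} (hx : x ∈ S) (hxx : x * x = 1)
    (hxe : x = g⁻¹ * y * g) (hmap : ∀ z ∈ cen S x, g * z * g⁻¹ ∈ cen S y) {σ : F ≃+* F} (hσ1 : σ ≠ 1)
    (hσσ : σ * σ = 1)
    (hy1 : om fr1 y = (σ, 1)) (hy2 : om fr2 y = (σ, 1)) (hx1 : om fr1 x = (σ, 1)) (hx2 : om fr2 x = 1) : False := by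
  obtain ⟨W, hW, hW2, hWx, hWc⟩ := exists_ft h.odd1 h.perf1 (h.norm1 hx) (by rw [hxx]; exact one_mem _) hσ1
    (ft_of_om h.ad1 h.norm1 hx hx1)
  obtain ⟨V, hV, hV2, hVx, hVc⟩ := exists_one h.odd2 h.perf2 (h.norm2 hx) hxx (ft_of_om h.ad2 h.norm2 hx hx2)
  obtain ⟨X, hXc, hxX, hX2, hXcard⟩ := h.exists_big hx hxx (by
    rw [hx1]; intro he; exact hσ1 (congrArg Prod.fst he)) hW hV hW2 hV2 hWx hVx
  obtain ⟨X', hXS, hyX, hX'2, hcard⟩ := move hXc hxX hX2 hxe hmap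
  obtain ⟨W1, W2, hU1, hU2, hs1, hs2, hc1, hc2, hbound⟩ := h.exists_parts hXS hX'2
  have b1 := bound_ft h.odd1 h.ad1 h.norm1 hXS hX'2 hU1 hs1 hc1 hq hyX hσ1 hy1
  have b2 := bound_ft h.odd2 h.ad2 h.norm2 hXS hX'2 hU2 hs2 hc2 hq hyX hσ1 hy2
  rw [fx_sq hσσ hσ1] at hWc
  apply num1 hq
  calc 2 * (Nat.card F * (Nat.card F * Nat.card F)) ≤ 2 * (Nat.card W * Nat.card V) :=
        Nat.mul_le_mul_left _ (Nat.mul_le_mul hWc hVc)
    _ ≤ Nat.card X := hXcard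
    _ = Nat.card X' := hcard.symm
    _ ≤ _ := hbound
    _ ≤ (2 * Nat.card F) * (2 * Nat.card F) := Nat.mul_le_mul b1 b2

/-- types `(φγ, φγ)` against `(φγ, 1)` -/
theorem rank_gt (hq : 4 ≤ Nat.card F) {x y g : G} (hx : x ∈ S) (hxx : x * x = 1)
    (hxe : x = g⁻¹ * y * g) (hmap : ∀ z ∈ cen S x, g * z * g⁻¹ ∈ cen S y) {σ : F ≃+* F} (hσ1 : σ ≠ 1)
    (hσσ : σ * σ = 1)
    (hT : ∀ z ∈ S, z * z = 1 → (om fr1 z = 1 ∨ om fr1 z = (σ, -1)) ∧ (om fr2 z = 1 ∨ om fr2 z = (σ, -1)))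
    (hy1 : om fr1 y = (σ, -1)) (hy2 : om fr2 y = (σ, -1)) (hx1 : om fr1 x = (σ, -1)) (hx2 : om fr2 x = 1) :
    False := by
  obtain ⟨W, hW, hW2, hWx, hWc⟩ := exists_gt h.odd1 (gt_of_om h.ad1 h.norm1 hx hx1)
  obtain ⟨V, hV, hV2, hVx, hVc⟩ := exists_one h.odd2 h.perf2 (h.norm2 hx) hxx (ft_of_om h.ad2 h.norm2 hx hx2)
  obtain ⟨X, hXc, hxX, hX2, hXcard⟩ := h.exists_big hx hxx (by
    rw [hx1]; intro he; exact hσ1 (congrArg Prod.fst he)) hW hV hW2 hV2 hWx hVx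
  obtain ⟨X', hXS, hyX, hX'2, hcard⟩ := move hXc hxX hX2 hxe hmap
  obtain ⟨W1, W2, hU1, hU2, hs1, hs2, hc1, hc2, hbound⟩ := h.exists_parts hXS hX'2
  have b1 := bound_gt h.odd1 h.ad1 h.norm1 hXS hX'2 hU1 hs1 hc1 hyX hy1 (fun z hz => (hT z (hXS hz) (hX'2 z hz)).1)
  have b2 := bound_gt h.odd2 h.ad2 h.norm2 hXS hX'2 hU2 hs2 hc2 hyX hy2 (fun z hz => (hT z (hXS hz) (hX'2 z hz)).2)
  apply num2 hq (fx_sq hσσ hσ1)
  calc 2 * (fx σ * (Nat.card F * Nat.card F)) ≤ 2 * (Nat.card W * Nat.card V) :=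
        Nat.mul_le_mul_left _ (Nat.mul_le_mul hWc hVc)
    _ ≤ Nat.card X := hXcard
    _ = Nat.card X' := hcard.symm
    _ ≤ _ := hbound
    _ ≤ (2 * fx σ) * (2 * fx σ) := Nat.mul_le_mul b1 b2

/-! ### the types of involutions -/

/-- `c` occurs as the type `(c, c)` -/
def D (fr1 : FrameL3 A1 F) (fr2 : FrameL3 A2 F) (S : Subgroup G) (c : Ty F) : Prop :=
  ∃ z ∈ S, om fr1 z = c ∧ om fr2 z = c

omit [Finite G] in
theorem D_mul {c d : Ty F} (hc : D fr1 fr2 S c) (hd : D fr1 fr2 S d) : D fr1 fr2 S (c * d) := by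
  obtain ⟨z, hz, e1, e2⟩ := hc
  obtain ⟨w, hw, e3, e4⟩ := hd
  exact ⟨z * w, mul_mem hz hw, by rw [om_mul fr1 (h.norm1 hz) (h.norm1 hw), e1, e3],
    by rw [om_mul fr2 (h.norm2 hz) (h.norm2 hw), e2, e4]⟩

omit [Finite G] in
theorem diag_eq {s c : Ty F} (hD : D fr1 fr2 S s) (hg : ¬ D fr1 fr2 S (gm F)) (hs : s * s = 1) (hs1 : s.1 ≠ 1)
    (hc : D fr1 fr2 S c) (hcc : c * c = 1) : c = 1 ∨ c = s := by
  by_cases h1 : c.1 = 1
  · left
    rcases units_cases c.2 with h2 | h2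
    · exact Prod.ext h1 h2
    · exfalso
      apply hg
      have : c = gm F := Prod.ext h1 h2
      rwa [this] at hc
  · right
    have h2 : c.1 = s.1 := unique_invol (congrArg Prod.fst hcc) (congrArg Prod.fst hs) h1 hs1
    by_contra hne
    apply hg
    have h3 : c * s = gm F := by
      refine Prod.ext ?_ ?_
      · show c.1 * s.1 = 1
        rw [h2]; exact congrArg Prod.fst hs
      · show c.2 * s.2 = -1
        have h4 : c.2 ≠ s.2 := fun e => hne (Prod.ext h2 e)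
        rcases units_cases c.2 with e | e <;> rcases units_cases s.2 with e' | e' <;> rw [e, e'] at h4 ⊢ <;>
          first | rfl | exact absurd rfl h4
    rw [← h3]
    exact h.D_mul hc hD

omit [Finite G] in
theorem mixed_eq {s : Ty F} (hD : D fr1 fr2 S s) (hg : ¬ D fr1 fr2 S (gm F)) (hs : s * s = 1) (hs1 : s.1 ≠ 1)
    (hsw : ∀ z ∈ S, ∃ z' ∈ S, om fr1 z' = om fr2 z ∧ om fr2 z' = om fr1 z) {z : G} (hz : z ∈ S) (hzz : z * z = 1) :
    om fr1 z * om fr2 z = 1 ∨ om fr1 z * om fr2 z = s := by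
  have e1 : om fr1 z * om fr1 z = 1 := by rw [← om_mul fr1 (h.norm1 hz) (h.norm1 hz), hzz, om_one]
  have e2 : om fr2 z * om fr2 z = 1 := by rw [← om_mul fr2 (h.norm2 hz) (h.norm2 hz), hzz, om_one]
  obtain ⟨z', hz', e3, e4⟩ := hsw z hz
  refine h.diag_eq hD hg hs hs1 ⟨z * z', mul_mem hz hz', ?_, ?_⟩ ?_
  · rw [om_mul fr1 (h.norm1 hz) (h.norm1 hz'), e3]
  · rw [om_mul fr2 (h.norm2 hz) (h.norm2 hz'), e4, ty_comm]
  · calc om fr1 z * om fr2 z * (om fr1 z * om fr2 z) = om fr1 z * (om fr2 z * om fr1 z) * om fr2 z := by group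
      _ = om fr1 z * (om fr1 z * om fr2 z) * om fr2 z := by rw [ty_comm (om fr2 z)]
      _ = (om fr1 z * om fr1 z) * (om fr2 z * om fr2 z) := by group
      _ = 1 := by rw [e1, e2, mul_one]

omit [Finite G] in
/-- if `(s, 1)` occurs, the types of all involutions have components in `{1, s}` -/
theorem types_of {s : Ty F} (hD : D fr1 fr2 S s) (hg : ¬ D fr1 fr2 S (gm F)) (hs : s * s = 1) (hs1 : s.1 ≠ 1)
    (hsw : ∀ z ∈ S, ∃ z' ∈ S, om fr1 z' = om fr2 z ∧ om fr2 z' = om fr1 z) {x : G} (hx : x ∈ S)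
    (hx1 : om fr1 x = s) (hx2 : om fr2 x = 1) {z : G} (hz : z ∈ S) (hzz : z * z = 1) :
    (om fr1 z = 1 ∨ om fr1 z = s) ∧ (om fr2 z = 1 ∨ om fr2 z = s) := by
  have e1 : om fr1 z * om fr1 z = 1 := by rw [← om_mul fr1 (h.norm1 hz) (h.norm1 hz), hzz, om_one]
  have e2 : om fr2 z * om fr2 z = 1 := by rw [← om_mul fr2 (h.norm2 hz) (h.norm2 hz), hzz, om_one]
  rcases h.mixed_eq hD hg hs hs1 hsw hz hzz with e | e
  · have e3 : om fr2 z = om fr1 z := by
      calc om fr2 z = (om fr1 z * om fr1 z) * om fr2 z := by rw [e1, one_mul]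
        _ = om fr1 z * (om fr1 z * om fr2 z) := by rw [mul_assoc]
        _ = om fr1 z := by rw [e, mul_one]
    have h4 := h.diag_eq hD hg hs hs1 ⟨z, hz, rfl, e3⟩ e1
    exact ⟨h4, by rw [e3]; exact h4⟩
  · have e3 : om fr2 z = om fr1 z * s := by
      calc om fr2 z = (om fr1 z * om fr1 z) * om fr2 z := by rw [e1, one_mul]
        _ = om fr1 z * (om fr1 z * om fr2 z) := by rw [mul_assoc]
        _ = om fr1 z * s := by rw [e]
    have h5 : (om fr1 z * s) * (om fr1 z * s) = 1 := by rw [← e3]; exact e2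
    have h4 := h.diag_eq hD hg hs hs1 (c := om fr1 z * s) ⟨x * z, mul_mem hx hz, by
      rw [om_mul fr1 (h.norm1 hx) (h.norm1 hz), hx1, ty_comm], by
      rw [om_mul fr2 (h.norm2 hx) (h.norm2 hz), hx2, one_mul, e3]⟩ h5
    refine ⟨?_, by rw [e3]; exact h4⟩
    rcases h4 with h4 | h4
    · right
      calc om fr1 z = om fr1 z * (s * s) := by rw [hs, mul_one]
        _ = (om fr1 z * s) * s := by rw [mul_assoc]
        _ = s := by rw [h4, one_mul]
    · left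
      calc om fr1 z = om fr1 z * (s * s) := by rw [hs, mul_one]
        _ = (om fr1 z * s) * s := by rw [mul_assoc]
        _ = 1 := by rw [h4, hs]

/-- case `s = γ`, the second type without field part -/
theorem caseA (hq : 4 ≤ Nat.card F) {x y g : G} (hy : y ∈ S) (hyy : y * y = 1) (hx : x ∈ S) (hxx : x * x = 1)
    (hxe : x = g⁻¹ * y * g) (hmap : ∀ z ∈ cen S x, g * z * g⁻¹ ∈ cen S y)
    (hcard : Nat.card (cen S x) = Nat.card (cen S y))
    (hy1 : om fr1 y = gm F) (hy2 : om fr2 y = gm F) (hne : om fr1 x ≠ om fr2 x) (hx2 : (om fr2 x).1 = 1) : False := by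
  have hS0 : 0 < Nat.card S := Nat.card_pos
  have k1 := h.card_le_cen hx hxx
  have k2 := h.cen_le hy
  rw [← hcard] at k2
  have k3 := C_gt_one h.odd1 h.perf1 (h.norm1 hy) (by rw [hyy]; exact one_mem _) (gt_of_om h.ad1 h.norm1 hy hy1)
  have k4 := C_gt_one h.odd2 h.perf2 (h.norm2 hy) (by rw [hyy]; exact one_mem _) (gt_of_om h.ad2 h.norm2 hy hy2)
  have k5 := num3 hq hS0 k1 k2 k3 k4
  have j2 := J_nofield h.odd2 h.perf2 h.norm2 h.ad2 hx hxx hx2
  by_cases hx1 : (om fr1 x).1 = 1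
  · rcases units_cases (om fr1 x).2 with e | e <;> rcases units_cases (om fr2 x).2 with e' | e'
    · exact hne (Prod.ext (hx1.trans hx2.symm) (e.trans e'.symm))
    · exact h.symm.rank_gm hq hx hxx hxe hmap hy2 hy1 (Prod.ext hx2 e') (Prod.ext hx1 e)
    · exact h.rank_gm hq hx hxx hxe hmap hy1 hy2 (Prod.ext hx1 e) (Prod.ext hx2 e')
    · exact hne (Prod.ext (hx1.trans hx2.symm) (e.trans e'.symm))
  · have e1 : om fr1 x * om fr1 x = 1 := by rw [← om_mul fr1 (h.norm1 hx) (h.norm1 hx), hxx, om_one]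
    exact num4 hq (fx_sq (congrArg Prod.fst e1) hx1) k5
      (J_field h.odd1 h.perf1 h.norm1 h.ad1 hx hxx hx1) j2

/-- case `s ≠ γ` -/
theorem caseB (hq : 4 ≤ Nat.card F) {x y g : G} (hy : y ∈ S) (hyy : y * y = 1) (hx : x ∈ S) (hxx : x * x = 1)
    (hxe : x = g⁻¹ * y * g) (hmap : ∀ z ∈ cen S x, g * z * g⁻¹ ∈ cen S y)
    (hcard : Nat.card (cen S x) = Nat.card (cen S y)) {s : Ty F} (hs1 : s.1 ≠ 1) (hs : s * s = 1)
    (hg : ¬ D fr1 fr2 S (gm F)) (hsw : ∀ z ∈ S, ∃ z' ∈ S, om fr1 z' = om fr2 z ∧ om fr2 z' = om fr1 z)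
    (hy1 : om fr1 y = s) (hy2 : om fr2 y = s) (hne : om fr1 x ≠ om fr2 x) (hx2 : (om fr2 x).1 = 1) : False := by
  have hD : D fr1 fr2 S s := ⟨y, hy, hy1, hy2⟩
  have e1 : om fr1 x * om fr1 x = 1 := by rw [← om_mul fr1 (h.norm1 hx) (h.norm1 hx), hxx, om_one]
  have e2 : om fr2 x * om fr2 x = 1 := by rw [← om_mul fr2 (h.norm2 hx) (h.norm2 hx), hxx, om_one]
  have hprod : om fr1 x * om fr2 x = s := by
    refine (h.mixed_eq hD hg hs hs1 hsw hx hxx).resolve_left (fun e => hne ?_)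
    calc om fr1 x = om fr1 x * (om fr2 x * om fr2 x) := by rw [e2, mul_one]
      _ = (om fr1 x * om fr2 x) * om fr2 x := by rw [mul_assoc]
      _ = om fr2 x := by rw [e, one_mul]
  have hx1 : om fr1 x = s * om fr2 x := by
    calc om fr1 x = om fr1 x * (om fr2 x * om fr2 x) := by rw [e2, mul_one]
      _ = (om fr1 x * om fr2 x) * om fr2 x := by rw [mul_assoc]
      _ = s * om fr2 x := by rw [hprod]
  have hσσ : s.1 * s.1 = 1 := congrArg Prod.fst hs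
  rcases units_cases (om fr2 x).2 with e' | e'
  · -- types `(s, 1)`
    have hx2' : om fr2 x = 1 := Prod.ext hx2 e'
    rw [hx2', mul_one] at hx1
    rcases units_cases s.2 with e | e
    · have hse : s = (s.1, 1) := Prod.ext rfl e
      rw [hse] at hy1 hy2 hx1
      exact h.rank_ft hq hx hxx hxe hmap hs1 hσσ hy1 hy2 hx1 hx2'
    · have hse : s = (s.1, -1) := Prod.ext rfl e
      have hT : ∀ z ∈ S, z * z = 1 → (om fr1 z = 1 ∨ om fr1 z = (s.1, -1)) ∧ (om fr2 z = 1 ∨ om fr2 z = (s.1, -1)) := by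
        intro z hz hzz
        have := h.types_of hD hg hs hs1 hsw hx hx1 hx2' hz hzz
        rwa [← hse]
      rw [hse] at hy1 hy2 hx1
      exact h.rank_gt hq hx hxx hxe hmap hs1 hσσ hT hy1 hy2 hx1 hx2'
  · -- types `(s γ, γ)`
    have hx2' : om fr2 x = gm F := Prod.ext hx2 e'
    have hx1' : (om fr1 x).1 = s.1 := by
      rw [hx1]
      show s.1 * (om fr2 x).1 = s.1
      rw [hx2, mul_one]
    have hS0 : 0 < Nat.card S := Nat.card_pos
    have k1 := h.card_le_cen hy hyy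
    have k2 := h.cen_le hx
    rw [hcard] at k2
    have hy1' : (om fr1 y).1 = s.1 := by rw [hy1]
    have hy2' : (om fr2 y).1 = s.1 := by rw [hy2]
    have k3 := J_field h.odd1 h.perf1 h.norm1 h.ad1 hy hyy (by rw [hy1']; exact hs1)
    have k4 := J_field h.odd2 h.perf2 h.norm2 h.ad2 hy hyy (by rw [hy2']; exact hs1)
    have k5 := C_field h.odd1 h.norm1 h.ad1 hx hxx (by rw [hx1']; exact hs1)
    rw [hy1'] at k3
    rw [hy2'] at k4
    rw [hx1'] at k5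
    have k6 := C_gt_one h.odd2 h.perf2 (h.norm2 hx) (by rw [hxx]; exact one_mem _) (gt_of_om h.ad2 h.norm2 hx hx2')
    exact num6 hq (fx_sq hσσ hs1) hS0 k1 k3 k4 k2 k5 k6

/-- **The table.** -/
theorem htab (hq : 4 ≤ Nat.card F) {y g : G} (hy : y ∈ S) (hyy : y * y = 1) (hs1 : om fr1 y ≠ 1)
    (hy12 : om fr2 y = om fr1 y) (hg : D fr1 fr2 S (gm F) → om fr1 y = gm F)
    (hsw : ∀ z ∈ S, ∃ z' ∈ S, om fr1 z' = om fr2 z ∧ om fr2 z' = om fr1 z)
    (hx : g⁻¹ * y * g ∈ S) (hne : om fr1 (g⁻¹ * y * g) ≠ om fr2 (g⁻¹ * y * g)) :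
    (cen S y).map (MulAut.conj g⁻¹).toMonoidHom ≠ cen S (g⁻¹ * y * g) := by
  intro heq
  obtain ⟨x, hxe⟩ : ∃ x, x = g⁻¹ * y * g := ⟨_, rfl⟩
  rw [← hxe] at hx hne heq
  have hxx : x * x = 1 := by
    rw [hxe]
    calc g⁻¹ * y * g * (g⁻¹ * y * g) = g⁻¹ * (y * y) * g := by group
      _ = 1 := by rw [hyy]; group
  have hmap : ∀ z ∈ cen S x, g * z * g⁻¹ ∈ cen S y := by
    intro z hz
    rw [← heq] at hz
    obtain ⟨w, hw, rfl⟩ := hz
    have e : g * (MulAut.conj g⁻¹).toMonoidHom w * g⁻¹ = w := by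
      show g * (g⁻¹ * w * g⁻¹⁻¹) * g⁻¹ = w
      group
    rw [e]; exact hw
  have hcard : Nat.card (cen S x) = Nat.card (cen S y) := by
    rw [← heq]
    exact Subgroup.card_map_of_injective (MulEquiv.injective _)
  have e1 : om fr1 x * om fr1 x = 1 := by rw [← om_mul fr1 (h.norm1 hx) (h.norm1 hx), hxx, om_one]
  have e2 : om fr2 x * om fr2 x = 1 := by rw [← om_mul fr2 (h.norm2 hx) (h.norm2 hx), hxx, om_one]
  have hss : om fr1 y * om fr1 y = 1 := by rw [← om_mul fr1 (h.norm1 hy) (h.norm1 hy), hyy, om_one]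
  by_cases hgm : D fr1 fr2 S (gm F)
  · have hy1 := hg hgm
    have hy2 : om fr2 y = gm F := hy12.trans hy1
    by_cases h2 : (om fr2 x).1 = 1
    · exact h.caseA hq hy hyy hx hxx hxe hmap hcard hy1 hy2 hne h2
    by_cases h1 : (om fr1 x).1 = 1
    · exact h.symm.caseA hq hy hyy hx hxx hxe hmap hcard hy2 hy1 (Ne.symm hne) h1
    -- both with field part
    have hS0 : 0 < Nat.card S := Nat.card_pos
    have k1 := h.card_le_cen hx hxx
    have k2 := h.cen_le hy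
    rw [← hcard] at k2
    have k3 := C_gt_one h.odd1 h.perf1 (h.norm1 hy) (by rw [hyy]; exact one_mem _) (gt_of_om h.ad1 h.norm1 hy hy1)
    have k4 := C_gt_one h.odd2 h.perf2 (h.norm2 hy) (by rw [hyy]; exact one_mem _) (gt_of_om h.ad2 h.norm2 hy hy2)
    have k5 := num3 hq hS0 k1 k2 k3 k4
    have k6 := J_field h.odd1 h.perf1 h.norm1 h.ad1 hx hxx h1
    have k7 := J_field h.odd2 h.perf2 h.norm2 h.ad2 hx hxx h2
    have h3 : (om fr2 x).1 = (om fr1 x).1 := unique_invol (congrArg Prod.fst e2) (congrArg Prod.fst e1) h2 h1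
    rw [h3] at k7
    exact num5 hq (fx_sq (congrArg Prod.fst e1) h1) k5 k6 k7
  · -- no `(γ, γ)`
    have hsf : (om fr1 y).1 ≠ 1 := by
      intro h1
      rcases units_cases (om fr1 y).2 with e | e
      · exact hs1 (Prod.ext h1 e)
      · exact hgm ⟨y, hy, Prod.ext h1 e, hy12.trans (Prod.ext h1 e)⟩
    by_cases h2 : (om fr2 x).1 = 1
    · exact h.caseB hq hy hyy hx hxx hxe hmap hcard hsf hss hgm hsw rfl hy12 hne h2
    by_cases h1 : (om fr1 x).1 = 1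
    · refine h.symm.caseB hq hy hyy hx hxx hxe hmap hcard hsf hss ?_ ?_ hy12 rfl (Ne.symm hne) h1
      · rintro ⟨z, hz, e3, e4⟩
        exact hgm ⟨z, hz, e4, e3⟩
      · intro z hz
        obtain ⟨z', hz', e3, e4⟩ := hsw z hz
        exact ⟨z', hz', e4, e3⟩
    -- both with field part: the product of the types has no field part
    have h3 : (om fr2 x).1 = (om fr1 x).1 := unique_invol (congrArg Prod.fst e2) (congrArg Prod.fst e1) h2 h1
    have h4 : (om fr1 x * om fr2 x).1 = 1 := by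
      show (om fr1 x).1 * (om fr2 x).1 = 1
      rw [h3]; exact congrArg Prod.fst e1
    rcases h.mixed_eq ⟨y, hy, rfl, hy12⟩ hgm hss hsf hsw hx hxx with e | e
    · apply hne
      calc om fr1 x = om fr1 x * (om fr2 x * om fr2 x) := by rw [e2, mul_one]
        _ = (om fr1 x * om fr2 x) * om fr2 x := by rw [mul_assoc]
        _ = om fr2 x := by rw [e, one_mul]
    · rw [e] at h4
      exact hsf h4

end Two

end Cfsg.Agent.StdRank2.L3W.Tab
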