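import Cfsg.Agent.StdRank2.L3W.Tab

/-!
# The order and rank table for `L₃(q)`, wreath case: the table
-/

set_option autoImplicit false

namespace Cfsg.Agent.StdRank2.L3W.Tab

open Cfsg.Agent.StdRank2.OutL3Rel Cfsg.Agent.StdRank2.OutField Cfsg.Agent.StdRank2.OutL3Inv
open Cfsg.Agent.StdRank2.OutL3Je Cfsg.Agent.StdRank2.OutL3JeMain Cfsg.Agent.StdRank2.L3W6.Types
open Cfsg.Agent.StdRank2.L3W.Count Cfsg.Agent.StdRank2.L3W.Elem Cfsg.Agent.StdRank2.OutSplit

variable {G : Type*} [Group G] {A1 A2 : Subgroup G} {F : Type*} [Field F]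

theorem comm_of_sq {X : Subgroup G} (h : ∀ x ∈ X, x * x = 1) {x y : G} (hx : x ∈ X) (hy : y ∈ X) :
    x * y = y * x := by
  have h1 := h _ (mul_mem hx hy)
  have h2 := h x hx
  have h3 := h y hy
  calc x * y = x * y * ((x * y) * (y * x)) := by
        rw [show (x * y) * (y * x) = 1 by
          calc (x * y) * (y * x) = x * (y * y) * x := by group
            _ = 1 := by rw [h3, mul_one, h2], mul_one]
    _ = (x * y) * (x * y) * (y * x) := by group
    _ = y * x := by rw [h1, one_mul]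

namespace Two

variable {fr1 : FrameL3 A1 F} {fr2 : FrameL3 A2 F} {S : Subgroup G}
variable [Finite G] [Finite F] [CharP F 2] (h : Two fr1 fr2 S)
include h

/-- **decomposition of an elementary abelian subgroup** -/
theorem exists_parts {X : Subgroup G} (hX : X ≤ S) (hX2 : ∀ x ∈ X, x * x = 1) :
    ∃ W1 W2 : Subgroup G, W1 ≤ fr1.U ∧ W2 ≤ fr2.U ∧ (∀ w ∈ W1, w * w = 1) ∧ (∀ w ∈ W2, w * w = 1) ∧
      (∀ x ∈ X, ∀ w ∈ W1, x * w = w * x) ∧ (∀ x ∈ X, ∀ w ∈ W2, x * w = w * x) ∧
      Nat.card X ≤ ((om fr1 '' (X : Set G)).ncard * Nat.card W1) * ((om fr2 '' (X : Set G)).ncard * Nat.card W2) := by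
  have hcU : ∀ a ∈ fr1.U, ∀ b ∈ fr2.U, a * b = b * a := fun a ha b hb => h.comm _ (fr1.U_le ha) _ (fr2.U_le hb)
  let W1 : Subgroup G :=
    { carrier := {v | v ∈ fr1.U ∧ ∃ v' ∈ fr2.U, v * v' ∈ X}
      one_mem' := ⟨one_mem _, 1, one_mem _, by rw [mul_one]; exact one_mem X⟩
      mul_mem' := by
        rintro a b ⟨ha, a', ha', haX⟩ ⟨hb, b', hb', hbX⟩
        refine ⟨mul_mem ha hb, a' * b', mul_mem ha' hb', ?_⟩
        have e : a * b * (a' * b') = (a * a') * (b * b') := by
          have := hcU b hb a' ha'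
          calc a * b * (a' * b') = a * (b * a') * b' := by group
            _ = a * (a' * b) * b' := by rw [this]
            _ = (a * a') * (b * b') := by group
        rw [e]; exact mul_mem haX hbX
      inv_mem' := by
        rintro a ⟨ha, a', ha', haX⟩
        refine ⟨inv_mem ha, a'⁻¹, inv_mem ha', ?_⟩
        have e : a⁻¹ * a'⁻¹ = (a * a')⁻¹ := by
          rw [hcU a ha a' ha', mul_inv_rev]
        rw [e]; exact inv_mem haX }
  let W2 : Subgroup G :=
    { carrier := {v' | v' ∈ fr2.U ∧ ∃ v ∈ fr1.U, v * v' ∈ X}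
      one_mem' := ⟨one_mem _, 1, one_mem _, by rw [mul_one]; exact one_mem X⟩
      mul_mem' := by
        rintro a' b' ⟨ha', a, ha, haX⟩ ⟨hb', b, hb, hbX⟩
        refine ⟨mul_mem ha' hb', a * b, mul_mem ha hb, ?_⟩
        have e : a * b * (a' * b') = (a * a') * (b * b') := by
          have := hcU b hb a' ha'
          calc a * b * (a' * b') = a * (b * a') * b' := by group
            _ = a * (a' * b) * b' := by rw [this]
            _ = (a * a') * (b * b') := by group
        rw [e]; exact mul_mem haX hbX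
      inv_mem' := by
        rintro a' ⟨ha', a, ha, haX⟩
        refine ⟨inv_mem ha', a⁻¹, inv_mem ha, ?_⟩
        have e : a⁻¹ * a'⁻¹ = (a * a')⁻¹ := by
          rw [hcU a ha a' ha', mul_inv_rev]
        rw [e]; exact inv_mem haX }
  have hcomp : ∀ a ∈ fr1.U, ∀ a' ∈ fr2.U, a * a' ∈ X → ∀ x ∈ X, a * x = x * a ∧ a' * x = x * a' := by
    intro a ha a' ha' haX x hx
    exact h.comp (hX hx) ha ha' (comm_of_sq hX2 haX hx)
  have hsq : ∀ a ∈ fr1.U, ∀ a' ∈ fr2.U, a * a' ∈ X → a * a = 1 ∧ a' * a' = 1 := by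
    intro a ha a' ha' haX
    have e := hX2 _ haX
    have e2 : a * a * (a' * a') = 1 * 1 := by
      have := hcU a ha a' ha'
      calc a * a * (a' * a') = a * (a * a') * a' := by group
        _ = a * (a' * a) * a' := by rw [this]
        _ = (a * a') * (a * a') := by group
        _ = 1 * 1 := by rw [e, mul_one]
    exact h.uniq (mul_mem ha ha) (one_mem _) (mul_mem ha' ha') (one_mem _) e2
  refine ⟨W1, W2, fun v hv => hv.1, fun v hv => hv.1, ?_, ?_, ?_, ?_, ?_⟩
  · rintro a ⟨ha, a', ha', haX⟩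
    exact (hsq a ha a' ha' haX).1
  · rintro a' ⟨ha', a, ha, haX⟩
    exact (hsq a ha a' ha' haX).2
  · rintro x hx a ⟨ha, a', ha', haX⟩
    exact (hcomp a ha a' ha' haX x hx).1.symm
  · rintro x hx a' ⟨ha', a, ha, haX⟩
    exact (hcomp a ha a' ha' haX x hx).2.symm
  · classical
    have := Fintype.ofFinite X
    have h1 := Finset.card_le_mul_card_image (f := fun x : X => (om fr1 (x : G), om fr2 (x : G))) Finset.univ
      (Nat.card W1 * Nat.card W2) (by
        intro p _
        have h2 : (Finset.univ.filter (fun x : X => (om fr1 (x : G), om fr2 (x : G)) = p)).card =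
            Nat.card {x : X // (om fr1 (x : G), om fr2 (x : G)) = p} := by
          rw [Nat.card_eq_fintype_card, Fintype.card_subtype]
        rw [h2, ← Nat.card_prod]
        by_cases hne : Nonempty {x : X // (om fr1 (x : G), om fr2 (x : G)) = p}
        · obtain ⟨⟨x0, hx0⟩⟩ := hne
          have hdec : ∀ x : {x : X // (om fr1 (x : G), om fr2 (x : G)) = p}, ∃ q : W1 × W2,
              (x0 : G)⁻¹ * (x.1 : G) = (q.1 : G) * q.2 := by
            rintro ⟨x, hx⟩
            have e := hx.trans hx0.symm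
            have e1 : om fr1 (x : G) = om fr1 (x0 : G) := congrArg Prod.fst e
            have e2 : om fr2 (x : G) = om fr2 (x0 : G) := congrArg Prod.snd e
            have hm : (x0 : G)⁻¹ * (x : G) ∈ X := mul_mem (inv_mem x0.2) x.2
            obtain ⟨v1, hv1, v2, hv2, e3⟩ := h.exists_mul (hX hm)
              (by rw [om_mul fr1 (inv_mem (h.norm1 (hX x0.2))) (h.norm1 (hX x.2)),
                om_inv fr1 (h.norm1 (hX x0.2)), e1, inv_mul_cancel])
              (by rw [om_mul fr2 (inv_mem (h.norm2 (hX x0.2))) (h.norm2 (hX x.2)),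
                om_inv fr2 (h.norm2 (hX x0.2)), e2, inv_mul_cancel])
            rw [e3] at hm
            exact ⟨(⟨v1, hv1, v2, hv2, hm⟩, ⟨v2, hv2, v1, hv1, hm⟩), e3⟩
          choose q hq using hdec
          refine Nat.card_le_card_of_injective q ?_
          intro x x' e
          have e1 := hq x
          rw [e, ← hq x'] at e1
          exact Subtype.ext (Subtype.ext (mul_left_cancel e1))
        · rw [not_nonempty_iff] at hne
          rw [Nat.card_of_isEmpty]
          exact Nat.zero_le _)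
    have h3 : (Finset.univ.image (fun x : X => (om fr1 (x : G), om fr2 (x : G)))).card ≤
        (om fr1 '' (X : Set G)).ncard * (om fr2 '' (X : Set G)).ncard := by
      rw [← Set.ncard_prod, ← Set.ncard_coe_finset]
      apply Set.ncard_le_ncard _ (Set.toFinite _)
      intro a ha
      obtain ⟨x, -, rfl⟩ := Finset.mem_image.1 (Finset.mem_coe.1 ha)
      exact ⟨⟨x, x.2, rfl⟩, ⟨x, x.2, rfl⟩⟩
    have h4 : (Finset.univ : Finset X).card = Nat.card X := by
      rw [Nat.card_eq_fintype_card]; rfl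
    rw [h4] at h1
    refine h1.trans ((Nat.mul_le_mul_left _ h3).trans (le_of_eq ?_))
    ring

/-- **large elementary abelian subgroups of a centraliser** -/
theorem exists_big {x : G} (hx : x ∈ S) (hxx : x * x = 1) (hx1 : om fr1 x ≠ 1) {W V : Subgroup G}
    (hW : W ≤ fr1.U) (hV : V ≤ fr2.U) (hW2 : ∀ w ∈ W, w * w = 1) (hV2 : ∀ w ∈ V, w * w = 1)
    (hWx : ∀ w ∈ W, w * x = x * w) (hVx : ∀ w ∈ V, w * x = x * w) :
    ∃ X : Subgroup G, X ≤ cen S x ∧ x ∈ X ∧ (∀ z ∈ X, z * z = 1) ∧ 2 * (Nat.card W * Nat.card V) ≤ Nat.card X := by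
  have hcU : ∀ a ∈ W, ∀ b ∈ V, a * b = b * a := fun a ha b hb =>
    h.comm _ (fr1.U_le (hW ha)) _ (fr2.U_le (hV hb))
  have hWV : ∀ a ∈ W, ∀ b ∈ V, (a * b) * x = x * (a * b) := by
    intro a ha b hb
    calc (a * b) * x = a * (b * x) := by group
      _ = (a * x) * b := by rw [hVx b hb]; group
      _ = x * (a * b) := by rw [hWx a ha]; group
  have hmulWV : ∀ a ∈ W, ∀ b ∈ V, ∀ a' ∈ W, ∀ b' ∈ V, a * b * (a' * b') = (a * a') * (b * b') := by
    intro a _ b hb a' ha' b' _
    have := hcU a' ha' b hb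
    calc a * b * (a' * b') = a * (b * a') * b' := by group
      _ = a * (a' * b) * b' := by rw [this]
      _ = (a * a') * (b * b') := by group
  have hsq : ∀ a ∈ W, ∀ b ∈ V, a * b * (a * b) = 1 := by
    intro a ha b hb
    rw [hmulWV a ha b hb a ha b hb, hW2 a ha, hV2 b hb, mul_one]
  let X : Subgroup G :=
    { carrier := {z | ∃ a ∈ W, ∃ b ∈ V, z = a * b ∨ z = x * (a * b)}
      one_mem' := ⟨1, one_mem _, 1, one_mem _, Or.inl (by rw [mul_one])⟩
      mul_mem' := by
        rintro _ _ ⟨a, ha, b, hb, rfl | rfl⟩ ⟨a', ha', b', hb', rfl | rfl⟩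
        · exact ⟨a * a', mul_mem ha ha', b * b', mul_mem hb hb', Or.inl (hmulWV a ha b hb a' ha' b' hb')⟩
        · refine ⟨a * a', mul_mem ha ha', b * b', mul_mem hb hb', Or.inr ?_⟩
          rw [← mul_assoc, hWV a ha b hb, mul_assoc, hmulWV a ha b hb a' ha' b' hb']
        · refine ⟨a * a', mul_mem ha ha', b * b', mul_mem hb hb', Or.inr ?_⟩
          rw [mul_assoc, hmulWV a ha b hb a' ha' b' hb']
        · refine ⟨a * a', mul_mem ha ha', b * b', mul_mem hb hb', Or.inl ?_⟩
          calc x * (a * b) * (x * (a' * b')) = x * ((a * b) * x) * (a' * b') := by group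
            _ = x * (x * (a * b)) * (a' * b') := by rw [hWV a ha b hb]
            _ = (x * x) * (a * b * (a' * b')) := by group
            _ = (a * a') * (b * b') := by rw [hxx, one_mul, hmulWV a ha b hb a' ha' b' hb']
      inv_mem' := by
        rintro _ ⟨a, ha, b, hb, rfl | rfl⟩
        · refine ⟨a, ha, b, hb, Or.inl ?_⟩
          exact inv_eq_of_mul_eq_one_right (hsq a ha b hb)
        · refine ⟨a, ha, b, hb, Or.inr ?_⟩
          apply inv_eq_of_mul_eq_one_right
          calc x * (a * b) * (x * (a * b)) = x * ((a * b) * x) * (a * b) := by group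
            _ = x * (x * (a * b)) * (a * b) := by rw [hWV a ha b hb]
            _ = (x * x) * (a * b * (a * b)) := by group
            _ = 1 := by rw [hxx, one_mul, hsq a ha b hb] }
  refine ⟨X, ?_, ⟨1, one_mem _, 1, one_mem _, Or.inr (by rw [mul_one, mul_one])⟩, ?_, ?_⟩
  · rintro _ ⟨a, ha, b, hb, rfl | rfl⟩
    · exact mem_cen.2 ⟨mul_mem (h.U1 (hW ha)) (h.U2 (hV hb)), hWV a ha b hb⟩
    · refine mem_cen.2 ⟨mul_mem hx (mul_mem (h.U1 (hW ha)) (h.U2 (hV hb))), ?_⟩
      rw [mul_assoc, hWV a ha b hb]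
  · rintro _ ⟨a, ha, b, hb, rfl | rfl⟩
    · exact hsq a ha b hb
    · calc x * (a * b) * (x * (a * b)) = x * ((a * b) * x) * (a * b) := by group
        _ = x * (x * (a * b)) * (a * b) := by rw [hWV a ha b hb]
        _ = (x * x) * (a * b * (a * b)) := by group
        _ = 1 := by rw [hxx, one_mul, hsq a ha b hb]
  · have hb2 : Nat.card Bool = 2 := by rw [Nat.card_eq_fintype_card, Fintype.card_bool]
    rw [← hb2, ← Nat.card_prod, ← Nat.card_prod]
    have hnot : ∀ a ∈ W, ∀ b ∈ V, ∀ a' ∈ W, ∀ b' ∈ V, a * b ≠ x * (a' * b') := by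
      intro a ha b hb a' ha' b' hb' e
      apply hx1
      have e2 : x = a * b * (a' * b')⁻¹ := by rw [e]; group
      have h5 : ∀ a ∈ W, ∀ b ∈ V, om fr1 (a * b) = 1 ∧ a * b ∈ Subgroup.normalizer (A1 : Set G) := by
        intro a ha b hb
        have n1 := Subgroup.le_normalizer (fr1.U_le (hW ha))
        have n2 := h.norm1 (h.U2 (hV hb))
        refine ⟨?_, mul_mem n1 n2⟩
        rw [om_mul fr1 n1 n2, om_mem fr1 (fr1.U_le (hW ha)), om_centralizer fr1 (h.cA1 (fr2.U_le (hV hb))) n2,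
          mul_one]
      rw [e2, om_mul fr1 (h5 a ha b hb).2 (inv_mem (h5 a' ha' b' hb').2), om_inv fr1 (h5 a' ha' b' hb').2,
        (h5 a ha b hb).1, (h5 a' ha' b' hb').1, inv_one, mul_one]
    refine Nat.card_le_card_of_injective (fun p : Bool × W × V =>
      (⟨if p.1 then x * ((p.2.1 : G) * p.2.2) else (p.2.1 : G) * p.2.2, p.2.1, p.2.1.2, p.2.2, p.2.2.2, by
        by_cases hp : p.1 = true
        · right; rw [if_pos hp]
        · left; rw [if_neg hp]⟩ : X)) ?_
    rintro ⟨i, a, b⟩ ⟨j, a', b'⟩ e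
    have e1 := congrArg Subtype.val e
    have hu : ∀ a b a' b' : G, a ∈ W → b ∈ V → a' ∈ W → b' ∈ V → a * b = a' * b' → a = a' ∧ b = b' :=
      fun a b a' b' ha hb ha' hb' e => h.uniq (hW ha) (hW ha') (hV hb) (hV hb') e
    cases i <;> cases j
    · have e2 : (a : G) * b = (a' : G) * b' := by simpa using e1
      obtain ⟨e3, e4⟩ := hu _ _ _ _ a.2 b.2 a'.2 b'.2 e2
      rw [Subtype.ext e3, Subtype.ext e4]
    · exfalso
      have e2 : (a : G) * b = x * ((a' : G) * b') := by simpa using e1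
      exact hnot _ a.2 _ b.2 _ a'.2 _ b'.2 e2
    · exfalso
      have e2 : x * ((a : G) * b) = (a' : G) * b' := by simpa using e1
      exact hnot _ a'.2 _ b'.2 _ a.2 _ b.2 e2.symm
    · have e2 : (a : G) * b = (a' : G) * b' := by
        have e3 : x * ((a : G) * b) = x * ((a' : G) * b') := by simpa using e1
        exact mul_left_cancel e3
      obtain ⟨e3, e4⟩ := hu _ _ _ _ a.2 b.2 a'.2 b'.2 e2
      rw [Subtype.ext e3, Subtype.ext e4]

end Two

end Cfsg.Agent.StdRank2.L3W.Tab
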